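import Groth.Agent.LocPres.Conv
import Groth.Agent.PullFlat.Site

/-!
# Finite type and finite presentation under kernels, cokernels and extensions
-/

set_option autoImplicit false
set_option linter.style.haveILetI false
set_option linter.dupNamespace false

universe u

open CategoryTheory CategoryTheory.Limits Opposite ModSite

namespace Groth.Agent.LocPres

open Groth.Agent.ModFlat (rs map_val_smul map_val_comp map_ring_comp)
open Groth.Agent.PullFlat (appS appS_res appS_comp appS_injective exists_local_lift exists_local_boundary exists_preimage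
  exists_cover_bind eq_of_locally eq_zero_of_locally)

variable {C : Type u} [SmallCategory C] {J : GrothendieckTopology C} {O : Sheaf J CommRingCat.{u}}

/-- Finitely many local properties hold on one cover. -/
theorem exists_cover_forall {U : C} : ∀ {n : ℕ} (P : Fin n → ∀ ⦃V : C⦄, (V ⟶ U) → Prop),
    (∀ i, ∃ S ∈ J U, ∀ ⦃V : C⦄ (g : V ⟶ U), S g → P i g) →
    ∃ S ∈ J U, ∀ ⦃V : C⦄ (g : V ⟶ U), S g → ∀ i, P i g := by
  intro n
  induction n with
  | zero => exact fun P _ => ⟨⊤, J.top_mem U, fun V g _ i => i.elim0⟩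
  | succ n ih =>
    intro P h
    obtain ⟨S, hS, hS'⟩ := h 0
    obtain ⟨T, hT, hT'⟩ := ih (fun i => P i.succ) (fun i => h i.succ)
    exact ⟨S ⊓ T, J.intersection_covering hS hT, fun V g hg i =>
      Fin.cases (motive := fun i => P i g) (hS' g hg.1) (fun i => hT' g hg.2 i) i⟩

theorem exists_kernel_el {F G : Mod O} (θ : F ⟶ G) {U : C} (x : sect F U) (h : appS θ U x = 0) :
    ∃ z : sect (kernel θ) U, appS (kernel.ι θ) U z = x := by
  have : PreservesLimit (parallelPair θ 0) (SheafOfModules.forget (ringSh O) ⋙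
      PresheafOfModules.evaluation (ringSh O).obj (op U)) := inferInstance
  let G' := SheafOfModules.forget (ringSh O) ⋙ PresheafOfModules.evaluation (ringSh O).obj (op U)
  have he : (PreservesKernel.iso G' θ).inv ≫ G'.map (kernel.ι θ) = kernel.ι (G'.map θ) := by
    rw [Iso.inv_comp_eq, PreservesKernel.iso_hom, kernelComparison_comp_ι]
  refine ⟨(PreservesKernel.iso G' θ).inv ((ModuleCat.kernelIsoKer (G'.map θ)).inv ⟨x, h⟩), ?_⟩
  refine (congr($he ((ModuleCat.kernelIsoKer (G'.map θ)).inv ⟨x, h⟩))).trans ?_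
  exact congr($(ModuleCat.kernelIsoKer_inv_kernel_ι (G'.map θ)) ⟨x, h⟩)

theorem appS_sum_smul {F G : Mod O} (φ : F ⟶ G) {U : C} {n : ℕ} (c : Fin n → O.obj.obj (op U))
    (x : Fin n → sect F U) : appS φ U (∑ i, c i • x i) = ∑ i, c i • appS φ U (x i) :=
  (map_sum (appS φ U) _ _).trans (Finset.sum_congr rfl fun _ _ => map_smul _ _ _)

theorem rs_sum_smul {F : Mod O} {U V : C} (g : V ⟶ U) {n : ℕ} (c : Fin n → O.obj.obj (op U))
    (x : Fin n → sect F U) : rs F g (∑ i, c i • x i) = ∑ i, (O.obj.map g.op).hom (c i) • rs F g (x i) :=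
  (map_sum (rs F g) _ _).trans (Finset.sum_congr rfl fun _ _ => map_val_smul _ _ _)

/-- Locally, finitely many sections are combinations of generators. -/
theorem LocGen.exists_coords {F : Mod O} {X : C} (G : LocGen F X) {n : ℕ} (x : Fin n → sect F X) :
    ∃ S ∈ J X, ∀ ⦃V : C⦄ (g : V ⟶ X), S g → ∀ j, ∃ c : Fin G.n → O.obj.obj (op V),
      ∑ i, c i • rs F g (G.s i) = rs F g (x j) :=
  exists_cover_forall _ fun j => by
    obtain ⟨S, hS, hS'⟩ := G.gen (𝟙 X) (x j)
    refine ⟨S, hS, fun V g hg => ?_⟩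
    obtain ⟨c, hc⟩ := hS' g hg
    exact ⟨c, by simpa using hc⟩

/-- The kernel of an epimorphism from a module of finite type to one of finite presentation. -/
theorem isFiniteType_kernel {G F : Mod O} (θ : G ⟶ F) [Epi θ]
    [SheafOfModules.IsFiniteType (R := ringSh O) G] [SheafOfModules.IsFinitePresentation (R := ringSh O) F] :
    SheafOfModules.IsFiniteType (R := ringSh O) (kernel θ) := by
  refine isFiniteType_of_cover fun U => ?_
  obtain ⟨S₁, hS₁, hS₁'⟩ := exists_cover_locGen G U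
  obtain ⟨S₂, hS₂, hS₂'⟩ := exists_cover_locPres F U
  refine exists_cover_bind _ (J.intersection_covering hS₁ hS₂) fun V g hg => ?_
  obtain ⟨Q⟩ := hS₁' g hg.1
  obtain ⟨P⟩ := hS₂' g hg.2
  obtain ⟨T₁, hT₁, hT₁'⟩ := P.toGen.exists_coords (fun j => appS θ V (Q.s j))
  obtain ⟨T₂, hT₂, hT₂'⟩ := Groth.Agent.PullFlat.exists_local_lifts θ P.s
  refine ⟨T₁ ⊓ T₂, J.intersection_covering hT₁ hT₂, fun W h hh => ?_⟩
  choose a ha using hT₁' h hh.1
  obtain ⟨l, hl⟩ := hT₂' h hh.2
  change Fin P.n → sect G W at l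
  let P' := P.restrict h
  let e : Fin Q.n → sect G W := fun j => rs G h (Q.s j) - ∑ i, (show O.obj.obj (op W) from a j i) • l i
  let f : Fin P.m → sect G W := fun k => ∑ i, P'.r k i • l i
  have he : ∀ j, appS θ W (e j) = 0 := fun j => by
    rw [map_sub, appS_res, appS_sum_smul]
    refine sub_eq_zero.2 ((ha j).symm.trans (Finset.sum_congr rfl fun i _ => ?_))
    rw [hl i]; rfl
  have hf : ∀ k, appS θ W (f k) = 0 := fun k => by
    rw [appS_sum_smul]
    refine Eq.trans (Finset.sum_congr rfl fun i _ => ?_) (P'.rel k)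
    rw [hl i]; rfl
  choose e' he' using fun j => exists_kernel_el θ (e j) (he j)
  choose f' hf' using fun k => exists_kernel_el θ (f k) (hf k)
  refine ⟨⟨Q.n + P.m, Fin.append e' f', fun {T} b x => ?_⟩⟩
  obtain ⟨R, hR, hR'⟩ := Q.gen (b ≫ h) (appS (kernel.ι θ) T x)
  refine exists_cover_bind _ hR fun T' t ht => ?_
  obtain ⟨c, hc⟩ := hR' t ht
  let v : Fin P.n → O.obj.obj (op T') := fun i => ∑ j, c j * (O.obj.map (t ≫ b).op).hom (a j i)
  have hv : ∑ i, v i • rs F (t ≫ b) (P'.s i) = 0 := by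
    have h0 : appS θ T' (rs G t (appS (kernel.ι θ) T x)) = 0 := by
      rw [← appS_res, ← appS_comp, kernel.condition]; rfl
    rw [← hc, appS_sum_smul] at h0
    refine Eq.trans ?_ h0
    simp only [v, Finset.sum_smul]
    rw [Finset.sum_comm]
    refine Finset.sum_congr rfl fun j _ => ?_
    rw [show t ≫ b ≫ h = (t ≫ b) ≫ h from (Category.assoc _ _ _).symm, map_val_comp (t ≫ b) h, appS_res, appS_res,
      ← ha j]
    simp only [← smul_smul, ← Finset.smul_sum]
    refine congrArg (c j • ·) (Eq.trans ?_ (rs_sum_smul _ _ _).symm)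
    exact Finset.sum_congr rfl fun i _ => rfl
  obtain ⟨R', hR₂, hR₂'⟩ := P'.relgen (t ≫ b) v hv
  refine ⟨R', hR₂, fun T'' t' ht' => ?_⟩
  obtain ⟨d, hd⟩ := hR₂' t' ht'
  refine ⟨Fin.append (fun j => (O.obj.map t'.op).hom (c j)) d, ?_⟩
  refine appS_injective (kernel.ι θ) T'' ?_
  rw [appS_sum_smul, Fin.sum_univ_add]
  simp only [Fin.append_left, Fin.append_right, appS_res, he', hf', e, f]
  rw [map_val_comp t' t, ← hc, rs_sum_smul]
  simp only [map_sub, rs_sum_smul, smul_sub, Finset.sum_sub_distrib, Finset.smul_sum, smul_smul]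
  simp only [← map_val_comp, Category.assoc]
  have H : ∀ L : Fin P.n → sect G T'',
      ∑ j, ∑ i, ((O.obj.map t'.op).hom (c j) * (O.obj.map (t' ≫ t ≫ b).op).hom (a j i)) • L i =
        ∑ k, ∑ i, (d k * (O.obj.map (t' ≫ t ≫ b).op).hom (P'.r k i)) • L i := fun L => by
    rw [Finset.sum_comm]
    conv_rhs => rw [Finset.sum_comm]
    refine Finset.sum_congr rfl fun i _ => ?_
    rw [← Finset.sum_smul, ← Finset.sum_smul]
    refine congrArg (· • L i) ?_
    have h2 := hd i
    simp only [v, map_sum, map_mul, ← map_ring_comp] at h2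
    exact h2
  rw [H]
  exact sub_add_cancel _ _

/-- An extension of modules of finite type. -/
theorem isFiniteType_extension (S : ShortComplex (Mod O)) (hS : S.ShortExact)
    [SheafOfModules.IsFiniteType (R := ringSh O) S.X₁] [SheafOfModules.IsFiniteType (R := ringSh O) S.X₃] :
    SheafOfModules.IsFiniteType (R := ringSh O) S.X₂ := by
  haveI := hS.epi_g
  refine isFiniteType_of_cover fun U => ?_
  obtain ⟨S₁, hS₁, hS₁'⟩ := exists_cover_locGen S.X₁ U
  obtain ⟨S₂, hS₂, hS₂'⟩ := exists_cover_locGen S.X₃ U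
  refine exists_cover_bind _ (J.intersection_covering hS₁ hS₂) fun V g hg => ?_
  obtain ⟨A⟩ := hS₁' g hg.1
  obtain ⟨B⟩ := hS₂' g hg.2
  obtain ⟨T, hT, hT'⟩ := Groth.Agent.PullFlat.exists_local_lifts S.g B.s
  refine ⟨T, hT, fun W h hh => ?_⟩
  obtain ⟨l, hl⟩ := hT' h hh
  refine ⟨⟨A.n + B.n, Fin.append (fun i => appS S.f W (rs S.X₁ h (A.s i))) l, fun {Z} b x => ?_⟩⟩
  obtain ⟨R, hR, hR'⟩ := B.gen (b ≫ h) (appS S.g Z x)
  refine exists_cover_bind _ hR fun Z' t ht => ?_
  obtain ⟨c, hc⟩ := hR' t ht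
  obtain ⟨y, hy⟩ := exists_preimage hS (rs S.X₂ t x - ∑ i, c i • rs S.X₂ (t ≫ b) (l i)) (by
    rw [map_sub, appS_res, ← hc, appS_sum_smul, sub_eq_zero]
    refine Finset.sum_congr rfl fun i _ => ?_
    rw [appS_res, hl i, ← map_val_comp, Category.assoc])
  obtain ⟨R', hR₂, hR₂'⟩ := A.gen (t ≫ b ≫ h) y
  refine ⟨R', hR₂, fun Z'' t' ht' => ?_⟩
  obtain ⟨d, hd⟩ := hR₂' t' ht'
  refine ⟨Fin.append d (fun i => (O.obj.map t'.op).hom (c i)), ?_⟩
  rw [Fin.sum_univ_add]
  simp only [Fin.append_left, Fin.append_right]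
  have h1 := congrArg (rs S.X₂ t') hy
  rw [← appS_res, ← hd, appS_sum_smul, map_sub, rs_sum_smul, eq_sub_iff_add_eq, ← map_val_comp t' t x] at h1
  refine Eq.trans ?_ h1
  simp only [← appS_res, ← map_val_comp, Category.assoc]

/-- The cokernel of a map from a module of finite type to one of finite presentation. -/
theorem isFinitePresentation_cokernel {G F : Mod O} (φ : G ⟶ F)
    [SheafOfModules.IsFiniteType (R := ringSh O) G] [SheafOfModules.IsFinitePresentation (R := ringSh O) F] :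
    SheafOfModules.IsFinitePresentation (R := ringSh O) (cokernel φ) := by
  refine isFinitePresentation_of_cover fun U => ?_
  obtain ⟨S₁, hS₁, hS₁'⟩ := exists_cover_locGen G U
  obtain ⟨S₂, hS₂, hS₂'⟩ := exists_cover_locPres F U
  refine exists_cover_bind _ (J.intersection_covering hS₁ hS₂) fun V g hg => ?_
  obtain ⟨Q⟩ := hS₁' g hg.1
  obtain ⟨P⟩ := hS₂' g hg.2
  obtain ⟨T₁, hT₁, hT₁'⟩ := P.toGen.exists_coords (fun j => appS φ V (Q.s j))
  refine ⟨T₁, hT₁, fun W h hh => ?_⟩
  choose a ha using hT₁' h hh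
  let P' := P.restrict h
  let π := cokernel.π φ
  have hex : (ShortComplex.mk φ π (cokernel.condition φ)).Exact :=
    ShortComplex.exact_of_g_is_cokernel _ (cokernelIsCokernel φ)
  refine ⟨⟨P.n, P.m + Q.n, fun i => appS π W (P'.s i), Fin.append P'.r a, fun k => ?_,
    fun {T} b x => ?_, fun {T} b c hc => ?_⟩⟩
  · refine Fin.addCases (fun k => ?_) (fun j => ?_) k
    · simp only [Fin.append_left]
      exact (appS_sum_smul π _ _).symm.trans ((congrArg _ (P'.rel k)).trans (map_zero _))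
    · simp only [Fin.append_right]
      refine (appS_sum_smul π _ _).symm.trans ?_
      refine (congrArg (appS π W) (ha j)).trans ?_
      rw [← appS_res, ← appS_comp, cokernel.condition]
      rfl
  · obtain ⟨R, hR, hR'⟩ := exists_local_lift π x
    refine exists_cover_bind _ hR fun T' t ht => ?_
    obtain ⟨y, hy⟩ := hR' t ht
    obtain ⟨R', hR₂, hR₂'⟩ := P'.gen (t ≫ b) y
    refine ⟨R', hR₂, fun T'' t' ht' => ?_⟩
    obtain ⟨c, hc⟩ := hR₂' t' ht'
    refine ⟨c, ?_⟩
    rw [map_val_comp t' t, ← hy, ← appS_res, ← hc, appS_sum_smul, Category.assoc]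
    exact Finset.sum_congr rfl fun i _ => by rw [appS_res]
  · obtain ⟨R, hR, hR'⟩ := exists_local_boundary _ hex (fun _ : Fin 1 => ∑ i, c i • rs F b (P'.s i)) (fun _ => by
      refine Eq.trans (appS_sum_smul π _ _) ?_
      refine Eq.trans ?_ hc
      exact Finset.sum_congr rfl fun i _ => by rw [appS_res])
    refine exists_cover_bind _ hR fun T' t ht => ?_
    obtain ⟨y, hy⟩ := hR' t ht
    obtain ⟨R', hR₂, hR₂'⟩ := Q.gen ((t ≫ b) ≫ h) (y 0)
    refine exists_cover_bind _ hR₂ fun T'' t' ht' => ?_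
    obtain ⟨d, hd⟩ := hR₂' t' ht'
    let v : Fin P.n → O.obj.obj (op T'') := fun i =>
      (O.obj.map (t' ≫ t).op).hom (c i) - ∑ j, d j * (O.obj.map ((t' ≫ t) ≫ b).op).hom (a j i)
    have hv : ∑ i, v i • rs F ((t' ≫ t) ≫ b) (P'.s i) = 0 := by
      simp only [v, sub_smul, Finset.sum_sub_distrib, Finset.sum_smul]
      rw [Finset.sum_comm, sub_eq_zero]
      have h1 := congrArg (rs F t') (hy 0)
      rw [← appS_res, ← hd, appS_sum_smul, ← map_val_comp, rs_sum_smul] at h1
      simp only [← map_val_comp, Category.assoc] at h1 ⊢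
      refine h1.symm.trans (Finset.sum_congr rfl fun j _ => ?_)
      rw [appS_res, show t' ≫ t ≫ b ≫ h = (t' ≫ t ≫ b) ≫ h by simp only [Category.assoc], map_val_comp _ h]
      simp only [← smul_smul, ← Finset.smul_sum]
      refine congrArg (d j • ·) ((congrArg (rs F (t' ≫ t ≫ b)) (ha j)).symm.trans ((rs_sum_smul _ _ _).trans ?_))
      exact Finset.sum_congr rfl fun i _ => rfl
    obtain ⟨R₃, hR₃, hR₃'⟩ := P'.relgen _ v hv
    refine ⟨R₃, hR₃, fun T₃ t₃ ht₃ => ?_⟩
    obtain ⟨e, he⟩ := hR₃' t₃ ht₃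
    refine ⟨Fin.append e (fun j => (O.obj.map t₃.op).hom (d j)), fun i => ?_⟩
    rw [Fin.sum_univ_add]
    simp only [Fin.append_left, Fin.append_right]
    have h2 := he i
    simp only [v, map_sub, map_sum, map_mul, ← map_ring_comp, sub_eq_iff_eq_add, Category.assoc] at h2 ⊢
    exact h2

end Groth.Agent.LocPres
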