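import Groth.Agent.LocPres.Pull
import Mathlib.Algebra.Category.ModuleCat.Sheaf.LocallyFree

/-!
# Inverse images of modules of finite type, finite presentation, and locally free modules
-/

set_option autoImplicit false
set_option linter.style.haveILetI false
set_option linter.dupNamespace false

universe u

open CategoryTheory CategoryTheory.Limits Opposite ModSite

namespace Groth.Agent.LocPres

open Groth.Agent.ModFlat (rs map_val_smul map_val_comp map_ring_comp)
open Groth.Agent.PullFlat
open Groth.Agent.ModAlg (el el_locally_injective hom_el)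

section Site

variable {C : Type u} [SmallCategory C] {J : GrothendieckTopology C} {O : Sheaf J CommRingCat.{u}}
  {F : Mod O} {X : C} {I : Type u}

/-- The generators of generating sections on a slice, as sections. -/
noncomputable abbrev genVals (σ : SheafOfModules.GeneratingSections (SheafOfModules.over (R := ringSh O) F X))
    (i : σ.I) : sect F X :=
  (σ.s i).val (op (CategoryTheory.Over.mk (𝟙 X)))

/-- Free generators on a slice are free in terms of sections. -/
theorem isIndep_of_generatingSections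
    (σ : SheafOfModules.GeneratingSections (SheafOfModules.over (R := ringSh O) F X)) [IsIso σ.π] :
    IsIndep (genVals σ) := by
  intro T a c hc
  let p : SheafOfModules.free (R := ringSh (O.over X)) σ.I ⟶ (restr O X).obj F := σ.π
  haveI : IsIso p := inferInstanceAs (IsIso σ.π)
  have h1 : σ.π.val.app (op (CategoryTheory.Over.mk a)) (el (R := ringSh (O.over X)) _ c) = combS (genVals σ) a c := by
    refine (hom_el (R := ringSh (O.over X)) σ.π (op (CategoryTheory.Over.mk a)) c).trans ?_
    refine congrArg (fun v : σ.I → sect F T => Finsupp.linearCombination (O.obj.obj (op T)) v c) (funext fun i => ?_)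
    refine Eq.trans (congrArg (fun t => (t i).val (op (CategoryTheory.Over.mk a)))
      ((SheafOfModules.freeHomEquiv _).apply_symm_apply σ.s)) ?_
    exact ((σ.s i).property (CategoryTheory.Over.homMk a (Category.comp_id _) :
      CategoryTheory.Over.mk a ⟶ CategoryTheory.Over.mk (𝟙 X)).op).symm
  have h2 : el (R := ringSh (O.over X)) (op (CategoryTheory.Over.mk a)) c = 0 :=
    Groth.Agent.ModAlg.app_injective p _ ((h1.trans hc).trans (map_zero _).symm)
  obtain ⟨S, hS, hS'⟩ := el_locally_injective (R := ringSh (O.over X)) (T := op (CategoryTheory.Over.mk a)) c h2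
  refine ⟨Sieve.overEquiv _ S, (J.mem_over_iff S).1 hS, fun V g hg i => ?_⟩
  exact hS' (CategoryTheory.Over.homMk g rfl : CategoryTheory.Over.mk (g ≫ a) ⟶ CategoryTheory.Over.mk a)
    ((Sieve.overEquiv_iff S g).1 hg) i

theorem isGen_restrict {s : I → sect F X} (h : IsGen s) {Y : C} (p : Y ⟶ X) : IsGen (fun i => rs F p (s i)) := by
  intro T a x
  obtain ⟨S, hS, hS'⟩ := h (a ≫ p) x
  refine ⟨S, hS, fun V g hg => ?_⟩
  obtain ⟨c, hc⟩ := hS' g hg
  refine ⟨c, Eq.trans ?_ hc⟩
  refine congrArg (fun v => Finsupp.linearCombination (O.obj.obj (op V)) v c) (funext fun i => ?_)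
  rw [← map_val_comp, Category.assoc]

/-- Local generators from families on a cover. -/
theorem nonempty_localGeneratorsData_of_cover
    (h : ∀ U : C, ∃ S ∈ J U, ∀ ⦃V : C⦄ (g : V ⟶ U), S g → ∃ (I : Type u) (s : I → sect F V), IsGen s) :
    Nonempty (SheafOfModules.LocalGeneratorsData.{u} (R := ringSh O) F) := by
  let P : C → Prop := fun V => ∃ (I : Type u) (s : I → sect F V), IsGen s
  exact ⟨
    { I := {V : C // P V}
      X := fun i => i.1
      coversTop := fun U => by
        obtain ⟨S, hS, hS'⟩ := h U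
        refine J.superset_covering (fun V g hg => ?_) hS
        exact (Sieve.mem_ofObjects_iff ..).mpr ⟨⟨V, hS' g hg⟩, ⟨𝟙 V⟩⟩
      generators := fun i => i.2.choose_spec.choose_spec.generatingSections }⟩

/-- Locally free modules from free families on a cover. -/
theorem isLocallyFree_of_cover
    (h : ∀ U : C, ∃ S ∈ J U, ∀ ⦃V : C⦄ (g : V ⟶ U), S g →
      ∃ (I : Type u) (s : I → sect F V), IsGen s ∧ IsIndep s) :
    SheafOfModules.IsLocallyFree (R := ringSh O) F := by
  let P : C → Prop := fun V => ∃ (I : Type u) (s : I → sect F V), IsGen s ∧ IsIndep s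
  let q : SheafOfModules.LocalGeneratorsData.{u} (R := ringSh O) F :=
    { I := {V : C // P V}
      X := fun i => i.1
      coversTop := fun U => by
        obtain ⟨S, hS, hS'⟩ := h U
        refine J.superset_covering (fun V g hg => ?_) hS
        exact (Sieve.mem_ofObjects_iff ..).mpr ⟨⟨V, hS' g hg⟩, ⟨𝟙 V⟩⟩
      generators := fun i => i.2.choose_spec.choose_spec.1.generatingSections }
  have hiso : ∀ i : q.I, IsIso (q.generators i).π := fun i => by
    haveI : Epi (genHom i.2.choose_spec.choose) := epi_genHom i.2.choose_spec.choose_spec.1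
    haveI : Mono (genHom i.2.choose_spec.choose) := mono_genHom i.2.choose_spec.choose_spec.2
    exact isIso_of_mono_of_epi (genHom i.2.choose_spec.choose)
  exact SheafOfModules.IsLocallyFree.mk (R := ringSh O) (M := F)
    ⟨q, SheafOfModules.LocalGeneratorsData.IsLocallyFreeData.mk (q := q) hiso⟩

end Site

variable {C D : Type u} [SmallCategory C] [SmallCategory D] {J : GrothendieckTopology C}
  {K : GrothendieckTopology D} {O_C : Sheaf J CommRingCat.{u}} {O_D : Sheaf K CommRingCat.{u}}
  (f : RMor O_C O_D) {M : Mod O_D}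

/-- Objects over a covering of the target cover the source. -/
theorem exists_cover_over (Q : C → Prop)
    (P : D → Prop) (hP : ∀ V : D, ∃ R ∈ K V, ∀ ⦃V' : D⦄ (r : V' ⟶ V), R r → P V')
    (hPQ : ∀ {V : D} {W : C}, P V → (W ⟶ f.fn.obj V) → Q W) (U : C) :
    ∃ S ∈ J U, ∀ ⦃W : C⦄ (g : W ⟶ U), S g → Q W := by
  obtain ⟨S, hS, hS'⟩ := (covFlat_rmor f).some U
  refine exists_cover_bind _ hS fun W g hg => ?_
  obtain ⟨V, ⟨a⟩⟩ := hS' g hg
  obtain ⟨R, hR, hR'⟩ := hP V
  obtain ⟨T, hT, hT'⟩ := (covFlat_rmor f).cover R hR a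
  refine ⟨T, hT, fun W' h hh => ?_⟩
  obtain ⟨V', r, b, hr, -⟩ := hT' h hh
  exact hPQ (hR' r hr) b

theorem rs_combS {I : Type u} {W : C} {X : D} (b : W ⟶ f.fn.obj X) (s : I → sect M X) {T : C} (a : T ⟶ W)
    (c : I →₀ O_C.obj.obj (op T)) :
    combS (fun i => rs (f.pull.obj M) b (etaS f M X (s i))) a c = combS (fun i => etaS f M X (s i)) (a ≫ b) c :=
  congrArg (fun v => Finsupp.linearCombination (O_C.obj.obj (op T)) v c)
    (funext fun _ => (map_val_comp a b _).symm)

theorem isIndep_pull {I : Type u} {X : D} {s : I → sect M X} (hg : IsGen s) (hi : IsIndep s) {W : C}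
    (b : W ⟶ f.fn.obj X) : IsIndep (fun i => rs (f.pull.obj M) b (etaS f M X (s i))) := by
  intro T a c hc
  rw [rs_combS] at hc
  obtain ⟨S, hS, hS'⟩ := exists_relation f hg (a ≫ b) c hc
  refine exists_cover_bind _ hS fun T₁ g hgm => ?_
  obtain ⟨V, q, b₁, N, β, e, -, hβ, hce⟩ := hS' g hgm
  obtain ⟨R, hR, hR'⟩ := exists_cover_forall (J := K)
    (fun (l : Fin N) (Z : D) (z : Z ⟶ V) => ∀ i, (O_D.obj.map z.op).hom (β l i) = 0)
    (fun l => hi q (β l) (hβ l))
  obtain ⟨S₂, hS₂, hS₂'⟩ := (covFlat_rmor f).cover R hR b₁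
  refine ⟨S₂, hS₂, fun T₂ g₂ hg₂ i => ?_⟩
  obtain ⟨V', r, b₂, hr, hb₂⟩ := hS₂' g₂ hg₂
  have h := congrArg (fun v => (O_C.obj.map g₂.op).hom (v i)) hce
  simp only [Finsupp.mapRange_apply, Finsupp.finsetSum_apply, Finsupp.smul_apply, smul_eq_mul, map_sum, map_mul] at h
  rw [map_ring_comp, h]
  refine Finset.sum_eq_zero fun l _ => ?_
  rw [show (O_C.obj.map g₂.op).hom (plV f b₁ (β l) i) = 0 from ?_, mul_zero]
  rw [plV, Finsupp.mapRange_apply, pl_res, hb₂, ← pl_map, hR' r hr l i, map_zero]

theorem isGen_pull' {I : Type u} {X : D} {s : I → sect M X} (hg : IsGen s) {W : C} (b : W ⟶ f.fn.obj X) :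
    IsGen (fun i => rs (f.pull.obj M) b (etaS f M X (s i))) :=
  isGen_restrict (isGen_pull f hg) b

/-- The inverse image of a presentation. -/
theorem nonempty_locPres_pull {X : D} (P : LocPres M X) {W : C} (b : W ⟶ f.fn.obj X) :
    Nonempty (LocPres (f.pull.obj M) W) := by
  refine ⟨⟨P.n, P.m, fun i => rs (f.pull.obj M) b (etaS f M X (P.s i)), fun k i => pl f b (P.r k i),
    fun k => ?_, fun {T} a x => ?_, fun {T} a c hc => ?_⟩⟩
  · have h1 := genVal_sum (f := f) (M := M) b (P.r k) P.s
    rw [P.rel k] at h1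
    refine h1.symm.trans ?_
    exact (congrArg (rs (f.pull.obj M) b) (map_zero ((f.adj.unit.app M).val.app (op X)).hom)).trans (map_zero _)
  · obtain ⟨S, hS, hS'⟩ := isGen_pull' f P.toGen.isGen b a x
    refine ⟨S, hS, fun V g hg => ?_⟩
    obtain ⟨c, hc⟩ := hS' g hg
    refine ⟨fun i => c ⟨i⟩, Eq.trans ?_ hc⟩
    rw [combS_eq_sum]
    exact (sum_ulift (fun i => c i)
      (fun i => rs (f.pull.obj M) (g ≫ a) (rs (f.pull.obj M) b (etaS f M X (P.s i))))).symm
  · let c' : ULift.{u} (Fin P.n) →₀ O_C.obj.obj (op T) := Finsupp.equivFunOnFinite.symm fun i => c i.down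
    have hc' : combS (fun i : ULift.{u} (Fin P.n) => rs (f.pull.obj M) b (etaS f M X (P.s i.down))) a c' = 0 := by
      rw [combS_eq_sum, ← hc]
      exact Fintype.sum_equiv Equiv.ulift _ _ fun i => rfl
    have hc'' := (rs_combS f b (fun i : ULift.{u} (Fin P.n) => P.s i.down) a c').symm.trans hc'
    obtain ⟨S, hS, hS'⟩ := exists_relation f P.toGen.isGen (a ≫ b) c' hc''
    refine exists_cover_bind _ hS fun T₁ g hg => ?_
    obtain ⟨V, q, b₁, N, β, e, hq, hβ, hce⟩ := hS' g hg
    obtain ⟨R, hR, hR'⟩ := exists_cover_forall (J := K)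
      (fun (l : Fin N) (Z : D) (z : Z ⟶ V) => ∃ d : Fin P.m → O_D.obj.obj (op Z), ∀ i,
        (O_D.obj.map z.op).hom (β l ⟨i⟩) = ∑ k, d k * (O_D.obj.map (z ≫ q).op).hom (P.r k i))
      (fun l => P.relgen q (fun i => β l ⟨i⟩) (by
        refine Eq.trans ?_ (hβ l)
        rw [combS_eq_sum]
        exact (sum_ulift (fun i => β l i) (fun i => rs M q (P.s i))).symm))
    obtain ⟨S₂, hS₂, hS₂'⟩ := (covFlat_rmor f).cover R hR b₁
    refine ⟨S₂, hS₂, fun T₂ g₂ hg₂ => ?_⟩
    obtain ⟨V', r, b₂, hr, hb₂⟩ := hS₂' g₂ hg₂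
    choose d hd using hR' r hr
    refine ⟨fun k => ∑ l, (O_C.obj.map g₂.op).hom (e l) * pl f b₂ (d l k), fun i => ?_⟩
    have h := congrArg (fun v => (O_C.obj.map g₂.op).hom (v ⟨i⟩)) hce
    simp only [Finsupp.mapRange_apply, Finsupp.finsetSum_apply, Finsupp.smul_apply, smul_eq_mul, map_sum,
      map_mul] at h
    rw [map_ring_comp]
    refine h.trans ?_
    have hk : ∀ k, (O_C.obj.map ((g₂ ≫ g) ≫ a).op).hom (pl f b (P.r k i)) =
        pl f b₂ ((O_D.obj.map (r ≫ q).op).hom (P.r k i)) := fun k => by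
      rw [pl_map, pl_res]
      refine congrArg (fun z => pl f z (P.r k i)) ?_
      rw [Category.assoc, Category.assoc, hq, reassoc_of% hb₂, f.fn.map_comp]
    simp only [hk, Finset.sum_mul]
    rw [Finset.sum_comm]
    refine Finset.sum_congr rfl fun l _ => ?_
    simp only [mul_assoc, ← Finset.mul_sum]
    refine congrArg (_ * ·) ?_
    rw [plV, Finsupp.mapRange_apply, pl_res, hb₂, ← pl_map, hd l i, map_sum]
    exact Finset.sum_congr rfl fun k _ => map_mul _ _ _

variable (M)

theorem isFiniteType_pull [SheafOfModules.IsFiniteType (R := ringSh O_D) M] :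
    SheafOfModules.IsFiniteType (R := ringSh O_C) (f.pull.obj M) := by
  refine isFiniteType_of_cover fun U => ?_
  refine exists_cover_over f (fun W => Nonempty (LocGen (f.pull.obj M) W))
    (fun V => Nonempty (LocGen M V)) (fun V => exists_cover_locGen M V) ?_ U
  rintro V W ⟨G⟩ b
  refine ⟨⟨G.n, fun i => rs (f.pull.obj M) b (etaS f M V (G.s i)), fun {T} a x => ?_⟩⟩
  obtain ⟨S, hS, hS'⟩ := isGen_pull' f G.isGen b a x
  refine ⟨S, hS, fun Z g hg => ?_⟩
  obtain ⟨c, hc⟩ := hS' g hg
  refine ⟨fun i => c ⟨i⟩, Eq.trans ?_ hc⟩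
  rw [combS_eq_sum]
  exact (sum_ulift (fun i => c i)
    (fun i => rs (f.pull.obj M) (g ≫ a) (rs (f.pull.obj M) b (etaS f M V (G.s i))))).symm

theorem isFinitePresentation_pull [SheafOfModules.IsFinitePresentation (R := ringSh O_D) M] :
    SheafOfModules.IsFinitePresentation (R := ringSh O_C) (f.pull.obj M) :=
  isFinitePresentation_of_cover fun U =>
    exists_cover_over f (fun W => Nonempty (LocPres (f.pull.obj M) W))
      (fun V => Nonempty (LocPres M V)) (fun V => exists_cover_locPres M V)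
      (fun ⟨P⟩ b => nonempty_locPres_pull f P b) U

theorem nonempty_localGeneratorsData_pull
    (h : Nonempty (SheafOfModules.LocalGeneratorsData.{u} (R := ringSh O_D) M)) :
    Nonempty (SheafOfModules.LocalGeneratorsData.{u} (R := ringSh O_C) (f.pull.obj M)) := by
  obtain ⟨q⟩ := h
  refine nonempty_localGeneratorsData_of_cover fun U => ?_
  refine exists_cover_over f (fun W => ∃ (I : Type u) (s : I → sect (f.pull.obj M) W), IsGen s)
    (fun V => ∃ (I : Type u) (s : I → sect M V), IsGen s) (fun V => ?_) ?_ U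
  · refine ⟨_, q.coversTop V, fun V' r hr => ?_⟩
    obtain ⟨i, ⟨p⟩⟩ := (Sieve.mem_ofObjects_iff ..).mp hr
    exact ⟨_, _, isGen_restrict (isGen_of_generatingSections (q.generators i)) p⟩
  · rintro V W ⟨I, s, hs⟩ b
    exact ⟨I, _, isGen_pull' f hs b⟩

theorem isLocallyFree_pull [SheafOfModules.IsLocallyFree (R := ringSh O_D) M] :
    SheafOfModules.IsLocallyFree (R := ringSh O_C) (f.pull.obj M) := by
  obtain ⟨q, hq⟩ := SheafOfModules.IsLocallyFree.exists_isLocallyFreeData (M := M)
  refine isLocallyFree_of_cover fun U => ?_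
  refine exists_cover_over f (fun W => ∃ (I : Type u) (s : I → sect (f.pull.obj M) W), IsGen s ∧ IsIndep s)
    (fun V => ∃ (X : D) (_ : V ⟶ X) (I : Type u) (s : I → sect M X), IsGen s ∧ IsIndep s)
    (fun V => ?_) ?_ U
  · refine ⟨_, q.coversTop V, fun V' r hr => ?_⟩
    obtain ⟨i, ⟨p⟩⟩ := (Sieve.mem_ofObjects_iff ..).mp hr
    haveI := hq.isIso i
    exact ⟨q.X i, p, _, genVals (q.generators i), isGen_of_generatingSections (q.generators i),
      isIndep_of_generatingSections (q.generators i)⟩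
  · rintro V W ⟨X, p, I, s, hs, hi⟩ b
    exact ⟨I, _, isGen_pull' f hs (b ≫ f.fn.map p), isIndep_pull f hs hi (b ≫ f.fn.map p)⟩

end Groth.Agent.LocPres
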