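import Groth.Agent.LocPres.Inverse

/-!
# Presentations with arbitrary index types in terms of sections, and their inverse images
-/

set_option autoImplicit false
set_option linter.style.haveILetI false
set_option linter.dupNamespace false

universe u

open CategoryTheory CategoryTheory.Limits Opposite ModSite

namespace Groth.Agent.LocPres

open Groth.Agent.ModFlat (rs map_val_smul map_val_comp map_ring_comp)
open Groth.Agent.PullFlat
open Groth.Agent.ModAlg (el el_locally_surjective el_locally_injective hom_el)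

section Site

variable {C : Type u} [SmallCategory C] {J : GrothendieckTopology C} {O : Sheaf J CommRingCat.{u}}
  {F : Mod O} {X : C} {I : Type u}

/-- Restriction is transitive on combinations. -/
theorem combS_rs (s : I → sect F X) {Y : C} (p : Y ⟶ X) {T : C} (a : T ⟶ Y) (c : I →₀ O.obj.obj (op T)) :
    combS (fun i => rs F p (s i)) a c = combS s (a ≫ p) c :=
  congrArg (fun v => Finsupp.linearCombination (O.obj.obj (op T)) v c)
    (funext fun _ => (map_val_comp a p _).symm)

theorem isIndep_restrict {s : I → sect F X} (h : IsIndep s) {Y : C} (p : Y ⟶ X) :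
    IsIndep (fun i => rs F p (s i)) := fun _ a c hc => h (a ≫ p) c ((combS_rs s p a c).symm.trans hc)

/-- Generation of the relations of `s` by `z`, measured in a free family `t`. -/
structure GPres (F : Mod O) (X : C) where
  G : Mod O
  I : Type u
  K : Type u
  t : I → sect G X
  s : I → sect F X
  z : K → sect G X
  tgen : IsGen t
  tindep : IsIndep t
  sgen : IsGen s
  vanish : ∀ ⦃T : C⦄ (a : T ⟶ X) (c : I →₀ O.obj.obj (op T)) (k : K),
    combS t a c = rs G a (z k) → combS s a c = 0
  gen : ∀ ⦃T : C⦄ (a : T ⟶ X) (c : I →₀ O.obj.obj (op T)), combS s a c = 0 →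
    ∃ S ∈ J T, ∀ ⦃V : C⦄ (g : V ⟶ T), S g → ∃ d : K →₀ O.obj.obj (op V),
      combS z (g ≫ a) d = rs G g (combS t a c)

/-- Restriction of a presentation. -/
noncomputable def GPres.restrict (P : GPres F X) {Y : C} (p : Y ⟶ X) : GPres F Y where
  G := P.G
  I := P.I
  K := P.K
  t i := rs P.G p (P.t i)
  s i := rs F p (P.s i)
  z k := rs P.G p (P.z k)
  tgen := isGen_restrict P.tgen p
  tindep := isIndep_restrict P.tindep p
  sgen := isGen_restrict P.sgen p
  vanish T a c k h := by
    rw [combS_rs] at h ⊢
    exact P.vanish (a ≫ p) c k (h.trans (map_val_comp a p _).symm)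
  gen T a c h := by
    rw [combS_rs] at h
    obtain ⟨S, hS, hS'⟩ := P.gen (a ≫ p) c h
    refine ⟨S, hS, fun V g hg => ?_⟩
    obtain ⟨d, hd⟩ := hS' g hg
    exact ⟨d, by rw [combS_rs, combS_rs, Category.assoc]; exact hd⟩

/-- The basis of a free module, as sections. -/
noncomputable abbrev freeT (O : Sheaf J CommRingCat.{u}) (X : C) (I : Type u) (i : I) :
    sect (SheafOfModules.free (R := ringSh O) I : Mod O) X :=
  Groth.Agent.ModAlg.basisEl (R := ringSh O) i (op X)

theorem combS_freeT {T : C} (a : T ⟶ X) (c : I →₀ O.obj.obj (op T)) :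
    combS (freeT O X I) a c = el (R := ringSh O) (op T) c :=
  congrArg (fun v : I → sect (SheafOfModules.free (R := ringSh O) I : Mod O) T =>
      Finsupp.linearCombination (O.obj.obj (op T)) v c)
    (funext fun i => (SheafOfModules.freeSection (R := ringSh O) i).property a.op)

theorem isGen_freeT : IsGen (freeT O X I) := by
  intro T a x
  obtain ⟨S, hS, hS'⟩ := el_locally_surjective (R := ringSh O) (T := op T) x
  refine ⟨S, hS, fun V g hg => ?_⟩
  obtain ⟨c, hc⟩ := hS' g hg
  exact ⟨c, (combS_freeT (g ≫ a) c).trans hc.symm⟩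

theorem isIndep_freeT : IsIndep (freeT O X I) := fun T a c hc =>
  el_locally_injective (R := ringSh O) (T := op T) c ((combS_freeT a c).symm.trans hc)

theorem π_el (σ : SheafOfModules.GeneratingSections (SheafOfModules.over (R := ringSh O) F X))
    (T : (CategoryTheory.Over X)ᵒᵖ) (c : σ.I →₀ O.obj.obj (op T.unop.left)) :
    σ.π.val.app T (el (R := ringSh (O.over X)) T c) = combS (genVals σ) T.unop.hom c := by
  refine (hom_el (R := ringSh (O.over X)) σ.π T c).trans ?_
  refine congrArg (fun v : σ.I → sect F T.unop.left => Finsupp.linearCombination (O.obj.obj (op T.unop.left)) v c)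
    (funext fun i => ?_)
  refine Eq.trans (congrArg (fun t => (t i).val T) ((SheafOfModules.freeHomEquiv _).apply_symm_apply σ.s)) ?_
  exact ((σ.s i).property (CategoryTheory.Over.homMk T.unop.hom (Category.comp_id _) :
    T.unop ⟶ CategoryTheory.Over.mk (𝟙 X)).op).symm

/-- A presentation on a slice, in terms of sections. -/
theorem nonempty_gPres_of_presentation (p : SheafOfModules.Presentation (SheafOfModules.over (R := ringSh O) F X)) :
    Nonempty (GPres F X) := by
  let R' := ringSh (O.over X)
  let I := p.generators.I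
  let G : Mod O := (SheafOfModules.free (R := ringSh O) I : Mod O)
  let e := genHom (freeT O X I)
  haveI : Mono e := mono_genHom isIndep_freeT
  let T₀ : (CategoryTheory.Over X)ᵒᵖ := op (CategoryTheory.Over.mk (𝟙 X))
  let zk : p.relations.I → ∀ T, (SheafOfModules.free (R := R') I).val.obj T := fun k T =>
    (kernel.ι p.generators.π).val.app T ((p.relations.s k).val T)
  let z : p.relations.I → sect G X := fun k => e.val.app T₀ (zk k T₀)
  have hz : ∀ k (T : (CategoryTheory.Over X)ᵒᵖ), e.val.app T (zk k T) = rs G T.unop.hom (z k) := fun k T => by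
    let h : T₀ ⟶ T := (CategoryTheory.Over.homMk T.unop.hom (Category.comp_id _) :
      T.unop ⟶ CategoryTheory.Over.mk (𝟙 X)).op
    refine Eq.trans ?_ (PresheafOfModules.naturality_apply (kernel.ι p.generators.π ≫ e).val h
      ((p.relations.s k).val T₀))
    exact congrArg ((kernel.ι p.generators.π ≫ e).val.app T) ((p.relations.s k).property h).symm
  refine ⟨⟨G, I, p.relations.I, freeT O X I, genVals p.generators, z, isGen_freeT, isIndep_freeT,
    isGen_of_generatingSections p.generators, fun T a c k h => ?_, fun T a c h => ?_⟩⟩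
  · let A : (CategoryTheory.Over X)ᵒᵖ := op (CategoryTheory.Over.mk a)
    have h1 : el (R := R') A c = zk k A :=
      Groth.Agent.ModAlg.app_injective e A (((genHom_el (freeT O X I) A c).trans h).trans (hz k A).symm)
    refine (π_el p.generators A c).symm.trans ((congrArg _ h1).trans ?_)
    exact congrArg (fun t => t.val.app A ((p.relations.s k).val A)) (kernel.condition p.generators.π)
  · let A : CategoryTheory.Over X := CategoryTheory.Over.mk a
    have h1 : p.generators.π.val.app (op A) (el (R := R') (op A) c) = 0 := (π_el p.generators (op A) c).trans h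
    obtain ⟨y, hy⟩ := exists_kernel_el (O := O.over X) p.generators.π (el (R := R') (op A) c) h1
    let q : SheafOfModules.free (R := R') p.relations.I ⟶
        (kernel p.generators.π : Mod (O.over X)) := p.relations.π
    haveI : Epi q := p.relations.epi
    obtain ⟨S, hS, hS'⟩ := exists_local_lift (O := O.over X) q (U := A) y
    refine exists_cover_bind _ ((J.mem_over_iff S).1 hS) fun V g hg => ?_
    obtain ⟨w, hw⟩ := hS' (CategoryTheory.Over.homMk g rfl : CategoryTheory.Over.mk (g ≫ a) ⟶ A)
      ((Sieve.overEquiv_iff S g).1 hg)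
    obtain ⟨R, hR, hR'⟩ := el_locally_surjective (R := R') (T := op (CategoryTheory.Over.mk (g ≫ a))) w
    refine ⟨Sieve.overEquiv _ R, (J.mem_over_iff R).1 hR, fun W h hh => ?_⟩
    let B : CategoryTheory.Over X := CategoryTheory.Over.mk ((h ≫ g) ≫ a)
    let hB : B ⟶ A := CategoryTheory.Over.homMk (h ≫ g) rfl
    let hBg : B ⟶ CategoryTheory.Over.mk (g ≫ a) := CategoryTheory.Over.homMk h (Category.assoc _ _ _).symm
    have hBR : R hBg := by
      have h3 := (Sieve.overEquiv_iff R h).1 hh
      have h4 := R.downward_closed h3 (CategoryTheory.Over.homMk (𝟙 W) (by simp [B]) :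
        B ⟶ CategoryTheory.Over.mk (h ≫ g ≫ a))
      convert h4 using 1
      ext
      exact (Category.id_comp h).symm
    obtain ⟨d, hd⟩ := hR' hBg hBR
    refine ⟨d, ?_⟩
    let Φ := p.relations.π ≫ kernel.ι p.generators.π ≫ e
    have e1 : Φ.val.app (op B) (el (R := R') (op B) d) = combS z ((h ≫ g) ≫ a) d := by
      refine (hom_el (R := R') Φ (op B) d).trans ?_
      refine congrArg (fun v : p.relations.I → sect G W => Finsupp.linearCombination (O.obj.obj (op W)) v d)
        (funext fun k => ?_)
      refine Eq.trans ?_ (hz k (op B))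
      exact congrArg (fun t => e.val.app (op B) ((kernel.ι p.generators.π).val.app (op B) ((t k).val (op B))))
        ((SheafOfModules.freeHomEquiv _).apply_symm_apply p.relations.s)
    rw [← e1, ← hd]
    refine (PresheafOfModules.naturality_apply Φ.val hBg.op w).trans ?_
    refine Eq.trans (congrArg (fun t => rs G h (show sect G V from
      e.val.app (op (CategoryTheory.Over.mk (g ≫ a)))
        ((kernel.ι p.generators.π).val.app (op (CategoryTheory.Over.mk (g ≫ a))) t))) hw) ?_
    refine Eq.trans (congrArg (rs G h) (PresheafOfModules.naturality_apply (kernel.ι p.generators.π ≫ e).val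
      (CategoryTheory.Over.homMk g rfl : CategoryTheory.Over.mk (g ≫ a) ⟶ A).op y)) ?_
    refine (map_val_comp h g _).symm.trans ?_
    refine congrArg (rs G (h ≫ g)) ?_
    refine Eq.trans ?_ (genHom_el (freeT O X I) (op A) c)
    exact congrArg (e.val.app (op A)) hy

/-- A presentation on the slice from one in terms of sections. -/
theorem GPres.nonempty_presentation (P : GPres F X) :
    Nonempty (SheafOfModules.Presentation (SheafOfModules.over (R := ringSh O) F X)) := by
  let R' := ringSh (O.over X)
  let e := genHom P.t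
  haveI : Epi e := epi_genHom P.tgen
  haveI : Mono e := mono_genHom P.tindep
  haveI : IsIso e := isIso_of_mono_of_epi e
  haveI : Epi (genHom P.s) := epi_genHom P.sgen
  let ρ : SheafOfModules.free (R := R') P.K ⟶ SheafOfModules.free (R := R') P.I := genHom P.z ≫ inv e
  have hρ : ∀ (T : (CategoryTheory.Over X)ᵒᵖ) (d : P.K →₀ O.obj.obj (op T.unop.left)),
      e.val.app T (ρ.val.app T (el (R := R') T d)) = combS P.z T.unop.hom d := fun T d => by
    refine Eq.trans ?_ (genHom_el P.z T d)
    refine (appS_comp (O := O.over X) ρ e _).symm.trans ?_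
    exact congrArg (fun t => t.val.app T (el (R := R') T d))
      (show ρ ≫ e = genHom P.z by simp [ρ])
  have w : ρ ≫ genHom P.s = 0 :=
    Cofan.IsColimit.hom_ext (SheafOfModules.isColimitFreeCofan (R := R') _) _ _ fun k => by
      refine ((restr O X).obj F).unitHomEquiv.injective (PresheafOfModules.sections_ext _ _ fun T => ?_)
      show (genHom P.s).val.app T (ρ.val.app T ((SheafOfModules.ιFree k).val.app T (1 : R'.obj.obj T))) =
        ((0 : SheafOfModules.unit R' ⟶ (restr O X).obj F)).val.app T (1 : R'.obj.obj T)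
      rw [← Groth.Agent.ModAlg.basisEl_eq,
        show Groth.Agent.ModAlg.basisEl (R := R') k T = el (R := R') T (Finsupp.single k 1) by
          rw [Groth.Agent.ModAlg.el_single, one_smul]]
      let x := ρ.val.app T (el (R := R') T (Finsupp.single k 1))
      obtain ⟨S, hS, hS'⟩ := el_locally_surjective (R := R') (T := T) x
      refine eq_zero_of_locally (O_C := O.over X) ((restr O X).obj F) hS _ fun V g hg => ?_
      obtain ⟨c, hc⟩ := hS' g hg
      refine (PresheafOfModules.naturality_apply (genHom P.s).val g.op x).symm.trans ?_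
      refine (congrArg _ hc).trans ((genHom_el P.s (op V) c).trans (P.vanish V.hom c k ?_))
      rw [← genHom_el P.t (op V) c, ← hc]
      refine (PresheafOfModules.naturality_apply e.val g.op x).trans ?_
      refine (congrArg _ (hρ T _)).trans ?_
      refine (congrArg (rs P.G g.left) ((combS_single P.z _ k 1).trans (one_smul _ _))).trans ?_
      exact (map_val_comp g.left T.unop.hom _).symm.trans
        (congrArg (fun q => rs P.G q (P.z k)) (CategoryTheory.Over.w g))
  have hex : (ShortComplex.mk ρ (genHom P.s) w).Exact := by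
    rw [ShortComplex.exact_iff_epi_kernel_lift]
    show Epi (kernel.lift (genHom P.s) ρ w)
    refine Groth.Agent.ModAlg.epi_of_locally (R := R') _ fun T z => ?_
    let zι := (kernel.ι (genHom P.s)).val.app T z
    obtain ⟨S₁, hS₁, hS₁'⟩ := el_locally_surjective (R := R') (T := T) zι
    refine exists_cover_bind (J := J.over X) _ hS₁ fun V f hf => ?_
    obtain ⟨c, hc⟩ := hS₁' f hf
    have h0 : combS P.s V.hom c = 0 := by
      rw [← genHom_el P.s (op V) c]
      refine (congrArg _ hc).symm.trans ?_
      refine (PresheafOfModules.naturality_apply (genHom P.s).val f.op zι).trans ?_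
      refine (congrArg _ (?_ : (genHom P.s).val.app T zι = 0)).trans (map_zero _)
      exact congrArg (fun t => t.val.app T z) (kernel.condition (genHom P.s))
    obtain ⟨S₂, hS₂, hS₂'⟩ := P.gen V.hom c h0
    refine ⟨_, J.overEquiv_symm_mem_over V S₂ hS₂, fun W h hh => ?_⟩
    obtain ⟨d, hd⟩ := hS₂' h.left hh
    refine ⟨el (R := R') (op W) d, ?_⟩
    apply Groth.Agent.ModAlg.app_injective (R := R') (kernel.ι (genHom P.s)) (op W)
    refine Eq.trans (appS_comp (O := O.over X) (kernel.lift (genHom P.s) ρ w) (kernel.ι (genHom P.s)) _).symm ?_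
    rw [kernel.lift_ι]
    refine Eq.trans ?_ (PresheafOfModules.naturality_apply (kernel.ι (genHom P.s)).val (h ≫ f).op z).symm
    apply Groth.Agent.ModAlg.app_injective (R := R') e (op W)
    refine (hρ (op W) d).trans ?_
    rw [op_comp, PresheafOfModules.map_comp_apply]
    refine Eq.trans ?_ (congrArg (fun t => e.val.app (op W) ((SheafOfModules.free (R := R') P.I).val.map h.op t)) hc).symm
    refine Eq.trans ?_ (PresheafOfModules.naturality_apply e.val h.op _).symm
    refine Eq.trans ?_ (congrArg (rs P.G h.left) (genHom_el P.t (op V) c)).symm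
    refine Eq.trans ?_ hd
    exact congrArg (fun q => combS P.z q d) (CategoryTheory.Over.w h).symm
  exact ⟨SheafOfModules.presentationOfIsCokernelFree ρ (genHom P.s) w hex.gIsCokernel⟩

/-- Quasicoherent modules have presentations locally, in terms of sections. -/
theorem exists_cover_gPres (F : Mod O) [SheafOfModules.IsQuasicoherent (R := ringSh O) F] (U : C) :
    ∃ S ∈ J U, ∀ ⦃V : C⦄ (g : V ⟶ U), S g → Nonempty (GPres F V) := by
  obtain ⟨q⟩ := SheafOfModules.IsQuasicoherent.nonempty_quasicoherentData (M := F)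
  refine ⟨_, q.coversTop U, fun V g hg => ?_⟩
  obtain ⟨i, ⟨h⟩⟩ := (Sieve.mem_ofObjects_iff ..).mp hg
  exact (nonempty_gPres_of_presentation (q.presentation i)).map fun P => P.restrict h

/-- Modules with presentations locally are quasicoherent. -/
theorem isQuasicoherent_of_cover
    (h : ∀ U : C, ∃ S ∈ J U, ∀ ⦃V : C⦄ (g : V ⟶ U), S g → Nonempty (GPres F V)) :
    SheafOfModules.IsQuasicoherent (R := ringSh O) F :=
  SheafOfModules.QuasicoherentData.isQuasicoherent (R := ringSh O) (M := F)
    { I := {V : C // Nonempty (GPres F V)}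
      X := fun i => i.1
      coversTop := fun U => by
        obtain ⟨S, hS, hS'⟩ := h U
        refine J.superset_covering (fun V g hg => ?_) hS
        exact (Sieve.mem_ofObjects_iff ..).mpr ⟨⟨V, hS' g hg⟩, ⟨𝟙 V⟩⟩
      presentation := fun i => i.2.some.nonempty_presentation.some }

end Site

variable {C D : Type u} [SmallCategory C] [SmallCategory D] {J : GrothendieckTopology C}
  {K : GrothendieckTopology D} {O_C : Sheaf J CommRingCat.{u}} {O_D : Sheaf K CommRingCat.{u}}
  (f : RMor O_C O_D) {M : Mod O_D}

/-- The inverse image of a presentation in terms of sections. -/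
theorem nonempty_gPres_pull {X : D} (P : GPres M X) {W : C} (b : W ⟶ f.fn.obj X) :
    Nonempty (GPres (f.pull.obj M) W) := by
  let t' : P.I → sect (f.pull.obj P.G) W := fun i => rs (f.pull.obj P.G) b (etaS f P.G X (P.t i))
  let s' : P.I → sect (f.pull.obj M) W := fun i => rs (f.pull.obj M) b (etaS f M X (P.s i))
  let z' : P.K → sect (f.pull.obj P.G) W := fun k => rs (f.pull.obj P.G) b (etaS f P.G X (P.z k))
  refine ⟨⟨f.pull.obj P.G, P.I, P.K, t', s', z', isGen_pull' f P.tgen b, isIndep_pull f P.tgen P.tindep b,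
    isGen_pull' f P.sgen b, fun T a c k h => ?_, fun T a c h => ?_⟩⟩
  · obtain ⟨R, hR, hR'⟩ := P.tgen (𝟙 X) (P.z k)
    obtain ⟨S, hS, hS'⟩ := (covFlat_rmor f).cover R hR (a ≫ b)
    have key : ∀ ⦃T₁ : C⦄ (g : T₁ ⟶ T), S g → ∃ S₁ ∈ J T₁, ∀ ⦃T₂ : C⦄ (g₁ : T₂ ⟶ T₁), S₁ g₁ →
        rs (f.pull.obj M) (g₁ ≫ g) (combS s' a c) = 0 := fun T₁ g hg => by
      obtain ⟨V, r, b₁, hr, hb₁⟩ := hS' g hg
      obtain ⟨c₀, hc₀⟩ := hR' r hr
      rw [Category.comp_id] at hc₀
      have e0 : (g ≫ a) ≫ b = b₁ ≫ f.fn.map r := (Category.assoc _ _ _).trans hb₁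
      let c₁ := c.mapRange (O_C.obj.map g.op).hom (map_zero _) - plV f b₁ c₀
      have h1 : combS t' (g ≫ a) c₁ = 0 := by
        rw [map_sub, ← combS_res, h, sub_eq_zero, rs_combS, e0, ← genVal_combS, hc₀]
        show rs _ g (rs _ a (rs _ b _)) = rs _ b₁ (etaS f P.G V _)
        rw [etaS_map, ← map_val_comp, ← map_val_comp, ← map_val_comp, e0]
      obtain ⟨S₁, hS₁, hS₁'⟩ := isIndep_pull f P.tgen P.tindep b (g ≫ a) c₁ h1
      refine ⟨S₁, hS₁, fun T₂ g₁ hg₁ => ?_⟩
      have h2 : combS s' (g₁ ≫ g ≫ a) (c₁.mapRange (O_C.obj.map g₁.op).hom (map_zero _)) = 0 := by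
        rw [show c₁.mapRange (O_C.obj.map g₁.op).hom (map_zero _) = 0 from
          Finsupp.ext fun i => Finsupp.mapRange_apply.trans (hS₁' g₁ hg₁ i), map_zero]
      rw [← combS_res, map_sub, ← combS_res, map_sub, ← map_val_comp, sub_eq_zero] at h2
      rw [h2, rs_combS, e0, ← genVal_combS,
        P.vanish r c₀ k (by rw [hc₀])]
      refine (congrArg (rs (f.pull.obj M) g₁) (?_ : genVal f M ⟨V, b₁, 0⟩ = 0)).trans (map_zero _)
      exact (congrArg (rs (f.pull.obj M) b₁) (map_zero ((f.adj.unit.app M).val.app (op V)).hom)).trans (map_zero _)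
    obtain ⟨S', hS', hS''⟩ := exists_cover_bind
      (fun (T₂ : C) (g : T₂ ⟶ T) => rs (f.pull.obj M) g (combS s' a c) = 0) hS key
    exact eq_zero_of_locally _ hS' _ hS''
  · rw [rs_combS] at h
    obtain ⟨S, hS, hS'⟩ := exists_relation f P.sgen (a ≫ b) c h
    refine exists_cover_bind _ hS fun T₁ g hg => ?_
    obtain ⟨V, q, b₁, N, β, e, hq, hβ, hce⟩ := hS' g hg
    obtain ⟨R, hR, hR'⟩ := exists_cover_forall (J := K)
      (fun (l : Fin N) (Z : D) (z : Z ⟶ V) => ∃ d : P.K →₀ O_D.obj.obj (op Z),
        combS P.z (z ≫ q) d = rs P.G z (combS P.t q (β l)))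
      (fun l => P.gen q (β l) (hβ l))
    obtain ⟨S₂, hS₂, hS₂'⟩ := (covFlat_rmor f).cover R hR b₁
    refine ⟨S₂, hS₂, fun T₂ g₂ hg₂ => ?_⟩
    obtain ⟨V', r, b₂, hr, hb₂⟩ := hS₂' g₂ hg₂
    choose d hd using hR' r hr
    refine ⟨∑ l, (O_C.obj.map g₂.op).hom (e l) • plV f b₂ (d l), ?_⟩
    have e1 : ((g₂ ≫ g) ≫ a) ≫ b = b₂ ≫ f.fn.map (r ≫ q) := by
      rw [Category.assoc, Category.assoc, hq, reassoc_of% hb₂, f.fn.map_comp]
    have e2 : (g ≫ a) ≫ b = b₁ ≫ f.fn.map q := (Category.assoc _ _ _).trans hq
    rw [map_sum, map_val_comp g₂ g, combS_res, hce, map_sum, map_sum]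
    refine Finset.sum_congr rfl fun l _ => ?_
    rw [map_smul, map_smul, map_val_smul, rs_combS, rs_combS, e1, e2, ← genVal_combS, ← genVal_combS, hd l,
      ← genVal_map, ← hb₂, ← genVal_res]
    rfl

theorem isQuasicoherent_pull (M : Mod O_D) [SheafOfModules.IsQuasicoherent (R := ringSh O_D) M] :
    SheafOfModules.IsQuasicoherent (R := ringSh O_C) (f.pull.obj M) :=
  isQuasicoherent_of_cover fun U =>
    exists_cover_over f (fun W => Nonempty (GPres (f.pull.obj M) W))
      (fun V => Nonempty (GPres M V)) (fun V => exists_cover_gPres M V)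
      (fun ⟨P⟩ b => nonempty_gPres_pull f P b) U

end Groth.Agent.LocPres
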