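import Groth.Agent.ModShf.ToSheaf
import Groth.Agent.PullFlat.Exact
import Mathlib.CategoryTheory.Limits.ConcreteCategory.Basic

/-!
# Local sections of filtered colimits of modules
-/

set_option autoImplicit false
set_option linter.style.haveILetI false

universe u

open CategoryTheory CategoryTheory.Limits Opposite ModSite

namespace Groth.Agent.LocPres

open Groth.Agent.ModFlat (rs map_val_comp)
open Groth.Agent.PullFlat (appS appS_res appS_comp)

variable {C : Type u} [SmallCategory C] {J : GrothendieckTopology C}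

section Ab

variable {Λ : Type u} [SmallCategory Λ] [IsFiltered Λ] (D : Λ ⥤ Sheaf J AddCommGrpCat.{u}) (c : Cocone D)
  (hc : IsColimit c)

/-- The underlying diagram of presheaves. -/
abbrev preD : Λ ⥤ (Cᵒᵖ ⥤ AddCommGrpCat.{u}) := D ⋙ sheafToPresheaf J AddCommGrpCat.{u}

/-- The comparison from the colimit of presheaves. -/
noncomputable def fromPreColim : colimit (preD D) ⟶ c.pt.obj :=
  colimit.desc (preD D) ((sheafToPresheaf J AddCommGrpCat.{u}).mapCocone c)

include hc in
/-- The comparison is locally bijective. -/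
theorem isLocallyBijective_fromPreColim :
    Presheaf.IsLocallyInjective J (fromPreColim D c) ∧ Presheaf.IsLocallySurjective J (fromPreColim D c) := by
  let adj := sheafificationAdjunction J AddCommGrpCat.{u}
  let k' : (presheafToSheaf J AddCommGrpCat.{u}).obj (colimit (preD D)) ⟶ c.pt :=
    (adj.homEquiv _ _).symm (fromPreColim D c)
  have hfac : toSheafify J (colimit (preD D)) ≫ k'.hom = fromPreColim D c := by
    have := (adj.homEquiv _ _).apply_symm_apply (fromPreColim D c)
    rwa [Adjunction.homEquiv_unit] at this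
  let inc : ∀ l, D.obj l ⟶ (presheafToSheaf J AddCommGrpCat.{u}).obj (colimit (preD D)) := fun l =>
    ⟨colimit.ι (preD D) l ≫ toSheafify J _⟩
  let d : Cocone D :=
    { pt := (presheafToSheaf J AddCommGrpCat.{u}).obj (colimit (preD D))
      ι :=
        { app := inc
          naturality := fun l l' f => Sheaf.hom_ext (by
            show (D.map f).hom ≫ colimit.ι (preD D) l' ≫ _ = (colimit.ι (preD D) l ≫ _) ≫ 𝟙 _
            rw [Category.comp_id, ← Category.assoc]
            exact congrArg (· ≫ _) (colimit.w (preD D) f)) } }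
  haveI : IsIso k' := by
    refine ⟨hc.desc d, ?_, hc.hom_ext fun l => ?_⟩
    · refine (adj.homEquiv _ _).injective ?_
      rw [Adjunction.homEquiv_unit, Adjunction.homEquiv_unit]
      refine colimit.hom_ext fun l => ?_
      show colimit.ι (preD D) l ≫ toSheafify J _ ≫ k'.hom ≫ (hc.desc d).hom = colimit.ι (preD D) l ≫ toSheafify J _ ≫ 𝟙 _
      rw [reassoc_of% hfac, Category.comp_id]
      refine (colimit.ι_desc_assoc _ _ _).trans ?_
      exact congrArg (fun t => t.hom) (hc.fac d l)
    · rw [hc.fac_assoc, Category.comp_id]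
      refine Sheaf.hom_ext ?_
      show (colimit.ι (preD D) l ≫ toSheafify J _) ≫ k'.hom = (c.ι.app l).hom
      rw [Category.assoc, hfac]
      exact colimit.ι_desc _ _
  haveI : IsIso k'.hom := inferInstanceAs (IsIso ((sheafToPresheaf J AddCommGrpCat.{u}).map k'))
  rw [← hfac]
  exact ⟨inferInstance, inferInstance⟩

include hc in
theorem ab_exists_stage {U : C} (x : c.pt.obj.obj (op U)) :
    ∃ S ∈ J U, ∀ ⦃V : C⦄ (g : V ⟶ U), S g → ∃ (l : Λ) (y : (D.obj l).obj.obj (op V)),
      (c.ι.app l).hom.app (op V) y = c.pt.obj.map g.op x := by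
  haveI := (isLocallyBijective_fromPreColim D c hc).2
  refine ⟨_, Presheaf.imageSieve_mem J (fromPreColim D c) x, fun V g ⟨p, hp⟩ => ?_⟩
  obtain ⟨l, y, hy⟩ := Concrete.isColimit_exists_rep _
    (isColimitOfPreserves ((evaluation Cᵒᵖ AddCommGrpCat.{u}).obj (op V)) (colimit.isColimit (preD D))) p
  refine ⟨l, y, ?_⟩
  refine Eq.trans ?_ hp
  rw [← hy]
  exact (ConcreteCategory.congr_hom (congrArg (fun t => t.app (op V))
    (colimit.ι_desc ((sheafToPresheaf J AddCommGrpCat.{u}).mapCocone c) l)) y).symm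

include hc in
theorem ab_exists_zero_stage {U : C} {l : Λ} (y : (D.obj l).obj.obj (op U))
    (hy : (c.ι.app l).hom.app (op U) y = 0) :
    ∃ S ∈ J U, ∀ ⦃V : C⦄ (g : V ⟶ U), S g → ∃ (m : Λ) (f : l ⟶ m),
      (D.map f).hom.app (op V) ((D.obj l).obj.map g.op y) = 0 := by
  haveI := (isLocallyBijective_fromPreColim D c hc).1
  have h0 : (fromPreColim D c).app (op U) ((colimit.ι (preD D) l).app (op U) y) =
      (fromPreColim D c).app (op U) 0 := by
    rw [map_zero]
    refine Eq.trans ?_ hy
    exact ConcreteCategory.congr_hom (congrArg (fun t => t.app (op U))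
      (colimit.ι_desc ((sheafToPresheaf J AddCommGrpCat.{u}).mapCocone c) l)) y
  refine ⟨_, Presheaf.equalizerSieve_mem J (fromPreColim D c) _ _ h0, fun V g hg => ?_⟩
  have hg' : (colimit (preD D)).map g.op ((colimit.ι (preD D) l).app (op U) y) =
      (colimit (preD D)).map g.op 0 := hg
  rw [map_zero, ← NatTrans.naturality_apply, ← map_zero ((colimit.ι (preD D) l).app (op V)).hom] at hg'
  obtain ⟨m, f, f', hff⟩ := (Types.FilteredColimit.isColimit_eq_iff _
    (isColimitOfPreserves (forget AddCommGrpCat.{u})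
      (isColimitOfPreserves ((evaluation Cᵒᵖ AddCommGrpCat.{u}).obj (op V)) (colimit.isColimit (preD D))))
    (i := l) (j := l) (xi := (D.obj l).obj.map g.op y) (xj := (0 : (D.obj l).obj.obj (op V)))).1 hg'
  exact ⟨m, f, hff.trans (map_zero ((D.map f').hom.app (op V)).hom)⟩

end Ab

variable {O : Sheaf J CommRingCat.{u}} {Λ : Type u} [SmallCategory Λ] [IsFiltered Λ] {D : Λ ⥤ Mod O}
  {c : Cocone D} (hc : IsColimit c)

include hc in
/-- Sections of a filtered colimit come locally from a stage. -/
theorem exists_stage {U : C} (x : sect c.pt U) :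
    ∃ S ∈ J U, ∀ ⦃V : C⦄ (g : V ⟶ U), S g → ∃ (l : Λ) (y : sect (D.obj l) V),
      appS (c.ι.app l) V y = rs c.pt g x := by
  haveI := Groth.Agent.ModShf.toSheafPreservesColimitsOfShape (ringSh O) Λ
  exact ab_exists_stage _ _ (isColimitOfPreserves (SheafOfModules.toSheaf (ringSh O)) hc) x

include hc in
/-- Sections killed in a filtered colimit are locally killed at a later stage. -/
theorem exists_zero_stage {U : C} {l : Λ} (y : sect (D.obj l) U) (hy : appS (c.ι.app l) U y = 0) :
    ∃ S ∈ J U, ∀ ⦃V : C⦄ (g : V ⟶ U), S g → ∃ (m : Λ) (f : l ⟶ m),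
      appS (D.map f) V (rs (D.obj l) g y) = 0 := by
  haveI := Groth.Agent.ModShf.toSheafPreservesColimitsOfShape (ringSh O) Λ
  exact ab_exists_zero_stage _ _ (isColimitOfPreserves (SheafOfModules.toSheaf (ringSh O)) hc) y hy

include hc in
/-- Finitely many sections of a filtered colimit come locally from one stage. -/
theorem exists_stages : ∀ {n : ℕ} {U : C} (x : Fin n → sect c.pt U),
    ∃ S ∈ J U, ∀ ⦃V : C⦄ (g : V ⟶ U), S g → ∃ (l : Λ) (y : Fin n → sect (D.obj l) V),
      ∀ i, appS (c.ι.app l) V (y i) = rs c.pt g (x i) := by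
  intro n
  induction n with
  | zero => exact fun {U} x => ⟨⊤, J.top_mem U, fun V g _ => ⟨IsFiltered.nonempty.some, fun i => i.elim0, fun i => i.elim0⟩⟩
  | succ n ih =>
    intro U x
    obtain ⟨S, hS, hS'⟩ := exists_stage hc (x 0)
    obtain ⟨T, hT, hT'⟩ := ih (fun i => x i.succ)
    refine ⟨S ⊓ T, J.intersection_covering hS hT, fun V g hg => ?_⟩
    obtain ⟨l, y, hy⟩ := hS' g hg.1
    obtain ⟨l', y', hy'⟩ := hT' g hg.2
    refine ⟨IsFiltered.max l l', Fin.cases (appS (D.map (IsFiltered.leftToMax l l')) V y)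
      (fun i => appS (D.map (IsFiltered.rightToMax l l')) V (y' i)), fun i => ?_⟩
    cases i using Fin.cases with
    | zero => simp only [Fin.cases_zero]; rw [← appS_comp, c.w, hy]
    | succ i => simp only [Fin.cases_succ]; rw [← appS_comp, c.w, hy']

include hc in
/-- Finitely many sections killed in a filtered colimit are locally killed at one later stage. -/
theorem exists_zero_stages : ∀ {n : ℕ} {U : C} {l : Λ} (y : Fin n → sect (D.obj l) U),
    (∀ i, appS (c.ι.app l) U (y i) = 0) →
    ∃ S ∈ J U, ∀ ⦃V : C⦄ (g : V ⟶ U), S g → ∃ (m : Λ) (f : l ⟶ m),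
      ∀ i, appS (D.map f) V (rs (D.obj l) g (y i)) = 0 := by
  intro n
  induction n with
  | zero => exact fun {U l} y _ => ⟨⊤, J.top_mem U, fun V g _ => ⟨l, 𝟙 l, fun i => i.elim0⟩⟩
  | succ n ih =>
    intro U l y hy
    obtain ⟨S, hS, hS'⟩ := exists_zero_stage hc (y 0) (hy 0)
    obtain ⟨T, hT, hT'⟩ := ih (fun i => y i.succ) (fun i => hy i.succ)
    refine ⟨S ⊓ T, J.intersection_covering hS hT, fun V g hg => ?_⟩
    obtain ⟨m, f, hf⟩ := hS' g hg.1
    obtain ⟨m', f', hf'⟩ := hT' g hg.2
    obtain ⟨q, a, b, hab⟩ := IsFiltered.span f f'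
    refine ⟨q, f ≫ a, fun i => ?_⟩
    cases i using Fin.cases with
    | zero => rw [D.map_comp, appS_comp, hf, map_zero]
    | succ i => rw [hab, D.map_comp, appS_comp, hf' i, map_zero]

end Groth.Agent.LocPres
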