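import Groth.Agent.LocPres.HomColim
import Groth.Agent.ModFlat.Relations
import Groth.Agent.LocPres.Ops

/-!
# Internal homs out of finitely presented modules and tensor products with flat modules
-/

set_option autoImplicit false
set_option linter.style.haveILetI false
set_option linter.dupNamespace false

universe u

open CategoryTheory CategoryTheory.Limits MonoidalCategory Opposite ModSite

namespace Groth.Agent.LocPres

open Groth.Agent.ModFlat (rs map_val_smul map_val_comp map_ring_comp LocTriv exists_relation_data)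
open Groth.Agent.PullFlat
open Groth.Agent.KFlat (preAdj)

variable {C : Type u} [SmallCategory C] {J : GrothendieckTopology C} {O : Sheaf J CommRingCat.{u}}

section Tens

variable {M N : Mod O}

theorem unit_locally_bijective (P : preMod O) :
    Presheaf.IsLocallyInjective J ((PresheafOfModules.toPresheaf _).map ((preAdj O).unit.app P)) ∧
      Presheaf.IsLocallySurjective J ((PresheafOfModules.toPresheaf _).map ((preAdj O).unit.app P)) :=
  (Groth.Agent.KFlat.isIso_shPre_map_iff _).1 (Groth.Agent.KFlat.isIso_shPre_map_unit P)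

theorem tmulS_zero_left {U : C} (y : sect N U) : tmulS (0 : sect M U) y = 0 :=
  map_zero (AddMonoidHom.mk' (fun m : sect M U => tmulS m y) fun a b => tmulS_add_left a b y)

theorem tmulS_sum {U : C} {k l : ℕ} (a : Fin k → Fin l → O.obj.obj (op U)) (t : Fin l → sect N U)
    (w : Fin k → sect M U) :
    ∑ j, tmulS (w j) (∑ q, a j q • t q) = ∑ q, tmulS (∑ j, a j q • w j) (t q) := by
  rw [Finset.sum_congr rfl fun j _ => tmulS_sum_right (M := M) (a j) t (w j), Finset.sum_comm]
  exact Finset.sum_congr rfl fun q _ => (tmulS_sum_left (fun j => a j q) w (t q)).symm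

/-- Sections of a tensor product are locally sums of products. -/
theorem exists_tens_repr {U : C} (z : sect (tens₂ M N) U) :
    ∃ S ∈ J U, ∀ ⦃V : C⦄ (g : V ⟶ U), S g → ∃ (k : ℕ) (x : Fin k → sect M V) (y : Fin k → sect N V),
      ∑ i, tmulS (x i) (y i) = rs (tens₂ M N) g z := by
  haveI := (unit_locally_bijective (pt₂ M N)).2
  refine ⟨_, Presheaf.imageSieve_mem J ((PresheafOfModules.toPresheaf _).map ((preAdj O).unit.app (pt₂ M N)))
    (U := op U) z, fun V g hg => ?_⟩
  obtain ⟨t, ht⟩ := hg
  let T : Type u := TensorProduct (O.obj.obj (op V)) (sect M V) (sect N V)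
  obtain ⟨ma, hma⟩ := TensorProduct.exists_finset (R := O.obj.obj (op V)) (show T from t)
  refine ⟨ma.card, fun i => (ma.equivFin.symm i).1.1, fun i => (ma.equivFin.symm i).1.2, Eq.trans ?_ ht⟩
  refine Eq.trans ?_ (congrArg (((preAdj O).unit.app (pt₂ M N)).app (op V)) hma).symm
  refine Eq.trans ?_ (map_sum (((preAdj O).unit.app (pt₂ M N)).app (op V)).hom _ _).symm
  rw [← Finset.sum_coe_sort ma]
  exact Fintype.sum_equiv ma.equivFin.symm _ _ fun i => rfl

/-- Vanishing sums of products vanish locally in the presheaf tensor product. -/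
theorem exists_tens_zero {U : C} {n : ℕ} (w : Fin n → sect M U) (h : Fin n → sect N U)
    (hz : ∑ j, tmulS (w j) (h j) = 0) :
    ∃ S ∈ J U, ∀ ⦃V : C⦄ (g : V ⟶ U), S g →
      ∑ j, (rs M g (w j) ⊗ₜ[O.obj.obj (op V)] rs N g (h j)) =
        (0 : TensorProduct (O.obj.obj (op V)) (sect M V) (sect N V)) := by
  haveI := (unit_locally_bijective (pt₂ M N)).1
  let z : (pt₂ M N).obj (op U) :=
    (∑ j, w j ⊗ₜ[O.obj.obj (op U)] h j : TensorProduct (O.obj.obj (op U)) (sect M U) (sect N U))
  have hz' : ((preAdj O).unit.app (pt₂ M N)).app (op U) z = ((preAdj O).unit.app (pt₂ M N)).app (op U) 0 := by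
    refine Eq.trans ?_ (map_zero (((preAdj O).unit.app (pt₂ M N)).app (op U)).hom).symm
    exact (map_sum (((preAdj O).unit.app (pt₂ M N)).app (op U)).hom _ _).trans hz
  refine ⟨_, Presheaf.equalizerSieve_mem J
    ((PresheafOfModules.toPresheaf _).map ((preAdj O).unit.app (pt₂ M N))) (X := op U) z 0 hz', fun V g hg => ?_⟩
  have hg' : (pt₂ M N).map g.op z = (pt₂ M N).map g.op 0 := hg
  refine Eq.trans ?_ (hg'.trans (map_zero ((pt₂ M N).map g.op).hom))
  exact (map_sum ((pt₂ M N).map g.op).hom (fun j => w j ⊗ₜ[O.obj.obj (op U)] h j) Finset.univ).symm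

/-- The equational criterion for a flat second factor. -/
theorem exists_flat_vanish (hN : LocTriv N) {U : C} {n : ℕ} (w : Fin n → sect M U) (h : Fin n → sect N U)
    (hz : ∑ j, tmulS (w j) (h j) = 0) :
    ∃ S ∈ J U, ∀ ⦃V : C⦄ (g : V ⟶ U), S g → ∃ (k : ℕ) (t : Fin k → sect N V)
      (a : Fin n → Fin k → O.obj.obj (op V)), (∀ j, rs N g (h j) = ∑ q, a j q • t q) ∧
        ∀ q, ∑ j, a j q • rs M g (w j) = 0 := by
  classical
  obtain ⟨S, hS, hS'⟩ := exists_tens_zero w h hz
  refine exists_cover_bind _ hS fun V g hg => ?_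
  let φ := Fintype.linearCombination (O.obj.obj (op V)) fun j => rs M g (w j)
  let z : TensorProduct (O.obj.obj (op V)) (Fin n → O.obj.obj (op V)) (sect N V) :=
    ∑ j, Pi.single j 1 ⊗ₜ rs N g (h j)
  obtain ⟨n', m, x, a, r, b, hza, hr, hb⟩ := exists_relation_data φ z (by
    refine Eq.trans ?_ (hS' g hg)
    rw [map_sum]
    refine Finset.sum_congr rfl fun j _ => ?_
    rw [LinearMap.rTensor_tmul, Fintype.linearCombination_apply_single, one_smul])
  obtain ⟨T, hT, hT'⟩ := hN V n' m x r hr
  refine ⟨T, hT, fun W g' hg' => ?_⟩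
  obtain ⟨k, t, c, hc, hc'⟩ := hT' g' hg'
  have hj : ∀ j, rs N g (h j) = ∑ i, a i j • x i := fun j => by
    let e := TensorProduct.lift ((LinearMap.lsmul (O.obj.obj (op V)) (sect N V)).comp
      (LinearMap.proj (φ := fun _ : Fin n => O.obj.obj (op V)) j))
    have := congrArg e hza
    simp only [z, e, map_sum, TensorProduct.lift.tmul, LinearMap.comp_apply, LinearMap.proj_apply,
      LinearMap.lsmul_apply, Pi.single_apply, ite_smul, one_smul, zero_smul, Finset.sum_ite_eq, Finset.mem_univ,
      if_true] at this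
    exact this
  refine ⟨k, t, fun j q => ∑ i, (O.obj.map g'.op).hom (a i j) * c i q, fun j => ?_, fun q => ?_⟩
  · rw [map_val_comp, hj, map_sum]
    simp only [map_val_smul, hc, Finset.smul_sum, smul_smul, Finset.sum_smul]
    exact Finset.sum_comm
  · have hb' : ∀ i, ∑ j, (O.obj.map g'.op).hom (a i j) • rs M (g' ≫ g) (w j) =
        ∑ l, (O.obj.map g'.op).hom (r l i) • rs M g' (b l) := fun i => by
      have := congrArg (rs M g') (hb i)
      simp only [φ, Fintype.linearCombination_apply, map_sum, map_val_smul, ← map_val_comp] at this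
      exact this
    simp only [Finset.sum_smul, mul_comm ((O.obj.map g'.op).hom (a _ _)) _, ← smul_smul]
    rw [Finset.sum_comm]
    simp only [← Finset.smul_sum, hb']
    simp only [Finset.smul_sum, smul_smul]
    rw [Finset.sum_comm]
    refine Finset.sum_eq_zero fun l _ => ?_
    rw [← Finset.sum_smul, hc' l q, zero_smul]

/-- The criterion for several equations at once. -/
theorem exists_flat_vanishs (hN : LocTriv N) : ∀ {m : ℕ} {U : C} {n : ℕ} (w : Fin m → Fin n → sect M U)
    (h : Fin n → sect N U), (∀ i, ∑ j, tmulS (w i j) (h j) = 0) →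
    ∃ S ∈ J U, ∀ ⦃V : C⦄ (g : V ⟶ U), S g → ∃ (k : ℕ) (t : Fin k → sect N V)
      (a : Fin n → Fin k → O.obj.obj (op V)), (∀ j, rs N g (h j) = ∑ q, a j q • t q) ∧
        ∀ i q, ∑ j, a j q • rs M g (w i j) = 0 := by
  intro m
  induction m with
  | zero =>
    intro U n w h _
    refine ⟨⊤, J.top_mem U, fun V g _ => ⟨n, fun j => rs N g (h j), fun i j => if i = j then 1 else 0,
      fun j => by simp, fun i => i.elim0⟩⟩
  | succ m ih =>
    intro U n w h hz
    obtain ⟨S, hS, hS'⟩ := exists_flat_vanish hN (w 0) h (hz 0)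
    refine exists_cover_bind _ hS fun V g hg => ?_
    obtain ⟨k, t, a, ha, ha'⟩ := hS' g hg
    obtain ⟨T, hT, hT'⟩ := ih (fun i q => ∑ j, a j q • rs M g (w i.succ j)) t (fun i => by
      rw [← tmulS_sum]
      refine Eq.trans ?_ ((congrArg (rs (tens₂ M N) g) (hz i.succ)).trans (map_zero _))
      rw [map_sum]
      exact Finset.sum_congr rfl fun j _ => by rw [tmulS_res, ha])
    refine ⟨T, hT, fun W g' hg' => ?_⟩
    obtain ⟨k', t', c, hc, hc'⟩ := hT' g' hg'
    refine ⟨k', t', fun j q' => ∑ q, (O.obj.map g'.op).hom (a j q) * c q q', fun j => ?_, fun i q' => ?_⟩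
    · rw [map_val_comp, ha, map_sum]
      simp only [map_val_smul, hc, Finset.smul_sum, smul_smul, Finset.sum_smul]
      exact Finset.sum_comm
    · have key : ∀ i' q, ∑ j, (O.obj.map g'.op).hom (a j q) • rs M (g' ≫ g) (w i' j) =
          rs M g' (∑ j, a j q • rs M g (w i' j)) := fun i' q => by
        simp only [map_sum, map_val_smul, map_val_comp]
      simp only [Finset.sum_smul, mul_comm ((O.obj.map g'.op).hom (a _ _)) _, ← smul_smul]
      rw [Finset.sum_comm]
      simp only [← Finset.smul_sum, key]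
      cases i using Fin.cases with
      | zero => simp only [ha', map_zero, smul_zero, Finset.sum_const_zero]
      | succ i => exact hc' i q'

end Tens

section Hom

variable (F : Mod O) [HasSheafHom F] {G H : Mod O}

theorem apL_toLoc_smul {U T : C} (r : O.obj.obj (op U)) (z : sect ((sheafHom F).obj G) U) (a : T ⟶ U)
    (x : sect F T) : apL (toLoc F (r • z)) a x = (O.obj.map a.op).hom r • apL (toLoc F z) a x := by
  rw [apL_toLoc, apL_toLoc, map_val_smul, tmulS_smul_left, map_smul]

theorem apL_toLoc_add {U T : C} (z z' : sect ((sheafHom F).obj G) U) (a : T ⟶ U)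
    (x : sect F T) : apL (toLoc F (z + z')) a x = apL (toLoc F z) a x + apL (toLoc F z') a x := by
  rw [apL_toLoc, apL_toLoc, apL_toLoc, map_add, tmulS_add_left, map_add]

theorem apL_toLoc_sum {U T : C} {k : ℕ} (z : Fin k → sect ((sheafHom F).obj G) U) (a : T ⟶ U)
    (x : sect F T) : apL (toLoc F (∑ j, z j)) a x = ∑ j, apL (toLoc F (z j)) a x :=
  map_sum (AddMonoidHom.mk' (fun z => apL (toLoc F z) a x) fun z z' => apL_toLoc_add F z z' a x) _ _

omit [HasSheafHom F] in
/-- Multiplication by a section of the second factor. -/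
noncomputable def rT (G : Mod O) {H : Mod O} {U : C} (h : sect H U) :
    (restr O U).obj G ⟶ (restr O U).obj (tens₂ G H) :=
  ⟨{ app := fun T => ModuleCat.ofHom (R := O.obj.obj (op T.unop.left)) (X := sect G T.unop.left)
        (Y := sect (tens₂ G H) T.unop.left)
        { toFun := fun x => tmulS x (rs H T.unop.hom h)
          map_add' := fun x y => tmulS_add_left x y _
          map_smul' := fun r x => tmulS_smul_left r x _ }
     naturality := fun {T T'} f => ModuleCat.hom_ext (LinearMap.ext fun (x : sect G T.unop.left) => by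
      show tmulS (rs G f.unop.left x) (rs H T'.unop.hom h) = rs (tens₂ G H) f.unop.left (tmulS x (rs H T.unop.hom h))
      rw [tmulS_res, ← map_val_comp f.unop.left T.unop.hom h, CategoryTheory.Over.w f.unop]) }⟩

omit [HasSheafHom F] in
theorem apL_rT {U T : C} (h : sect H U) (a : T ⟶ U) (x : sect G T) : apL (rT G h) a x = tmulS x (rs H a h) := rfl

/-- The product of a local morphism with a section, as a section of the internal hom. -/
noncomputable def prodB {U : C} (z : sect ((sheafHom F).obj G) U) (h : sect H U) :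
    sect ((sheafHom F).obj (tens₂ G H)) U :=
  ((toLoc_bijective F).2 (toLoc F z ≫ rT G h)).choose

theorem apL_prodB {U T : C} (z : sect ((sheafHom F).obj G) U) (h : sect H U) (a : T ⟶ U) (x : sect F T) :
    apL (toLoc F (prodB F z h)) a x = tmulS (apL (toLoc F z) a x) (rs H a h) := by
  rw [prodB, ((toLoc_bijective F).2 _).choose_spec]
  rfl

theorem prodB_res {U V : C} (g : V ⟶ U) (z : sect ((sheafHom F).obj G) U) (h : sect H U) :
    prodB F (rs _ g z) (rs H g h) = rs _ g (prodB F z h) :=
  (toLoc_bijective F).1 (hom_ext_apL fun a x => by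
    rw [apL_prodB, toLoc_res, apL_resL, toLoc_res, apL_resL, apL_prodB, ← map_val_comp])

theorem prodB_add_left {U : C} (z z' : sect ((sheafHom F).obj G) U) (h : sect H U) :
    prodB F (z + z') h = prodB F z h + prodB F z' h :=
  (toLoc_bijective F).1 (hom_ext_apL fun a x => by
    rw [apL_prodB, apL_toLoc_add, apL_toLoc_add, apL_prodB, apL_prodB, tmulS_add_left])

theorem prodB_smul_left {U : C} (r : O.obj.obj (op U)) (z : sect ((sheafHom F).obj G) U) (h : sect H U) :
    prodB F (r • z) h = r • prodB F z h :=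
  (toLoc_bijective F).1 (hom_ext_apL fun a x => by
    rw [apL_prodB, apL_toLoc_smul, apL_toLoc_smul, apL_prodB, tmulS_smul_left])

theorem prodB_add_right {U : C} (z : sect ((sheafHom F).obj G) U) (h h' : sect H U) :
    prodB F z (h + h') = prodB F z h + prodB F z h' :=
  (toLoc_bijective F).1 (hom_ext_apL fun a x => by
    rw [apL_prodB, apL_toLoc_add, apL_prodB, apL_prodB, map_add, tmulS_add_right])

theorem prodB_smul_right {U : C} (r : O.obj.obj (op U)) (z : sect ((sheafHom F).obj G) U) (h : sect H U) :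
    prodB F z (r • h) = r • prodB F z h :=
  (toLoc_bijective F).1 (hom_ext_apL fun a x => by
    rw [apL_prodB, apL_toLoc_smul, apL_prodB, map_val_smul, tmulS_smul_right])

/-- The comparison on presheaves. -/
noncomputable def θPre : pt₂ ((sheafHom F).obj G) H ⟶ (toPre O).obj ((sheafHom F).obj (tens₂ G H)) where
  app V := ModuleCat.ofHom (Y := ((toPre O).obj ((sheafHom F).obj (tens₂ G H))).obj V)
    (TensorProduct.lift (LinearMap.mk₂ (O.obj.obj V)
      (fun (z : sect ((sheafHom F).obj G) V.unop) (h : sect H V.unop) =>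
        show ((toPre O).obj ((sheafHom F).obj (tens₂ G H))).obj V from prodB F z h)
      (fun z z' h => prodB_add_left F z z' h)
      (fun r z h => prodB_smul_left F r z h)
      (fun z h h' => prodB_add_right F z h h')
      (fun r z h => prodB_smul_right F r z h)))
  naturality {V V'} q := by
    refine ModuleCat.hom_ext (LinearMap.ext fun z => ?_)
    induction z using TensorProduct.induction_on with
    | zero => exact (map_zero _).trans (map_zero _).symm
    | add a b ha hb => exact (map_add _ a b).trans ((congrArg₂ (· + ·) ha hb).trans (map_add _ a b).symm)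
    | tmul m n => exact prodB_res F q.unop m n

/-- The comparison `Hom(F, G) ⊗ H ⟶ Hom(F, G ⊗ H)`. -/
noncomputable def θHom : tens₂ ((sheafHom F).obj G) H ⟶ (sheafHom F).obj (tens₂ G H) :=
  ((preAdj O).homEquiv (pt₂ ((sheafHom F).obj G) H) ((sheafHom F).obj (tens₂ G H))).symm (θPre F)

theorem θHom_tmulS {U : C} (z : sect ((sheafHom F).obj G) U) (h : sect H U) :
    appS (θHom F) U (tmulS z h) = prodB F z h := by
  have h₂ := (preAdj O).homEquiv_unit (pt₂ ((sheafHom F).obj G) H) ((sheafHom F).obj (tens₂ G H))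
    (θHom (G := G) (H := H) F)
  replace h₂ := (Equiv.apply_symm_apply ((preAdj O).homEquiv (pt₂ ((sheafHom F).obj G) H)
    ((sheafHom F).obj (tens₂ G H))) (θPre F)).symm.trans h₂
  exact (congrArg (fun t => t.app (op U) (z ⊗ₜ[O.obj.obj (op U)] h :
    TensorProduct (O.obj.obj (op U)) (sect ((sheafHom F).obj G) U) (sect H U))) h₂).symm

variable [SheafOfModules.IsFinitePresentation (R := ringSh O) F]

theorem mono_θHom (hH : LocTriv H) : Mono (θHom (G := G) (H := H) F) := by
  refine mono_of_appS_injective _ fun U z hz => ?_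
  obtain ⟨S, hS, hS'⟩ := exists_cover_locPres F U
  obtain ⟨S₁, hS₁, hS₁'⟩ := exists_tens_repr z
  obtain ⟨S₂, hS₂, hS₂'⟩ := exists_cover_bind
    (fun (W : C) (k : W ⟶ U) => rs (tens₂ ((sheafHom F).obj G) H) k z = 0)
    (J.intersection_covering hS hS₁) fun V g hg => by
      obtain ⟨P⟩ := hS' g hg.1
      obtain ⟨k, x, y, hxy⟩ := hS₁' g hg.2
      have h0 : ∀ i, ∑ j, tmulS (apL (toLoc F (x j)) (𝟙 V) (P.s i)) (y j) = 0 := fun i => by
        have h1 : ∑ j, prodB F (x j) (y j) = 0 := by
          have := congrArg (appS (θHom (G := G) (H := H) F) V) hxy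
          rw [map_sum, appS_res, hz, map_zero] at this
          rw [← this]
          exact Finset.sum_congr rfl fun j _ => (θHom_tmulS F _ _).symm
        have h2 := congrArg (fun t => apL (toLoc F t) (𝟙 V) (P.s i)) h1
        simp only [apL_toLoc_sum, apL_prodB, rs_id] at h2
        refine h2.trans ?_
        rw [apL_toLoc, map_zero, tmulS_zero_left, map_zero]
      obtain ⟨T, hT, hT'⟩ := exists_flat_vanishs hH (fun i j => apL (toLoc F (x j)) (𝟙 V) (P.s i)) y h0
      refine ⟨T, hT, fun W h hh => ?_⟩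
      obtain ⟨l, t, a, ha, ha'⟩ := hT' h hh
      rw [map_val_comp, ← hxy, map_sum]
      simp only [tmulS_res, ha]
      rw [tmulS_sum]
      refine Finset.sum_eq_zero fun q _ => ?_
      rw [show ∑ j, a j q • rs ((sheafHom F).obj G) h (x j) = 0 from ?_, tmulS_zero_left]
      refine (toLoc_bijective F).1 ((P.restrict h).hom_ext fun i => ?_)
      have hP : (P.restrict h).s i = rs F h (P.s i) := rfl
      rw [hP, apL_toLoc_sum]
      refine Eq.trans (Finset.sum_congr rfl fun j _ => ?_) ((ha' i q).trans ?_)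
      · rw [apL_toLoc_smul, op_id, CategoryTheory.Functor.map_id, toLoc_res, apL_resL, Category.id_comp,
          apL_res (toLoc F (x j)) h (𝟙 V) h (Category.comp_id h)]
        rfl
      · rw [apL_toLoc, map_zero, tmulS_zero_left, map_zero]
  exact eq_zero_of_locally _ hS₂ z hS₂'

theorem epi_θHom (hH : LocTriv H) : Epi (θHom (G := G) (H := H) F) := by
  refine epi_of_locally_surjective _ fun U z => ?_
  obtain ⟨S, hS, hS'⟩ := exists_cover_locPres F U
  refine exists_cover_bind _ hS fun V g hg => ?_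
  obtain ⟨P⟩ := hS' g hg
  let ψ := toLoc F (rs _ g z)
  obtain ⟨S₁, hS₁, hS₁'⟩ := exists_cover_forall
    (fun (i : Fin P.n) (W : C) (h : W ⟶ V) => ∃ (k : ℕ) (x : Fin k → sect G W) (y : Fin k → sect H W),
      ∑ j, tmulS (x j) (y j) = rs (tens₂ G H) h (apL ψ (𝟙 V) (P.s i)))
    (fun i => exists_tens_repr _)
  refine exists_cover_bind _ hS₁ fun W h hh => ?_
  choose k x y hxy using hS₁' h hh
  let ι := Σ i : Fin P.n, Fin (k i)
  obtain ⟨n, ⟨e⟩⟩ := Finite.exists_equiv_fin ι
  let Y : Fin n → sect H W := fun j => y (e.symm j).1 (e.symm j).2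
  let Xs : Fin P.n → Fin n → sect G W := fun i j =>
    if (e.symm j).1 = i then x (e.symm j).1 (e.symm j).2 else 0
  have hXY : ∀ i, ∑ j, tmulS (Xs i j) (Y j) = rs (tens₂ G H) h (apL ψ (𝟙 V) (P.s i)) := fun i => by
    rw [← hxy i]
    refine (Fintype.sum_equiv e.symm _ (fun p : ι => tmulS (if p.1 = i then x p.1 p.2 else 0) (y p.1 p.2))
      fun j => rfl).trans ?_
    rw [Fintype.sum_sigma, Fintype.sum_eq_single i fun i' hi' => Finset.sum_eq_zero fun q _ => by
      rw [if_neg hi', tmulS_zero_left]]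
    exact Finset.sum_congr rfl fun q _ => by rw [if_pos rfl]
  let P' := P.restrict h
  obtain ⟨T, hT, hT'⟩ := exists_flat_vanishs hH (fun l j => ∑ i, P'.r l i • Xs i j) Y (fun l => by
    simp only [tmulS_sum_left (M := G)]
    rw [Finset.sum_comm]
    simp only [← Finset.smul_sum, hXY]
    refine Eq.trans (Finset.sum_congr rfl fun i _ => ?_) ((map_sum (apL ψ h) (fun i => P'.r l i • P'.s i) _).symm.trans
      ((congrArg (apL ψ h) (P'.rel l)).trans (map_zero _)))
    rw [map_smul]
    exact congrArg (_ • ·) (apL_res ψ h (𝟙 V) h (Category.comp_id h) (P.s i)).symm)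
  refine ⟨T, hT, fun T₁ b hb => ?_⟩
  obtain ⟨m, t, a, ha, ha'⟩ := hT' b hb
  let P'' := P'.restrict b
  let u : Fin m → Fin P.n → sect G T₁ := fun q i => ∑ j, a j q • rs G b (Xs i j)
  have hu : ∀ q, ∀ l, ∑ i, P''.r l i • u q i = 0 := fun q l => by
    refine Eq.trans ?_ (ha' l q)
    simp only [u, map_sum, map_val_smul, Finset.smul_sum, smul_smul]
    rw [Finset.sum_comm]
    exact Finset.sum_congr rfl fun j _ => Finset.sum_congr rfl fun i _ => by rw [mul_comm]; rfl
  choose φ hφ using fun q => P''.exists_hom (hu q)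
  choose zq hzq using fun q => (toLoc_bijective F).2 (φ q)
  refine ⟨∑ q, tmulS (zq q) (t q), (toLoc_bijective F).1 (P''.hom_ext fun i => ?_)⟩
  rw [map_sum, apL_toLoc_sum]
  have hP : P''.s i = rs F b (rs F h (P.s i)) := rfl
  have hR : apL (toLoc F (rs _ ((b ≫ h) ≫ g) z)) (𝟙 T₁) (P''.s i) =
      rs (tens₂ G H) b (rs (tens₂ G H) h (apL ψ (𝟙 V) (P.s i))) := by
    rw [map_val_comp (b ≫ h) g, toLoc_res, apL_resL, hP, ← map_val_comp, Category.id_comp,
      apL_res ψ (b ≫ h) (𝟙 V) (b ≫ h) (Category.comp_id _), ← map_val_comp]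
  rw [hR, ← hXY, map_sum]
  simp only [θHom_tmulS, apL_prodB, rs_id, hzq, hφ, tmulS_res, ha, u]
  exact (tmulS_sum a t fun j => rs G b (Xs i j)).symm

/-- `Hom(F, G) ⊗ H ≅ Hom(F, G ⊗ H)` for `F` finitely presented and `H` flat. -/
theorem nonempty_sheafHom_tensor_iso (hH : ModSite.IsFlat H) :
    Nonempty (tens₂ ((sheafHom F).obj G) H ≅ (sheafHom F).obj (tens₂ G H)) := by
  haveI := mono_θHom (G := G) F (Groth.Agent.ModFlat.locTriv_of_isFlat hH)
  haveI := epi_θHom (G := G) F (Groth.Agent.ModFlat.locTriv_of_isFlat hH)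
  haveI : IsIso (θHom (G := G) (H := H) F) := isIso_of_mono_of_epi _
  exact ⟨asIso (θHom F)⟩

end Hom

end Groth.Agent.LocPres
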