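import Groth.Agent.LocPres.GPres
import Groth.Agent.LocPres.FlatHom
import Groth.Agent.LocPres.Ops
import Groth.Agent.PullFlat.Tensor

/-!
# Products of generators and of bases
-/

set_option autoImplicit false
set_option linter.style.haveILetI false
set_option linter.dupNamespace false

universe u

open CategoryTheory CategoryTheory.Limits Opposite ModSite
open scoped TensorProduct

attribute [local instance] Classical.propDecidable

namespace Groth.Agent.LocPres

open Groth.Agent.ModFlat (rs map_val_smul map_val_comp map_ring_comp)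
open Groth.Agent.PullFlat
open Groth.Agent.ModAlg (el hom_el)

variable {C : Type u} [SmallCategory C] {J : GrothendieckTopology C} {O : Sheaf J CommRingCat.{u}}
  {F G : Mod O} {X : C} {I K : Type u}

/-- The product of sections, bilinearly. -/
noncomputable def tmulL (U : C) :
    sect F U →ₗ[O.obj.obj (op U)] sect G U →ₗ[O.obj.obj (op U)] sect (tens₂ F G) U :=
  LinearMap.mk₂ (O.obj.obj (op U)) (fun m n => tmulS m n) tmulS_add_left tmulS_smul_left tmulS_add_right
    tmulS_smul_right

/-- Pairwise products of two families. -/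
noncomputable abbrev pairS (s : I → sect F X) (t : K → sect G X) (p : I × K) : sect (tens₂ F G) X :=
  tmulS (s p.1) (t p.2)

theorem combS_mapDomain {α β : Type u} (v : β → sect F X) (e : α → β) {T : C} (a : T ⟶ X)
    (d : α →₀ O.obj.obj (op T)) : combS v a (d.mapDomain e) = combS (fun x => v (e x)) a d :=
  Finsupp.linearCombination_mapDomain (O.obj.obj (op T)) e d

theorem rs_pairS (s : I → sect F X) (t : K → sect G X) {T : C} (a : T ⟶ X) (p : I × K) :
    rs (tens₂ F G) a (pairS s t p) = tmulS (rs F a (s p.1)) (rs G a (t p.2)) :=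
  tmulS_res a _ _

theorem combS_pair_right (s : I → sect F X) (t : K → sect G X) {T : C} (a : T ⟶ X)
    (d : I →₀ O.obj.obj (op T)) (k : K) :
    combS (pairS s t) a (d.mapDomain (fun i => (i, k))) = tmulS (combS s a d) (rs G a (t k)) := by
  rw [combS_mapDomain]
  show _ = tmulL T (combS s a d) (rs G a (t k))
  induction d using Finsupp.induction_linear with
  | zero => rw [map_zero, map_zero, map_zero, LinearMap.zero_apply]
  | add c c' hc hc' => rw [map_add, map_add, map_add, LinearMap.add_apply, hc, hc']
  | single i r =>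
    rw [combS_single, combS_single, map_smul, LinearMap.smul_apply, rs_pairS]
    rfl

/-- Products of combinations are combinations of products. -/
theorem tmulS_combS_mem (s : I → sect F X) (t : K → sect G X) {T : C} (a : T ⟶ X)
    (c : I →₀ O.obj.obj (op T)) (d : K →₀ O.obj.obj (op T)) :
    tmulS (combS s a c) (combS t a d) ∈ LinearMap.range (combS (pairS s t) a) := by
  show tmulL T (combS s a c) (combS t a d) ∈ _
  induction c using Finsupp.induction_linear with
  | zero => rw [map_zero, map_zero, LinearMap.zero_apply]; exact Submodule.zero_mem _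
  | add c c' hc hc' => rw [map_add, map_add, LinearMap.add_apply]; exact Submodule.add_mem _ hc hc'
  | single i r =>
    rw [combS_single, map_smul, LinearMap.smul_apply]
    refine Submodule.smul_mem _ r ?_
    induction d using Finsupp.induction_linear with
    | zero => rw [map_zero, map_zero]; exact Submodule.zero_mem _
    | add d d' hd hd' => rw [map_add, map_add]; exact Submodule.add_mem _ hd hd'
    | single k r' =>
      rw [combS_single, map_smul]
      refine Submodule.smul_mem _ r' ⟨Finsupp.single (i, k) 1, ?_⟩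
      rw [combS_single, one_smul, rs_pairS]
      rfl

/-- A combination of products, sorted by the first factor. -/
theorem combS_pair_curry (s : I → sect F X) (t : K → sect G X) {T : C} (a : T ⟶ X)
    (c : I × K →₀ O.obj.obj (op T)) :
    combS (pairS s t) a c = c.curry.sum fun i d => tmulS (rs F a (s i)) (combS t a d) := by
  have h0 : ∀ i, tmulS (rs F a (s i)) (combS t a (0 : K →₀ O.obj.obj (op T))) = 0 := fun i => by
    show tmulL T (rs F a (s i)) _ = 0
    rw [map_zero, map_zero]
  induction c using Finsupp.induction_linear with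
  | zero => rw [map_zero, show (0 : I × K →₀ O.obj.obj (op T)).curry = 0 from rfl, Finsupp.sum_zero_index]
  | add c c' hc hc' =>
    rw [map_add, hc, hc', show (c + c').curry = c.curry + c'.curry from
      Finsupp.ext fun i => Finsupp.ext fun k => rfl]
    refine (Finsupp.sum_add_index' (h := fun i d => tmulS (rs F a (s i)) (combS t a d)) h0 fun i d d' => ?_).symm
    rw [map_add, tmulS_add_right]
  | single p r =>
    rw [combS_single, rs_pairS, show (Finsupp.single p r).curry = Finsupp.single p.1 (Finsupp.single p.2 r) from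
      Finsupp.curry_single ..]
    refine Eq.trans ?_ (Finsupp.sum_single_index (h := fun i d => tmulS (rs F a (s i)) (combS t a d)) (h0 _)).symm
    rw [combS_single, tmulS_smul_right]

theorem isGen_pair {s : I → sect F X} {t : K → sect G X} (hs : IsGen s) (ht : IsGen t) : IsGen (pairS s t) := by
  intro T a z
  obtain ⟨S, hS, hS'⟩ := exists_tens_repr z
  refine exists_cover_bind _ hS fun V g hg => ?_
  obtain ⟨n, x, y, hxy⟩ := hS' g hg
  obtain ⟨S₁, hS₁, hS₁'⟩ := exists_cover_forall (J := J) (fun (i : Fin n) (W : C) (k : W ⟶ V) =>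
      ∃ c : I →₀ O.obj.obj (op W), combS s (k ≫ g ≫ a) c = rs F k (x i)) fun i => hs (g ≫ a) (x i)
  obtain ⟨S₂, hS₂, hS₂'⟩ := exists_cover_forall (J := J) (fun (i : Fin n) (W : C) (k : W ⟶ V) =>
      ∃ c : K →₀ O.obj.obj (op W), combS t (k ≫ g ≫ a) c = rs G k (y i)) fun i => ht (g ≫ a) (y i)
  refine ⟨S₁ ⊓ S₂, J.intersection_covering hS₁ hS₂, fun W k hk => ?_⟩
  choose c hc using hS₁' k hk.1
  choose d hd using hS₂' k hk.2
  suffices h : rs (tens₂ F G) (k ≫ g) z ∈ LinearMap.range (combS (pairS s t) (k ≫ g ≫ a)) by
    obtain ⟨e, he⟩ := h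
    exact ⟨e, by rw [Category.assoc]; exact he⟩
  rw [map_val_comp, ← hxy, map_sum]
  refine Submodule.sum_mem _ fun i _ => ?_
  rw [tmulS_res, ← hc i, ← hd i]
  exact tmulS_combS_mem s t _ _ _

/-- Coordinates in a free family. -/
theorem exists_coord {t : I → sect G X} (hg : IsGen t) (hi : IsIndep t) {T : C} (a : T ⟶ X) (i : I) :
    ∃ φ : sect G T →ₗ[O.obj.obj (op T)] O.obj.obj (op T), ∀ c, φ (combS t a c) = c i := by
  let R' := ringSh (O.over X)
  let e := genHom t
  haveI : Epi e := epi_genHom hg
  haveI : Mono e := mono_genHom hi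
  haveI : IsIso e := isIso_of_mono_of_epi e
  let δ : SheafOfModules.free (R := R') I ⟶ SheafOfModules.unit R' :=
    (SheafOfModules.unit R').freeHomEquiv.symm fun j =>
      PresheafOfModules.sectionsMk (fun T' => (if j = i then (1 : R'.obj.obj T') else 0)) fun A B h => by
        split_ifs
        · exact map_one (R'.obj.map h).hom
        · exact map_zero (R'.obj.map h).hom
  let A : (CategoryTheory.Over X)ᵒᵖ := op (CategoryTheory.Over.mk a)
  let φ₀ := ((inv e ≫ δ).val.app A).hom
  refine ⟨{ toFun := fun x => (show O.obj.obj (op T) from φ₀ x), map_add' := fun x y => map_add φ₀ x y, map_smul' := fun r x => φ₀.map_smul (show R'.obj.obj A from r) x },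
    fun c => ?_⟩
  show (inv e ≫ δ).val.app A (combS t a c) = c i
  refine (congrArg ((inv e ≫ δ).val.app A) (genHom_el t A c)).symm.trans ?_
  refine (appS_comp (O := O.over X) e (inv e ≫ δ) _).symm.trans ?_
  refine (congrArg (fun q => q.val.app A (el (R := R') A c)) (IsIso.hom_inv_id_assoc e δ)).trans ?_
  refine (hom_el (R := R') δ A c).trans ?_
  let v : I → O.obj.obj (op T) := fun j => if j = i then 1 else 0
  refine Eq.trans (congrArg (fun v : I → O.obj.obj (op T) => Finsupp.linearCombination (O.obj.obj (op T)) v c)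
    (funext fun j => congrArg (fun q => (q j).val A) ((SheafOfModules.unit R').freeHomEquiv.apply_symm_apply _) :
      _ = v)) ?_
  simp only [v, Finsupp.linearCombination_apply, Finsupp.sum, smul_eq_mul, mul_ite, mul_one, mul_zero]
  rw [Finset.sum_ite_eq' c.support i]
  show (if i ∈ c.support then c i else (0 : O.obj.obj (op T))) = c i
  split_ifs with h
  · rfl
  · exact (Finsupp.notMem_support_iff.1 h).symm

theorem isIndep_pair {s : I → sect F X} {t : K → sect G X} (hs : IsGen s) (hsi : IsIndep s) (ht : IsGen t)
    (hti : IsIndep t) : IsIndep (pairS s t) := by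
  intro T a c hc
  let A := c.curry.support
  let en : Fin A.card → I := fun j => (A.equivFin.symm j : I)
  have hsum : ∀ {M : Type u} [AddCommMonoid M] (f : I → M), ∑ j, f (en j) = ∑ x ∈ A, f x := fun {M} _ f => by
    rw [← Finset.sum_coe_sort A]
    exact Fintype.sum_equiv A.equivFin.symm _ _ fun _ => rfl
  have h0 : ∑ j, tmulS (rs F a (s (en j))) (combS t a (c.curry (en j))) = 0 :=
    (hsum fun i => tmulS (rs F a (s i)) (combS t a (c.curry i))).trans ((combS_pair_curry s t a c).symm.trans hc)
  obtain ⟨S, hS, hS'⟩ := exists_tens_zero _ _ h0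
  refine ⟨S, hS, fun V g hg p => ?_⟩
  obtain ⟨φ, hφ⟩ := exists_coord hs hsi (g ≫ a) p.1
  obtain ⟨ψ, hψ⟩ := exists_coord ht hti (g ≫ a) p.2
  have := congrArg (TensorProduct.lift ((LinearMap.mul (O.obj.obj (op V)) (O.obj.obj (op V))).compl₁₂ φ ψ)) (hS' g hg)
  rw [map_sum, map_zero] at this
  refine Eq.trans ?_ this
  have e1 : ∀ j, φ (rs F g (rs F a (s (en j)))) = if en j = p.1 then 1 else 0 := fun j => by
    have := hφ (Finsupp.single (en j) 1)
    rw [combS_single, one_smul, map_val_comp, Finsupp.single_apply] at this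
    exact this
  have e2 : ∀ j, ψ (rs G g (combS t a (c.curry (en j)))) = (O.obj.map g.op).hom (c (en j, p.2)) := fun j => by
    rw [combS_res, hψ, Finsupp.mapRange_apply]
    rfl
  simp only [TensorProduct.lift.tmul, LinearMap.compl₁₂_apply, LinearMap.mul_apply', e1, e2, ite_mul, one_mul,
    zero_mul]
  rw [hsum fun i => if i = p.1 then (O.obj.map g.op).hom (c (i, p.2)) else 0, Finset.sum_ite_eq']
  split_ifs with h
  · rfl
  · have : c.curry p.1 p.2 = 0 := by rw [Finsupp.notMem_support_iff.1 h]; rfl
    rw [show c p = c.curry p.1 p.2 from rfl, this, map_zero]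

end Groth.Agent.LocPres
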