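import Groth.Agent.LocPres.GPres
import Groth.Agent.ModFlat.PointGerm
import Mathlib.Topology.Sheaves.Points
import Mathlib.LinearAlgebra.Matrix.NonsingularInverse

/-!
# Generators, frames and stalks on a space
-/

set_option autoImplicit false
set_option linter.style.haveILetI false
set_option linter.dupNamespace false

universe u

open CategoryTheory CategoryTheory.Limits Opposite ModSite TopologicalSpace

namespace Groth.Agent.LocPres

open Groth.Agent.ModFlat (rs map_val_smul map_val_comp map_ring_comp Refines germ_rs germRing_res exists_germ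
  exists_germRing exists_eq_of_germ_eq exists_eq_of_germRing_eq germ_sum)
open Groth.Agent.PullFlat
open Groth.Agent.ModAlg (el el_locally_surjective el_locally_injective hom_el)

section Site

variable {C : Type u} [SmallCategory C] {J : GrothendieckTopology C} {O : Sheaf J CommRingCat.{u}}
  {F G : Mod O} {W : C} {I : Type u}

/-- A free restriction has a frame of sections. -/
theorem exists_frame_of_iso (e : (restr O W).obj F ≅ SheafOfModules.free I) :
    ∃ t : I → sect F W, IsGen t ∧ IsIndep t := by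
  let M' : SheafOfModules.{u} (ringSh (O.over W)) := (restr O W).obj F
  let σ : SheafOfModules.GeneratingSections (SheafOfModules.over (R := ringSh O) F W) :=
    { I := I
      s := M'.freeHomEquiv e.inv
      epi := by
        show Epi (M'.freeHomEquiv.symm (M'.freeHomEquiv e.inv))
        rw [show M'.freeHomEquiv.symm (M'.freeHomEquiv e.inv) = e.inv from M'.freeHomEquiv.symm_apply_apply e.inv]
        infer_instance }
  haveI : IsIso σ.π := by
    show IsIso (M'.freeHomEquiv.symm (M'.freeHomEquiv e.inv))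
    rw [M'.freeHomEquiv.symm_apply_apply e.inv]
    infer_instance
  exact ⟨genVals σ, isGen_of_generatingSections σ, isIndep_of_generatingSections σ⟩

/-- A frame of sections gives a free restriction. -/
theorem nonempty_iso_free {t : I → sect F W} (hg : IsGen t) (hi : IsIndep t) :
    Nonempty ((restr O W).obj F ≅ SheafOfModules.free I) := by
  haveI := epi_genHom hg
  haveI := mono_genHom hi
  haveI : IsIso (genHom t) := isIso_of_mono_of_epi _
  exact ⟨(asIso (genHom t)).symm⟩

/-- A morphism is an epimorphism over `W` if generators lift. -/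
theorem epi_restr_of_gen (φ : G ⟶ F) {s : I → sect F W} (hs : IsGen s) (t : I → sect G W)
    (ht : ∀ i, appS φ W (t i) = s i) : Epi ((restr O W).map φ) := by
  refine Groth.Agent.ModAlg.epi_of_locally (R := ringSh (O.over W)) _ fun T y => ?_
  obtain ⟨S, hS, hS'⟩ := hs T.unop.hom y
  refine ⟨_, J.overEquiv_symm_mem_over T.unop S hS, fun V g hg => ?_⟩
  obtain ⟨c, hc⟩ := hS' g.left hg
  refine ⟨combS t (g.left ≫ T.unop.hom) c, ?_⟩
  refine Eq.trans ?_ hc
  show appS φ V.left (combS t (g.left ≫ T.unop.hom) c) = _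
  rw [combS, Finsupp.apply_linearCombination]
  exact congrArg (fun v => Finsupp.linearCombination (O.obj.obj (op V.left)) v c)
    (funext fun i => (appS_res φ _ _).trans (congrArg (rs F _) (ht i)))

theorem appS_combS (φ : F ⟶ G) (t : I → sect F W) {T : C} (a : T ⟶ W) (c : I →₀ O.obj.obj (op T)) :
    appS φ T (combS t a c) = combS (fun i => appS φ W (t i)) a c := by
  rw [combS, Finsupp.apply_linearCombination]
  exact congrArg (fun v => Finsupp.linearCombination (O.obj.obj (op T)) v c) (funext fun i => appS_res φ _ _)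

/-- A morphism is injective over `W` if it maps a generating family to an independent one. -/
theorem appS_eq_zero_of_frame (φ : F ⟶ G) {t : I → sect F W} (ht : IsGen t)
    (hi : IsIndep (fun i => appS φ W (t i))) {T : C} (a : T ⟶ W) (z : sect F T) (hz : appS φ T z = 0) : z = 0 := by
  obtain ⟨S, hS, hS'⟩ := ht a z
  refine eq_zero_of_locally F hS z fun V g hg => ?_
  obtain ⟨c, hc⟩ := hS' g hg
  have h0 : combS (fun i => appS φ W (t i)) (g ≫ a) c = 0 := by
    rw [← appS_combS, hc, appS_res, hz, map_zero]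
  obtain ⟨R, hR, hR'⟩ := hi (g ≫ a) c h0
  refine eq_zero_of_locally F hR _ fun V' g' hg' => ?_
  rw [← hc, combS_res, show c.mapRange (O.obj.map g'.op).hom (map_zero _) = 0 from
    Finsupp.ext fun i => Finsupp.mapRange_apply.trans (hR' g' hg' i), map_zero]

variable (p : GrothendieckTopology.Point.{u} J)

/-- The germ of a function, additive. -/
noncomputable def germA (T : C) (v : p.fiber.obj T) : O.obj.obj (op T) →+ stalkRing p O where
  toFun := germRing p T v
  map_zero' := map_zero (p.toPresheafFiber T v O.obj).hom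
  map_add' := map_add (p.toPresheafFiber T v O.obj).hom

theorem germA_apply (T : C) (v : p.fiber.obj T) (r : O.obj.obj (op T)) : germA p T v r = germRing p T v r := rfl

theorem germ_combS (t : I → sect F W) (w : p.fiber.obj W) {T : C} {a : T ⟶ W} {v : p.fiber.obj T}
    (ha : Refines p w a v) (c : I →₀ O.obj.obj (op T)) :
    germ p F T v (combS t a c) = Finsupp.linearCombination (stalkRing p O)
      (fun i => (show stalkMod p F from germ p F W w (t i)))
      (Finsupp.mapRange.addMonoidHom (germA p T v) c) := by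
  induction c using Finsupp.induction_linear with
  | zero =>
    rw [map_zero, map_zero, map_zero]
    exact map_zero (p.toPresheafFiber T v (toAb F).obj).hom
  | add c c' hc hc' =>
    rw [map_add, map_add, map_add, ← hc, ← hc']
    exact map_add (p.toPresheafFiber T v (toAb F).obj).hom _ _
  | single i r =>
    rw [combS_single, Finsupp.mapRange.addMonoidHom_apply, Finsupp.mapRange_single, germA_apply,
      Finsupp.linearCombination_single]
    exact (germ_smul p F T v r _).trans (congrArg (germRing p T v r • ·) (germ_rs ha (t i)))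

/-- The germs of a generating family span the stalk. -/
theorem span_germ_eq_top {t : I → sect F W} (ht : IsGen t) (w : p.fiber.obj W) :
    Submodule.span (stalkRing p O) (Set.range fun i => (show stalkMod p F from germ p F W w (t i))) = ⊤ := by
  refine eq_top_iff.2 fun a _ => ?_
  obtain ⟨V, g, v, hv, s, rfl⟩ := exists_germ (F := F) w a
  obtain ⟨S, hS, hS'⟩ := ht g s
  obtain ⟨V', g', hg', v', hv'⟩ := p.jointly_surjective S hS v
  obtain ⟨c, hc⟩ := hS' g' hg'
  rw [← germ_rs hv' s, ← hc, germ_combS p t w (hv.comp hv')]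
  exact Finsupp.mem_span_range_iff_exists_finsupp.2 ⟨_, rfl⟩

/-- The germs of an independent family are independent. -/
theorem linearIndependent_germ {t : I → sect F W} (ht : IsIndep t) (w : p.fiber.obj W) :
    LinearIndependent (stalkRing p O) (fun i => (show stalkMod p F from germ p F W w (t i))) := by
  classical
  rw [linearIndependent_iff]
  intro l hl
  obtain ⟨n, ⟨e⟩⟩ := Finite.exists_equiv_fin l.support
  obtain ⟨V, g, v, hv, hr⟩ := Groth.Agent.ModFlat.exists_forall w
    (fun j ⦃V⦄ (_ : V ⟶ W) v => ∃ r, germRing p V v r = l (e.symm j).1)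
    (fun j V W g v h w hw ⟨r, hr⟩ => ⟨_, (germRing_res hw r).trans hr⟩)
    (fun j => exists_germRing w _)
  choose r hr using hr
  let c : I →₀ O.obj.obj (op V) := ∑ j, Finsupp.single (e.symm j).1 (r j)
  have hc : Finsupp.mapRange.addMonoidHom (germA p V v) c = l := by
    rw [map_sum]
    simp only [Finsupp.mapRange.addMonoidHom_apply, Finsupp.mapRange_single]
    conv_rhs => rw [← l.sum_single, Finsupp.sum, ← Finset.sum_coe_sort]
    exact Fintype.sum_equiv e.symm _ _ fun j => congrArg (Finsupp.single _) (hr j)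
  have h0 : germ p F V v (combS t g c) = germ p F V v 0 := by
    rw [germ_combS p t w hv, hc]
    exact hl.trans (map_zero (p.toPresheafFiber V v (toAb F).obj).hom).symm
  obtain ⟨V₁, g₁, v₁, hv₁, h₁⟩ := exists_eq_of_germ_eq v h0
  rw [map_zero, combS_res] at h₁
  obtain ⟨S, hS, hS'⟩ := ht _ _ h₁
  obtain ⟨V₂, g₂, hg₂, v₂, hv₂⟩ := p.jointly_surjective S hS v₁
  refine Finsupp.ext fun i => ?_
  rw [← hc, Finsupp.mapRange.addMonoidHom_apply, Finsupp.mapRange_apply, germA_apply, ← germRing_res hv₁, ← germRing_res hv₂]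
  have := hS' g₂ hg₂ i
  rw [Finsupp.mapRange_apply] at this
  exact (congrArg (germRing p V₂ v₂) this).trans (map_zero (p.toPresheafFiber V₂ v₂ O.obj).hom)

theorem stalkMap_germ (φ : G ⟶ F) {V : C} (v : p.fiber.obj V) (s : sect G V) :
    (stalkMap p φ).hom (germ p G V v s) = germ p F V v (appS φ V s) :=
  p.toPresheafFiber_naturality_apply ((SheafOfModules.toSheaf (ringSh O)).map φ).hom V v s

end Site

variable {X : TopCat.{u}} {O : Sheaf (Opens.grothendieckTopology X) CommRingCat.{u}} {F G : Mod O}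

/-- The point of a space, at an open containing it. -/
abbrev ptIn {x : X} {U : Opens X} (h : x ∈ U) : (Opens.pointGrothendieckTopology x).fiber.obj U := ⟨⟨h⟩⟩

theorem mem_of_fiber {x : X} {U : Opens X} (v : (Opens.pointGrothendieckTopology x).fiber.obj U) : x ∈ U := v.down.down

/-- Equal germs agree near the point. -/
theorem exists_eq_nhd {x : X} {U : Opens X} (hx : x ∈ U) {n : ℕ} (s s' : Fin n → sect F U)
    (h : ∀ i, germ (Opens.pointGrothendieckTopology x) F U (ptIn hx) (s i) =
      germ (Opens.pointGrothendieckTopology x) F U (ptIn hx) (s' i)) :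
    ∃ (V : Opens X) (g : V ⟶ U), x ∈ V ∧ ∀ i, rs F g (s i) = rs F g (s' i) := by
  obtain ⟨V, g, v, -, hV⟩ := Groth.Agent.ModFlat.exists_forall (ptIn hx)
    (fun i ⦃V⦄ (g : V ⟶ U) _ => rs F g (s i) = rs F g (s' i))
    (fun i V W g v h w _ he => by rw [map_val_comp, he, ← map_val_comp])
    (fun i => exists_eq_of_germ_eq (ptIn hx) (h i))
  exact ⟨V, g, mem_of_fiber v, hV⟩

/-- Equal germs of functions agree near the point. -/
theorem exists_eqRing_nhd {x : X} {U : Opens X} (hx : x ∈ U) {n : ℕ} (s s' : Fin n → O.obj.obj (op U))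
    (h : ∀ i, germRing (Opens.pointGrothendieckTopology x) U (ptIn hx) (s i) =
      germRing (Opens.pointGrothendieckTopology x) U (ptIn hx) (s' i)) :
    ∃ (V : Opens X) (g : V ⟶ U), x ∈ V ∧ ∀ i, (O.obj.map g.op).hom (s i) = (O.obj.map g.op).hom (s' i) := by
  obtain ⟨V, g, v, -, hV⟩ := Groth.Agent.ModFlat.exists_forall (ptIn hx)
    (fun i ⦃V⦄ (g : V ⟶ U) _ => (O.obj.map g.op).hom (s i) = (O.obj.map g.op).hom (s' i))
    (fun i V W g v h w _ he => by rw [map_ring_comp, he, ← map_ring_comp])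
    (fun i => exists_eq_of_germRing_eq (ptIn hx) (h i))
  exact ⟨V, g, mem_of_fiber v, hV⟩

/-- Finitely many germs are realised near the point. -/
theorem exists_sect_nhd {x : X} {U : Opens X} (hx : x ∈ U) {n : ℕ}
    (a : Fin n → stalkAb (Opens.pointGrothendieckTopology x) F) :
    ∃ (V : Opens X) (_ : V ⟶ U) (hV : x ∈ V), ∀ i, ∃ s : sect F V,
      germ (Opens.pointGrothendieckTopology x) F V (ptIn hV) s = a i := by
  obtain ⟨V, g, v, -, hV⟩ := Groth.Agent.ModFlat.exists_forall (ptIn hx)
    (fun i ⦃V⦄ (_ : V ⟶ U) v => ∃ s, germ (Opens.pointGrothendieckTopology x) F V v s = a i)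
    (fun i V W g v h w hw ⟨s, hs⟩ => ⟨_, (germ_rs hw s).trans hs⟩)
    (fun i => exists_germ (ptIn hx) (a i))
  exact ⟨V, g, mem_of_fiber v, hV⟩

/-- Finitely many germs of functions are realised near the point. -/
theorem exists_fun_nhd {x : X} {U : Opens X} (hx : x ∈ U) {n : ℕ}
    (a : Fin n → stalkRing (Opens.pointGrothendieckTopology x) O) :
    ∃ (V : Opens X) (_ : V ⟶ U) (hV : x ∈ V), ∀ i, ∃ s : O.obj.obj (op V),
      germRing (Opens.pointGrothendieckTopology x) V (ptIn hV) s = a i := by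
  obtain ⟨V, g, v, -, hV⟩ := Groth.Agent.ModFlat.exists_forall (ptIn hx)
    (fun i ⦃V⦄ (_ : V ⟶ U) v => ∃ s, germRing (Opens.pointGrothendieckTopology x) V v s = a i)
    (fun i V W g v h w hw ⟨s, hs⟩ => ⟨_, (germRing_res hw s).trans hs⟩)
    (fun i => exists_germRing (ptIn hx) (a i))
  exact ⟨V, g, mem_of_fiber v, hV⟩

/-- The criterion with all data near the point: surjectivity on the stalk spreads out. -/
theorem exists_epi_nhd (φ : G ⟶ F) [SheafOfModules.IsFiniteType (R := ringSh O) F] (x : X)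
    (hx : Function.Surjective (stalkMap (Opens.pointGrothendieckTopology x) φ).hom) :
    ∃ U : Opens X, x ∈ U ∧ Epi ((restr O U).map φ) := by
  obtain ⟨S, hS, hS'⟩ := exists_cover_locGen F (⊤ : Opens X)
  obtain ⟨U, g, hg, hxU⟩ := hS x trivial
  obtain ⟨Q⟩ := hS' g hg
  let p := Opens.pointGrothendieckTopology x
  choose a ha using fun i => hx (germ p F U (ptIn hxU) (Q.s i))
  obtain ⟨V, h, hxV, ht⟩ := exists_sect_nhd (F := G) hxU a
  choose t ht using ht
  obtain ⟨W, k, hxW, hW⟩ := exists_eq_nhd hxV (fun i => appS φ V (t i)) (fun i => rs F h (Q.s i)) (fun i => by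
    rw [← stalkMap_germ, ht, ha]
    exact (germ_rs (p := p) (x := ptIn hxU) (g := h) (v := ptIn hxV) rfl (Q.s i)).symm)
  refine ⟨W, hxW, epi_restr_of_gen φ (isGen_restrict Q.isGen (k ≫ h)) (fun i => rs G k (t i.down)) fun i => ?_⟩
  rw [appS_res, hW, ← map_val_comp]

/-- A module of finite presentation with free stalk is free near the point. -/
theorem exists_frame_nhd [SheafOfModules.IsFinitePresentation (R := ringSh O) F] (x : X) (r : ℕ)
    (e : stalkMod (Opens.pointGrothendieckTopology x) F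
      ≃ₗ[stalkRing (Opens.pointGrothendieckTopology x) O] (Fin r → stalkRing (Opens.pointGrothendieckTopology x) O)) :
    ∃ U : Opens X, x ∈ U ∧ ∃ t : ULift.{u} (Fin r) → sect F U, IsGen t ∧ IsIndep t := by
  classical
  obtain ⟨S, hS, hS'⟩ := exists_cover_locPres F (⊤ : Opens X)
  obtain ⟨U, g, hg, hxU⟩ := hS x trivial
  obtain ⟨P⟩ := hS' g hg
  let p := Opens.pointGrothendieckTopology x
  let basis : Fin r → stalkMod p F := fun i => e.symm (Pi.single i 1)
  have hrepr : ∀ v : stalkMod p F, v = ∑ i, e v i • basis i := fun v => by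
    apply e.injective
    rw [map_sum]
    simp only [map_smul, basis, e.apply_symm_apply]
    exact pi_eq_sum_univ' (e v)
  obtain ⟨V, h, hxV, ht⟩ := exists_sect_nhd (F := F) hxU (fun i => basis i)
  choose t ht using ht
  -- coefficients expressing the generators and the basis in each other
  obtain ⟨V₁, h₁, hxV₁, hab⟩ := exists_fun_nhd (O := O) hxV
    (fun j : Fin (P.n * r) => e (germ p F U (ptIn hxU) (P.s (finProdFinEquiv.symm j).1)) (finProdFinEquiv.symm j).2)
  choose a' ha' using hab
  let a : Fin P.n → Fin r → O.obj.obj (op V₁) := fun l i => a' (finProdFinEquiv (l, i))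
  have ha : ∀ l i, germRing p V₁ (ptIn hxV₁) (a l i) = e (germ p F U (ptIn hxU) (P.s l)) i := fun l i =>
    (ha' (finProdFinEquiv (l, i))).trans (by rw [Equiv.symm_apply_apply])
  have hspan := span_germ_eq_top p P.toGen.isGen (ptIn hxU)
  have hb : ∀ i, ∃ b : ULift.{u} (Fin P.n) → stalkRing p O,
      ∑ l, b l • (show stalkMod p F from germ p F U (ptIn hxU) (P.s l.down)) = basis i := fun i => by
    have := hspan.symm ▸ Submodule.mem_top (x := basis i)
    exact Submodule.mem_span_range_iff_exists_fun _ |>.1 this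
  choose bs hbs using hb
  obtain ⟨V₂, h₂, hxV₂, hb'⟩ := exists_fun_nhd (O := O) hxV₁
    (fun j : Fin (r * P.n) => bs (finProdFinEquiv.symm j).1 ⟨(finProdFinEquiv.symm j).2⟩)
  choose b' hb' using hb'
  let b : Fin r → Fin P.n → O.obj.obj (op V₂) := fun i l => b' (finProdFinEquiv (i, l))
  have hb2 : ∀ i l, germRing p V₂ (ptIn hxV₂) (b i l) = bs i ⟨l⟩ := fun i l =>
    (hb' (finProdFinEquiv (i, l))).trans (by rw [Equiv.symm_apply_apply])
  let a₂ : Fin P.n → Fin r → O.obj.obj (op V₂) := fun l i => (O.obj.map h₂.op).hom (a l i)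
  have ha₂ : ∀ l i, germRing p V₂ (ptIn hxV₂) (a₂ l i) = e (germ p F U (ptIn hxU) (P.s l)) i := fun l i =>
    (germRing_res (p := p) (x := ptIn hxV₁) (g := h₂) (v := ptIn hxV₂) rfl (a l i)).trans (ha l i)
  let q : V₂ ⟶ U := (h₂ ≫ h₁) ≫ h
  let t₂ : Fin r → sect F V₂ := fun i => rs F (h₂ ≫ h₁) (t i)
  let s₂ : Fin P.n → sect F V₂ := fun l => rs F q (P.s l)
  have gt : ∀ i, germ p F V₂ (ptIn hxV₂) (t₂ i) = basis i := fun i =>
    (germ_rs (p := p) (x := ptIn hxV) (g := h₂ ≫ h₁) (v := ptIn hxV₂) rfl (t i)).trans (ht i)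
  have gs : ∀ l, germ p F V₂ (ptIn hxV₂) (s₂ l) = germ p F U (ptIn hxU) (P.s l) := fun l =>
    germ_rs (p := p) (x := ptIn hxU) (g := q) (v := ptIn hxV₂) rfl (P.s l)
  -- these hold near the point
  obtain ⟨V₃, h₃, hxV₃, e1⟩ := exists_eq_nhd hxV₂ s₂ (fun l => ∑ i, a₂ l i • t₂ i) (fun l => by
    rw [germ_sum, gs]
    exact (hrepr _).trans (Finset.sum_congr rfl fun i _ => (congrArg₂ (· • ·) (ha₂ l i) (gt i)).symm))
  obtain ⟨V₄, h₄, hxV₄, e2⟩ := exists_eq_nhd hxV₃ (fun i => rs F h₃ (t₂ i)) (fun i => rs F h₃ (∑ l, b i l • s₂ l)) (fun i => by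
    rw [germ_rs (p := p) (x := ptIn hxV₂) (g := h₃) (v := ptIn hxV₃) rfl,
      germ_rs (p := p) (x := ptIn hxV₂) (g := h₃) (v := ptIn hxV₃) rfl, germ_sum, gt, ← hbs i]
    simp only [hb2, gs]
    exact Fintype.sum_equiv Equiv.ulift _ _ fun l => rfl)
  let q₄ : V₄ ⟶ V₂ := h₄ ≫ h₃
  let rr : Fin P.m → Fin P.n → O.obj.obj (op V₂) := fun k l => (O.obj.map q.op).hom (P.r k l)
  have hcancel : ∀ (v w : Fin r → stalkRing p O), ∑ i, v i • basis i = ∑ i, w i • basis i → v = w := fun v w hvw => by
    have := congrArg e hvw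
    simp only [map_sum, map_smul, basis, e.apply_symm_apply] at this
    rwa [← pi_eq_sum_univ', ← pi_eq_sum_univ'] at this
  obtain ⟨V₅, h₅, hxV₅, e3⟩ := exists_eqRing_nhd (O := O) hxV₄
    (fun j : Fin (P.m * r) => (O.obj.map q₄.op).hom
      (∑ l, rr (finProdFinEquiv.symm j).1 l * a₂ l (finProdFinEquiv.symm j).2))
    (fun _ => 0) (fun j => by
      rw [germRing_res (p := p) (x := ptIn hxV₂) (g := q₄) (v := ptIn hxV₄) rfl]
      refine Eq.trans ?_ (map_zero (p.toPresheafFiber V₄ (ptIn hxV₄) O.obj).hom).symm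
      refine (map_sum (p.toPresheafFiber V₂ (ptIn hxV₂) O.obj).hom _ _).trans ?_
      set k := (finProdFinEquiv.symm j).1
      set i := (finProdFinEquiv.symm j).2
      have hzero : ∑ i, (∑ l, germRing p V₂ (ptIn hxV₂) (rr k l) * e (germ p F U (ptIn hxU) (P.s l)) i) • basis i =
          ∑ i : Fin r, (0 : stalkRing p O) • basis i := by
        simp only [Finset.sum_smul, zero_smul, Finset.sum_const_zero]
        rw [Finset.sum_comm]
        simp only [← smul_smul, ← Finset.smul_sum, ← hrepr]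
        refine Eq.trans ?_ ((congrArg (germ p F U (ptIn hxU)) (P.rel k)).trans
          (map_zero (p.toPresheafFiber U (ptIn hxU) (toAb F).obj).hom))
        rw [germ_sum]
        exact Finset.sum_congr rfl fun l _ => congrArg (· • _)
          (germRing_res (p := p) (x := ptIn hxU) (g := q) (v := ptIn hxV₂) rfl _)
      refine Eq.trans ?_ (congrFun (hcancel _ _ hzero) i)
      exact Finset.sum_congr rfl fun l _ => (map_mul (p.toPresheafFiber V₂ (ptIn hxV₂) O.obj).hom _ _).trans
        (congrArg (_ * ·) (ha₂ l i)))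
  obtain ⟨W, h₆, hxW, e4⟩ := exists_eqRing_nhd (O := O) hxV₅
    (fun j : Fin (r * r) => (O.obj.map (h₅ ≫ q₄).op).hom
      (∑ l, b (finProdFinEquiv.symm j).1 l * a₂ l (finProdFinEquiv.symm j).2))
    (fun j => if (finProdFinEquiv.symm j).1 = (finProdFinEquiv.symm j).2 then 1 else 0) (fun j => by
      rw [germRing_res (p := p) (x := ptIn hxV₂) (g := h₅ ≫ q₄) (v := ptIn hxV₅) rfl]
      refine (map_sum (p.toPresheafFiber V₂ (ptIn hxV₂) O.obj).hom _ _).trans ?_
      set i₀ := (finProdFinEquiv.symm j).1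
      set i := (finProdFinEquiv.symm j).2
      have hone : ∑ i, (∑ l, germRing p V₂ (ptIn hxV₂) (b i₀ l) * e (germ p F U (ptIn hxU) (P.s l)) i) • basis i =
          ∑ i : Fin r, (if i₀ = i then (1 : stalkRing p O) else 0) • basis i := by
        simp only [Finset.sum_smul, ite_smul, zero_smul, one_smul, Finset.sum_ite_eq, Finset.mem_univ, if_true]
        rw [Finset.sum_comm, ← hbs i₀]
        simp only [← smul_smul, ← Finset.smul_sum, ← hrepr, hb2]
        exact (Fintype.sum_equiv Equiv.ulift _ _ fun l => rfl).symm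
      refine (Finset.sum_congr rfl fun l _ => ?_).trans ((congrFun (hcancel _ _ hone) i).trans ?_)
      · exact (map_mul (p.toPresheafFiber V₂ (ptIn hxV₂) O.obj).hom _ _).trans (congrArg (_ * ·) (ha₂ l i))
      · split_ifs
        · exact (map_one (p.toPresheafFiber V₅ (ptIn hxV₅) O.obj).hom).symm
        · exact (map_zero (p.toPresheafFiber V₅ (ptIn hxV₅) O.obj).hom).symm)
  -- the frame
  let qW : W ⟶ V₂ := (h₆ ≫ h₅) ≫ q₄
  have E1 : ∀ l, rs F qW (s₂ l) = ∑ i, (O.obj.map qW.op).hom (a₂ l i) • rs F qW (t₂ i) := fun l => by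
    rw [show qW = (h₆ ≫ h₅ ≫ h₄) ≫ h₃ by simp only [qW, q₄, Category.assoc]]
    refine (map_val_comp _ h₃ _).trans ((congrArg (rs F (h₆ ≫ h₅ ≫ h₄)) (e1 l)).trans ?_)
    rw [← map_val_comp, map_sum]
    exact Finset.sum_congr rfl fun i _ => map_val_smul _ _ _
  have E2 : ∀ i, rs F qW (t₂ i) = ∑ l, (O.obj.map qW.op).hom (b i l) • rs F qW (s₂ l) := fun i => by
    rw [show qW = ((h₆ ≫ h₅) ≫ h₄) ≫ h₃ by simp only [qW, q₄, Category.assoc]]
    refine (map_val_comp _ h₃ _).trans ((map_val_comp (h₆ ≫ h₅) h₄ _).trans ((congrArg (rs F (h₆ ≫ h₅)) (e2 i)).trans ?_))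
    rw [← map_val_comp, ← map_val_comp, map_sum]
    exact Finset.sum_congr rfl fun l _ => map_val_smul _ _ _
  have E3 : ∀ k i, ∑ l, (O.obj.map (qW ≫ q).op).hom (P.r k l) * (O.obj.map qW.op).hom (a₂ l i) = 0 := fun k i => by
    have := congrArg (O.obj.map h₆.op).hom (e3 (finProdFinEquiv (k, i)))
    simp only [Equiv.symm_apply_apply, map_zero, ← map_ring_comp, map_sum, map_mul, rr] at this
    simpa only [qW, q₄, Category.assoc] using this
  have E4 : ∀ i₀ i, ∑ l, (O.obj.map qW.op).hom (b i₀ l) * (O.obj.map qW.op).hom (a₂ l i) =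
      if i₀ = i then 1 else 0 := fun i₀ i => by
    have := e4 (finProdFinEquiv (i₀, i))
    simp only [Equiv.symm_apply_apply, apply_ite (O.obj.map h₆.op).hom, map_one, map_zero, ← map_ring_comp, map_sum,
      map_mul] at this
    simpa only [qW, Category.assoc] using this
  refine ⟨W, hxW, fun i => rs F qW (t₂ i.down), ?_, ?_⟩
  · intro T α y
    obtain ⟨R, hR, hR'⟩ := P.gen (α ≫ qW ≫ q) y
    refine ⟨R, hR, fun Z γ hγ => ?_⟩
    obtain ⟨c, hc⟩ := hR' γ hγ
    refine ⟨Finsupp.equivFunOnFinite.symm fun i =>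
      ∑ l, c l * (O.obj.map ((γ ≫ α) ≫ qW).op).hom (a₂ l i.down), ?_⟩
    rw [combS_eq_sum, ← hc]
    refine (Fintype.sum_equiv Equiv.ulift _
      (fun i => (∑ l, c l * (O.obj.map ((γ ≫ α) ≫ qW).op).hom (a₂ l i)) • rs F ((γ ≫ α) ≫ qW) (t₂ i))
      fun i => congrArg _ (map_val_comp _ _ _).symm).trans ?_
    simp only [Finset.sum_smul, ← smul_smul]
    rw [Finset.sum_comm]
    refine Finset.sum_congr rfl fun l _ => ?_
    rw [← Finset.smul_sum]
    refine congrArg (c l • ·) ?_
    have := congrArg (rs F (γ ≫ α)) (E1 l)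
    rw [map_sum] at this
    simp only [map_val_smul, ← map_val_comp, ← map_ring_comp, s₂] at this
    rw [← this]
    simp only [Category.assoc]
  · intro T α c hc
    let c' : Fin r → O.obj.obj (op T) := fun i => c ⟨i⟩
    have h0 : ∑ i, c' i • rs F α (rs F qW (t₂ i)) = 0 := by
      rw [← hc, combS_eq_sum]
      exact (Fintype.sum_equiv Equiv.ulift _ _ fun i => rfl).symm
    let v : Fin P.n → O.obj.obj (op T) := fun l => ∑ i, c' i * (O.obj.map (α ≫ qW).op).hom (b i l)
    have hv : ∑ l, v l • rs F (α ≫ qW ≫ q) (P.s l) = 0 := by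
      refine Eq.trans ?_ h0
      simp only [v, Finset.sum_smul, ← smul_smul]
      rw [Finset.sum_comm]
      refine Finset.sum_congr rfl fun i _ => ?_
      rw [← Finset.smul_sum, E2, map_sum]
      refine congrArg (c' i • ·) (Finset.sum_congr rfl fun l _ => ?_)
      rw [map_val_smul, map_ring_comp]
      simp only [s₂, map_val_comp]
    obtain ⟨R, hR, hR'⟩ := P.relgen _ v hv
    refine ⟨R, hR, fun Z γ hγ i => ?_⟩
    obtain ⟨d, hd⟩ := hR' γ hγ
    have key : ∑ l, (O.obj.map γ.op).hom (v l) * (O.obj.map (γ ≫ α ≫ qW).op).hom (a₂ l i.down) = 0 := by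
      simp only [hd, Finset.sum_mul, mul_assoc]
      rw [Finset.sum_comm]
      refine Finset.sum_eq_zero fun k _ => ?_
      rw [← Finset.mul_sum]
      refine (congrArg (d k * ·) ?_).trans (mul_zero _)
      have := congrArg (O.obj.map (γ ≫ α).op).hom (E3 k i.down)
      simp only [map_sum, map_mul, map_zero, ← map_ring_comp, Category.assoc] at this ⊢
      exact this
    refine Eq.trans ?_ key
    simp only [v, map_sum, map_mul, Finset.sum_mul, mul_assoc]
    rw [Finset.sum_comm]
    simp only [← Finset.mul_sum]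
    have hd2 : ∀ j, ∑ l, (O.obj.map γ.op).hom ((O.obj.map (α ≫ qW).op).hom (b j l)) *
        (O.obj.map (γ ≫ α ≫ qW).op).hom (a₂ l i.down) = if j = i.down then 1 else 0 := fun j => by
      have := congrArg (O.obj.map (γ ≫ α).op).hom (E4 j i.down)
      simp only [map_sum, map_mul, apply_ite (O.obj.map (γ ≫ α).op).hom, map_one, map_zero, ← map_ring_comp,
        Category.assoc] at this ⊢
      exact this
    simp only [hd2, mul_ite, mul_one, mul_zero, Finset.sum_ite_eq', Finset.mem_univ, if_true]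
    rfl

/-- An epimorphism between locally free modules of the same rank is an isomorphism. -/
theorem isIso_of_epi_rank {r : ℕ}
    (hF : ∀ x : X, ∃ U : Opens X, x ∈ U ∧ ∃ t : ULift.{u} (Fin r) → sect F U, IsGen t ∧ IsIndep t)
    (hG : ∀ x : X, ∃ U : Opens X, x ∈ U ∧ ∃ t : ULift.{u} (Fin r) → sect G U, IsGen t ∧ IsIndep t)
    (φ : F ⟶ G) [Epi φ] : IsIso φ := by
  classical
  have key : ∀ x : X, ∃ W : Opens X, x ∈ W ∧ ∀ ⦃T : Opens X⦄ (_ : T ⟶ W) (z : sect F T), appS φ T z = 0 → z = 0 := by
    intro x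
    obtain ⟨U₁, hx₁, t, htg, hti⟩ := hF x
    obtain ⟨U₂, hx₂, s, hsg, hsi⟩ := hG x
    let U := U₁ ⊓ U₂
    let t' := fun i => rs F (homOfLE inf_le_left : U ⟶ U₁) (t i)
    let s' := fun i => rs G (homOfLE inf_le_right : U ⟶ U₂) (s i)
    have ht' : IsGen t' := isGen_restrict htg _
    have hs'g : IsGen s' := isGen_restrict hsg _
    have hs'i : IsIndep s' := isIndep_restrict hsi _
    -- lift the basis of G
    obtain ⟨S, hS, hS'⟩ := Groth.Agent.PullFlat.exists_local_lifts φ (fun j : Fin r => s' ⟨j⟩)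
    obtain ⟨S₁, hS₁, hS₁'⟩ := exists_cover_forall (J := Opens.grothendieckTopology X)
      (fun (j : Fin r) (V : Opens X) (g : V ⟶ U) => ∃ c, combS s' g c = rs G g (appS φ U (t' ⟨j⟩)))
      (fun j => by
        obtain ⟨R, hR, hR'⟩ := hs'g (𝟙 U) (appS φ U (t' ⟨j⟩))
        exact ⟨R, hR, fun V g hg => by simpa using hR' g hg⟩)
    obtain ⟨V, g, hg, hxV⟩ := (Opens.grothendieckTopology X).intersection_covering hS hS₁ x ⟨hx₁, hx₂⟩
    obtain ⟨l, hl⟩ := hS' g hg.1
    choose A hA using hS₁' g hg.2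
    obtain ⟨S₂, hS₂, hS₂'⟩ := exists_cover_forall (J := Opens.grothendieckTopology X)
      (fun (j : Fin r) (W : Opens X) (h : W ⟶ V) => ∃ c, combS t' (h ≫ g) c = rs F h (l j))
      (fun j => ht' g (l j))
    obtain ⟨W₀, h, hh, hxW₀⟩ := hS₂ x hxV
    choose B hB using hS₂' h hh
    let A' : Matrix (Fin r) (Fin r) (O.obj.obj (op W₀)) := fun i j => (O.obj.map h.op).hom (A i ⟨j⟩)
    let B' : Matrix (Fin r) (Fin r) (O.obj.obj (op W₀)) := fun i j => B i ⟨j⟩
    -- B A = 1 near x
    let bA : Fin r → (ULift.{u} (Fin r) →₀ O.obj.obj (op W₀)) := fun i =>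
      Finsupp.equivFunOnFinite.symm (fun k : ULift.{u} (Fin r) => (B' * A') i k.down) -
        Finsupp.single (⟨i⟩ : ULift.{u} (Fin r)) 1
    have hBA : ∀ i, combS s' (h ≫ g) (bA i) = 0 := fun i => by
      simp only [bA]
      rw [map_sub, combS_single, one_smul, sub_eq_zero]
      refine Eq.trans ?_ ((congrArg (rs G h) (hl i)).trans (map_val_comp h g _).symm)
      rw [← appS_res, ← hB i, appS_combS, combS_eq_sum, combS_eq_sum]
      have hA' : ∀ j : ULift.{u} (Fin r), rs G (h ≫ g) (appS φ U (t' j)) =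
          ∑ k, A' j.down k.down • rs G (h ≫ g) (s' k) := fun j => by
        rw [map_val_comp h g, ← hA j.down, combS_res, combS_eq_sum]
        rfl
      simp only [hA', Finset.smul_sum, smul_smul, Matrix.mul_apply]
      rw [Finset.sum_comm]
      refine Finset.sum_congr rfl fun k _ => ?_
      simp only [Finsupp.equivFunOnFinite, Equiv.coe_fn_symm_mk, Finsupp.coe_mk, Finset.sum_smul]
      exact (Fintype.sum_equiv Equiv.ulift _ _ fun j => rfl).symm
    obtain ⟨S₃, hS₃, hS₃'⟩ := exists_cover_forall (J := Opens.grothendieckTopology X)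
      (fun (i : Fin r) (W : Opens X) (k : W ⟶ W₀) => ∀ j, (O.obj.map k.op).hom
        (bA i j) = 0)
      (fun i => hs'i _ _ (hBA i))
    obtain ⟨W, k, hk, hxW⟩ := hS₃ x hxW₀
    let A'' := A'.map (O.obj.map k.op).hom
    let B'' := B'.map (O.obj.map k.op).hom
    have hBA' : B'' * A'' = 1 := by
      refine Matrix.ext fun i j => ?_
      have := hS₃' k hk i ⟨j⟩
      simp only [bA] at this
      rw [Finsupp.sub_apply, map_sub, sub_eq_zero] at this
      show _ = (1 : Matrix (Fin r) (Fin r) _) i j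
      rw [← Matrix.map_mul, Matrix.map_apply]
      refine this.trans ?_
      rw [Finsupp.single_apply, Matrix.one_apply]
      simp only [ULift.up_inj]
      split_ifs <;> simp
    have hAB : A'' * B'' = 1 := mul_eq_one_comm.1 hBA'
    refine ⟨W, hxW, fun T α z hz => appS_eq_zero_of_frame φ
      (isGen_restrict ht' (k ≫ h ≫ g)) ?_ α z hz⟩
    intro T' β c hc
    have hsum : combS s' (β ≫ k ≫ h ≫ g) (Finsupp.equivFunOnFinite.symm fun m : ULift.{u} (Fin r) =>
        ∑ j : ULift.{u} (Fin r), c j * (O.obj.map β.op).hom (A'' j.down m.down)) = 0 := by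
      refine Eq.trans ?_ hc
      rw [combS_eq_sum, combS_eq_sum]
      simp only [Finsupp.equivFunOnFinite, Equiv.coe_fn_symm_mk, Finsupp.coe_mk, Finset.sum_smul, ← smul_smul]
      rw [Finset.sum_comm]
      refine Finset.sum_congr rfl fun j _ => ?_
      rw [← Finset.smul_sum]
      refine congrArg (c j • ·) ?_
      rw [appS_res, map_val_comp k (h ≫ g), map_val_comp h g, ← hA j.down, combS_res, combS_res, combS_res,
        combS_eq_sum]
      exact Finset.sum_congr rfl fun m _ => rfl
    obtain ⟨R, hR, hR'⟩ := hs'i _ _ hsum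
    refine ⟨R, hR, fun Z γ hγ i => ?_⟩
    let v : Fin r → O.obj.obj (op Z) := fun j => (O.obj.map γ.op).hom (c ⟨j⟩)
    have h1 : Matrix.vecMul v (A''.map (O.obj.map (γ ≫ β).op).hom) = 0 := funext fun m => by
      refine Eq.trans ?_ (hR' γ hγ ⟨m⟩)
      simp only [Matrix.vecMul, dotProduct, Finsupp.equivFunOnFinite, Equiv.coe_fn_symm_mk, Finsupp.coe_mk, map_sum,
        map_mul, ← map_ring_comp, Matrix.map_apply, v]
      exact (Fintype.sum_equiv Equiv.ulift _ _ fun j => rfl).symm
    have h2 := congrArg (fun w => Matrix.vecMul w (B''.map (O.obj.map (γ ≫ β).op).hom)) h1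
    simp only [Matrix.vecMul_vecMul, ← Matrix.map_mul, hAB, Matrix.zero_vecMul] at h2
    rw [Matrix.map_one _ (map_zero _) (map_one _), Matrix.vecMul_one] at h2
    exact congrFun h2 i.down
  haveI : Mono φ := Groth.Agent.PullFlat.mono_of_appS_injective φ fun T z hz => by
    choose W hxW hW using key
    refine eq_zero_of_locally F (S := Sieve.generate (Presieve.ofArrows (fun x : T => (W x.1 ⊓ T : Opens X))
      fun x => homOfLE inf_le_right)) (fun x hx => ?_) z ?_
    · exact ⟨W x ⊓ T, homOfLE inf_le_right, Sieve.le_generate _ _ _ (Presieve.ofArrows.mk (⟨x, hx⟩ : T)), ⟨hxW x, hx⟩⟩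
    · rintro V _ ⟨V', a, b, hb, rfl⟩
      obtain ⟨x⟩ := hb
      refine hW x.1 (a ≫ homOfLE inf_le_left) _ ?_
      rw [appS_res, hz, map_zero]
  exact isIso_of_mono_of_epi φ

/-- Any two frames of a module at a point have equally many members. -/
theorem card_eq_of_frames {x : X} (hO : Nontrivial (TopCat.Presheaf.stalk (C := CommRingCat.{u}) O.obj x)) {U U' : Opens X} (hU : x ∈ U) (hU' : x ∈ U')
    {I I' : Type u} {t : I → sect F U} (ht : IsGen t) (ht' : IsIndep t) {t₁ : I' → sect F U'} (h₁ : IsGen t₁)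
    (h₁' : IsIndep t₁) : Cardinal.mk I = Cardinal.mk I' := by
  let p := Opens.pointGrothendieckTopology x
  haveI : Nontrivial (stalkRing p O) := by
    by_contra hn
    rw [not_nontrivial_iff_subsingleton] at hn
    have h01 : germRing (O := O) p U (ptIn hU) 0 = germRing p U (ptIn hU) 1 := Subsingleton.elim _ _
    obtain ⟨V, g, v, -, hV⟩ := exists_eq_of_germRing_eq _ h01
    rw [map_zero, map_one] at hV
    exact zero_ne_one ((map_zero (TopCat.Presheaf.germ (C := CommRingCat.{u}) O.obj V x (mem_of_fiber v)).hom).symm.trans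
      ((congrArg _ hV).trans (map_one (TopCat.Presheaf.germ (C := CommRingCat.{u}) O.obj V x (mem_of_fiber v)).hom)))
  let b₁ := Module.Basis.mk (linearIndependent_germ p ht' (ptIn hU)) (span_germ_eq_top p ht (ptIn hU)).ge
  let b₂ := Module.Basis.mk (linearIndependent_germ p h₁' (ptIn hU')) (span_germ_eq_top p h₁ (ptIn hU')).ge
  simpa using mk_eq_mk_of_basis b₁ b₂

theorem exists_rank [SheafOfModules.IsLocallyFree (R := ringSh O) F]
    (hO : ∀ x : X, Nontrivial (TopCat.Presheaf.stalk (C := CommRingCat.{u}) O.obj x)) :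
    ∃ rk : X → ℕ∞, IsLocallyConstant rk ∧ ∀ (x : X) (U : Opens X) (I : Type u), x ∈ U →
      Nonempty ((restr O U).obj F ≅ SheafOfModules.free I) → ENat.card I = rk x := by
  obtain ⟨q, hq⟩ := SheafOfModules.IsLocallyFree.exists_isLocallyFreeData (M := F)
  have hc : ∀ x : X, ∃ i, x ∈ q.X i := fun x => by
    obtain ⟨V, g, hg, hxV⟩ := q.coversTop ⊤ x trivial
    obtain ⟨i, ⟨a⟩⟩ := (Sieve.mem_ofObjects_iff ..).mp hg
    exact ⟨i, a.le hxV⟩
  choose i hi using hc
  haveI := fun j => hq.isIso j
  have huniq : ∀ (x : X) (U : Opens X) (I : Type u) (t : I → sect F U), x ∈ U → IsGen t → IsIndep t →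
      ENat.card I = ENat.card (q.generators (i x)).I := fun x U I t hxU ht ht' =>
    congrArg Cardinal.toENat (card_eq_of_frames (hO x) hxU (hi x) ht ht'
      (isGen_of_generatingSections (q.generators (i x))) (isIndep_of_generatingSections (q.generators (i x))))
  refine ⟨fun x => ENat.card (q.generators (i x)).I, (IsLocallyConstant.iff_exists_open _).2 fun x => ?_,
    fun x U I hxU ⟨e⟩ => ?_⟩
  · refine ⟨q.X (i x), (q.X (i x)).2, hi x, fun y hy => ?_⟩
    exact (huniq y (q.X (i x)) _ _ hy (isGen_of_generatingSections (q.generators (i x)))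
      (isIndep_of_generatingSections (q.generators (i x)))).symm
  · obtain ⟨t, ht, ht'⟩ := exists_frame_of_iso e
    exact huniq x U I t hxU ht ht'

end Groth.Agent.LocPres
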