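import Groth.Agent.LocPres.TensorGen
import Groth.Agent.ModFlat.Relations

/-!
# Presentations of tensor products
-/

set_option autoImplicit false
set_option linter.style.haveILetI false
set_option linter.dupNamespace false

universe u

open CategoryTheory CategoryTheory.Limits Opposite ModSite
open scoped TensorProduct

attribute [local instance] Classical.propDecidable

namespace Groth.Agent.LocPres

open Groth.Agent.ModFlat (rs map_val_smul map_val_comp map_ring_comp exists_relation_data)
open Groth.Agent.PullFlat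

variable {C : Type u} [SmallCategory C] {J : GrothendieckTopology C} {O : Sheaf J CommRingCat.{u}}
  {F G : Mod O} {X : C} {I K : Type u}

/-- Combinations equal in a free family are equal in every family. -/
theorem combS_eq_of_indep {t : I → sect G X} (ht : IsIndep t) (s : I → sect F X) {T : C} (a : T ⟶ X)
    {c c' : I →₀ O.obj.obj (op T)} (h : combS t a c = combS t a c') : combS s a c = combS s a c' := by
  have h0 : combS t a (c - c') = 0 := by rw [map_sub, h, sub_self]
  obtain ⟨S, hS, hS'⟩ := ht a _ h0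
  rw [← sub_eq_zero, ← map_sub]
  refine eq_zero_of_locally _ hS _ fun V g hg => ?_
  rw [combS_res, show (c - c').mapRange (O.obj.map g.op).hom (map_zero _) = 0 from
    Finsupp.ext fun i => Finsupp.mapRange_apply.trans (hS' g hg i), map_zero]

/-- Locally a combination of `z`. -/
def LocRange (z : K → sect G X) {T : C} (a : T ⟶ X) (x : sect G T) : Prop :=
  ∃ S ∈ J T, ∀ ⦃V : C⦄ (g : V ⟶ T), S g → ∃ d : K →₀ O.obj.obj (op V), combS z (g ≫ a) d = rs G g x

theorem LocRange.zero {z : K → sect G X} {T : C} {a : T ⟶ X} : LocRange z a 0 :=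
  ⟨⊤, J.top_mem T, fun V g _ => ⟨0, by rw [map_zero, map_zero]⟩⟩

theorem LocRange.add {z : K → sect G X} {T : C} {a : T ⟶ X} {x y : sect G T} (hx : LocRange z a x)
    (hy : LocRange z a y) : LocRange z a (x + y) := by
  obtain ⟨S, hS, hS'⟩ := hx
  obtain ⟨R, hR, hR'⟩ := hy
  refine ⟨S ⊓ R, J.intersection_covering hS hR, fun V g hg => ?_⟩
  obtain ⟨d, hd⟩ := hS' g hg.1
  obtain ⟨e, he⟩ := hR' g hg.2
  exact ⟨d + e, by rw [map_add, map_add, hd, he]⟩

theorem LocRange.smul {z : K → sect G X} {T : C} {a : T ⟶ X} {x : sect G T} (r : O.obj.obj (op T))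
    (hx : LocRange z a x) : LocRange z a (r • x) := by
  obtain ⟨S, hS, hS'⟩ := hx
  refine ⟨S, hS, fun V g hg => ?_⟩
  obtain ⟨d, hd⟩ := hS' g hg
  exact ⟨(O.obj.map g.op).hom r • d, by rw [map_smul, hd, map_val_smul]⟩

theorem LocRange.sum {z : K → sect G X} {T : C} {a : T ⟶ X} {n : ℕ} {x : Fin n → sect G T}
    (hx : ∀ i, LocRange z a (x i)) : LocRange z a (∑ i, x i) :=
  Finset.sum_induction _ (LocRange z a) (fun _ _ => LocRange.add) LocRange.zero fun i _ => hx i

theorem LocRange.of_cover {z : K → sect G X} {T : C} {a : T ⟶ X} {x : sect G T} {S : Sieve T} (hS : S ∈ J T)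
    (h : ∀ ⦃V : C⦄ (g : V ⟶ T), S g → LocRange z (g ≫ a) (rs G g x)) : LocRange z a x :=
  exists_cover_bind _ hS fun V g hg => by
    obtain ⟨R, hR, hR'⟩ := h g hg
    refine ⟨R, hR, fun W k hk => ?_⟩
    obtain ⟨d, hd⟩ := hR' k hk
    exact ⟨d, by rw [map_val_comp, Category.assoc]; exact hd⟩

/-- The relations of a product. -/
noncomputable abbrev pairZ {I' K' : Type u} (P : I → sect F X) (zP : K → sect F X) (Q : I' → sect G X)
    (zQ : K' → sect G X) : (K × I') ⊕ (I × K') → sect (tens₂ F G) X :=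
  Sum.elim (pairS zP Q) (pairS P zQ)

theorem locRange_left {I' K' : Type u} {t : I → sect F X} {z : K → sect F X} {t' : I' → sect G X}
    (z' : K' → sect G X) {T : C} {a : T ⟶ X} {x : sect F T} (hx : LocRange z a x) (d : I' →₀ O.obj.obj (op T)) :
    LocRange (pairZ t z t' z') a (tmulS x (combS t' a d)) := by
  obtain ⟨S, hS, hS'⟩ := hx
  refine ⟨S, hS, fun V g hg => ?_⟩
  obtain ⟨e, he⟩ := hS' g hg
  rw [tmulS_res, ← he, combS_res]
  obtain ⟨c, hc⟩ := tmulS_combS_mem z t' (g ≫ a) e (d.mapRange (O.obj.map g.op).hom (map_zero _))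
  exact ⟨c.mapDomain Sum.inl, (combS_mapDomain _ _ _ _).trans hc⟩

theorem locRange_right {I' K' : Type u} {t : I → sect F X} (z : K → sect F X) {t' : I' → sect G X}
    {z' : K' → sect G X} {T : C} {a : T ⟶ X} {y : sect G T} (d : I →₀ O.obj.obj (op T)) (hy : LocRange z' a y) :
    LocRange (pairZ t z t' z') a (tmulS (combS t a d) y) := by
  obtain ⟨S, hS, hS'⟩ := hy
  refine ⟨S, hS, fun V g hg => ?_⟩
  obtain ⟨e, he⟩ := hS' g hg
  rw [tmulS_res, ← he, combS_res]
  obtain ⟨c, hc⟩ := tmulS_combS_mem t z' (g ≫ a) (d.mapRange (O.obj.map g.op).hom (map_zero _)) e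
  exact ⟨c.mapDomain Sum.inr, (combS_mapDomain _ _ _ _).trans hc⟩

/-- The bookkeeping identity. -/
theorem pair_identity {R A B N : Type*} [CommRing R] [AddCommGroup A] [Module R A] [AddCommGroup B] [Module R B]
    [AddCommGroup N] [Module R N] (β : A →ₗ[R] B →ₗ[R] N) {n q m : ℕ} (τ : Fin n → A) (Y : Fin n → B)
    (α : Fin q → Fin n → R) (H : Fin q → B) (r : Fin m → Fin q → R) (W : Fin m → A) :
    ∑ j, β (τ j) (Y j) = ∑ j, β (τ j) (Y j - ∑ p, α p j • H p) +
      (∑ p, β ((∑ j, α p j • τ j) - ∑ l, r l p • W l) (H p) + ∑ l, β (W l) (∑ p, r l p • H p)) := by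
  simp only [map_sub, map_sum, map_smul, LinearMap.sub_apply, LinearMap.sum_apply, LinearMap.smul_apply,
    Finset.sum_sub_distrib, Finset.smul_sum]
  rw [Finset.sum_comm (f := fun (p : Fin q) (j : Fin n) => α p j • β (τ j) (H p)),
    Finset.sum_comm (f := fun (p : Fin q) (l : Fin m) => r l p • β (W l) (H p))]
  abel

variable (P : GPres F X) (Q : GPres G X)

theorem pair_vanish {T : C} (a : T ⟶ X) (c : P.I × Q.I →₀ O.obj.obj (op T)) (k : (P.K × Q.I) ⊕ (P.I × Q.K))
    (h : combS (pairS P.t Q.t) a c = rs _ a (pairZ P.t P.z Q.t Q.z k)) : combS (pairS P.s Q.s) a c = 0 := by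
  have hti := isIndep_pair P.tgen P.tindep Q.tgen Q.tindep
  rcases k with ⟨k, j⟩ | ⟨i, l⟩
  · obtain ⟨S, hS, hS'⟩ := P.tgen a (rs P.G a (P.z k))
    refine eq_zero_of_locally _ hS _ fun V g hg => ?_
    obtain ⟨d, hd⟩ := hS' g hg
    rw [← map_val_comp] at hd
    have e1 : combS (pairS P.t Q.t) (g ≫ a) (c.mapRange (O.obj.map g.op).hom (map_zero _)) =
        combS (pairS P.t Q.t) (g ≫ a) (d.mapDomain fun i => (i, j)) := by
      rw [← combS_res, h, ← map_val_comp, combS_pair_right, hd]
      exact rs_pairS P.z Q.t (g ≫ a) (k, j)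
    rw [combS_res, combS_eq_of_indep hti (pairS P.s Q.s) _ e1, combS_pair_right, P.vanish _ d k hd]
    exact tmulS_zero_left _
  · obtain ⟨S, hS, hS'⟩ := Q.tgen a (rs Q.G a (Q.z l))
    refine eq_zero_of_locally _ hS _ fun V g hg => ?_
    obtain ⟨d, hd⟩ := hS' g hg
    rw [← map_val_comp] at hd
    have e0 : ∀ {M N : Mod O} (v : P.I → sect M X) (w : Q.I → sect N X),
        combS (pairS v w) (g ≫ a) (d.mapDomain fun j => (i, j)) = tmulS (rs M (g ≫ a) (v i)) (combS w (g ≫ a) d) := by
      intro M N v w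
      rw [combS_mapDomain]
      show _ = tmulL V (rs M (g ≫ a) (v i)) (combS w (g ≫ a) d)
      clear hd
      induction d using Finsupp.induction_linear with
      | zero => rw [map_zero, map_zero, map_zero]
      | add c c' hc hc' => rw [map_add, map_add, map_add, hc, hc']
      | single j r =>
        rw [combS_single, combS_single, map_smul, rs_pairS]
        rfl
    have e1 : combS (pairS P.t Q.t) (g ≫ a) (c.mapRange (O.obj.map g.op).hom (map_zero _)) =
        combS (pairS P.t Q.t) (g ≫ a) (d.mapDomain fun j => (i, j)) := by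
      rw [← combS_res, h, ← map_val_comp, e0, hd]
      exact rs_pairS P.t Q.z (g ≫ a) (i, l)
    rw [combS_res, combS_eq_of_indep hti (pairS P.s Q.s) _ e1, e0, Q.vanish _ d l hd]
    exact (map_zero (tmulL V (rs F (g ≫ a) (P.s i))))

theorem pair_gen {T : C} (a : T ⟶ X) (c : P.I × Q.I →₀ O.obj.obj (op T)) (h : combS (pairS P.s Q.s) a c = 0) :
    LocRange (pairZ P.t P.z Q.t Q.z) a (combS (pairS P.t Q.t) a c) := by
  let A := c.curry.support
  let en : Fin A.card → P.I := fun j => (A.equivFin.symm j : P.I)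
  have hsum : ∀ {M : Type u} [AddCommMonoid M] (f : P.I → M), ∑ j, f (en j) = ∑ x ∈ A, f x := fun {M} _ f => by
    rw [← Finset.sum_coe_sort A]
    exact Fintype.sum_equiv A.equivFin.symm _ _ fun _ => rfl
  have h0 : ∑ j, tmulS (rs F a (P.s (en j))) (combS Q.s a (c.curry (en j))) = 0 :=
    (hsum fun i => tmulS (rs F a (P.s i)) (combS Q.s a (c.curry i))).trans ((combS_pair_curry _ _ a c).symm.trans h)
  rw [combS_pair_curry, show (c.curry.sum fun i d => tmulS (rs P.G a (P.t i)) (combS Q.t a d)) =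
    ∑ j, tmulS (rs P.G a (P.t (en j))) (combS Q.t a (c.curry (en j))) from
      (hsum fun i => tmulS (rs P.G a (P.t i)) (combS Q.t a (c.curry i))).symm]
  obtain ⟨S, hS, hS'⟩ := exists_tens_zero _ _ h0
  refine LocRange.of_cover hS fun V g hg => ?_
  -- relations in the tensor product of sections
  let R := O.obj.obj (op V)
  let φ := Fintype.linearCombination R fun j => rs F g (rs F a (P.s (en j)))
  let z : TensorProduct R (Fin A.card → R) (sect G V) :=
    ∑ j, Pi.single j 1 ⊗ₜ rs G g (combS Q.s a (c.curry (en j)))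
  obtain ⟨q, m, ξ, α, r, b, hza, hr, hb⟩ := exists_relation_data φ z (by
    refine Eq.trans ?_ (hS' g hg)
    rw [map_sum]
    refine Finset.sum_congr rfl fun j _ => ?_
    rw [LinearMap.rTensor_tmul, Fintype.linearCombination_apply_single, one_smul])
  have hj : ∀ j, rs G g (combS Q.s a (c.curry (en j))) = ∑ p, α p j • ξ p := fun j => by
    let e := TensorProduct.lift ((LinearMap.lsmul R (sect G V)).comp (LinearMap.proj (φ := fun _ : Fin A.card => R) j))
    have := congrArg e hza
    simp only [z, e, map_sum, TensorProduct.lift.tmul, LinearMap.comp_apply, LinearMap.proj_apply,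
      LinearMap.lsmul_apply, Pi.single_apply, ite_smul, one_smul, zero_smul, Finset.sum_ite_eq, Finset.mem_univ,
      if_true] at this
    exact this
  -- lift the sections to combinations of the generators
  obtain ⟨S₁, hS₁, hS₁'⟩ := exists_cover_forall (J := J) (fun (p : Fin q) (W : C) (k : W ⟶ V) =>
      ∃ d : Q.I →₀ O.obj.obj (op W), combS Q.s (k ≫ g ≫ a) d = rs G k (ξ p)) fun p => Q.sgen (g ≫ a) (ξ p)
  obtain ⟨S₂, hS₂, hS₂'⟩ := exists_cover_forall (J := J) (fun (l : Fin m) (W : C) (k : W ⟶ V) =>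
      ∃ d : P.I →₀ O.obj.obj (op W), combS P.s (k ≫ g ≫ a) d = rs F k (b l)) fun l => P.sgen (g ≫ a) (b l)
  refine LocRange.of_cover (J.intersection_covering hS₁ hS₂) fun W k hk => ?_
  choose η hη using hS₁' k hk.1
  choose β hβ using hS₂' k hk.2
  let ρ := (O.obj.map k.op).hom
  let cc : Fin A.card → (Q.I →₀ O.obj.obj (op W)) := fun j =>
    (((c.curry (en j)).mapRange (O.obj.map g.op).hom (map_zero _)).mapRange ρ (map_zero _))
  have hcc : ∀ {M : Mod O} (v : Q.I → sect M X) (j : Fin A.card),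
      rs M k (rs M g (combS v a (c.curry (en j)))) = combS v (k ≫ g ≫ a) (cc j) := fun v j => by
    rw [combS_res, combS_res]
  have hP : ∀ {M : Mod O} (v : P.I → sect M X) (j : Fin A.card),
      rs M k (rs M g (rs M a (v (en j)))) = combS v (k ≫ g ≫ a) (Finsupp.single (en j) 1) := fun v j => by
    rw [combS_single, one_smul, ← map_val_comp g, ← map_val_comp k]
  rw [← map_val_comp, map_sum]
  have e : ∀ j, rs _ (k ≫ g) (tmulS (rs P.G a (P.t (en j))) (combS Q.t a (c.curry (en j)))) =
      tmulL W (combS P.t (k ≫ g ≫ a) (Finsupp.single (en j) 1)) (combS Q.t (k ≫ g ≫ a) (cc j)) := fun j => by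
    rw [tmulS_res, map_val_comp, map_val_comp, hcc Q.t j, hP P.t j]
    rfl
  simp only [e]
  rw [pair_identity (tmulL W) _ _ (fun p j => ρ (α p j)) (fun p => combS Q.t (k ≫ g ≫ a) (η p))
    (fun l p => ρ (r l p)) (fun l => combS P.t (k ≫ g ≫ a) (β l))]
  simp only [← map_smul, ← map_sum, ← map_sub]
  refine LocRange.add (LocRange.sum fun j => ?_) (LocRange.add (LocRange.sum fun p => ?_) (LocRange.sum fun l => ?_))
  · refine locRange_right P.z (Finsupp.single (en j) 1) (Q.gen (k ≫ g ≫ a) _ ?_)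
    rw [map_sub, map_sum, sub_eq_zero, ← hcc Q.s j, hj, map_sum]
    exact Finset.sum_congr rfl fun p _ => (map_val_smul k _ _).trans
      ((map_smul (combS Q.s (k ≫ g ≫ a)) _ _).trans (congrArg _ (hη p))).symm
  · refine locRange_left Q.z (P.gen (k ≫ g ≫ a) _ ?_) (η p)
    rw [map_sub, map_sum, map_sum, sub_eq_zero]
    simp only [map_smul, hβ, ← hP P.s]
    have := congrArg (rs F k) (hb p)
    simp only [φ, Fintype.linearCombination_apply, map_sum] at this
    exact ((Finset.sum_congr rfl fun j _ => (map_val_smul k _ _).symm).trans this).trans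
      (Finset.sum_congr rfl fun l _ => map_val_smul k _ _)
  · refine locRange_right P.z (β l) (Q.gen (k ≫ g ≫ a) _ ?_)
    rw [map_sum]
    simp only [map_smul, hη]
    have := congrArg (rs G k) (hr l)
    simp only [map_sum, map_zero] at this
    exact (Finset.sum_congr rfl fun p _ => (map_val_smul k _ _).symm).trans this

/-- The presentation of a tensor product. -/
noncomputable def GPres.tensor : GPres (tens₂ F G) X where
  G := tens₂ P.G Q.G
  I := P.I × Q.I
  K := (P.K × Q.I) ⊕ (P.I × Q.K)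
  t := pairS P.t Q.t
  s := pairS P.s Q.s
  z := pairZ P.t P.z Q.t Q.z
  tgen := isGen_pair P.tgen Q.tgen
  tindep := isIndep_pair P.tgen P.tindep Q.tgen Q.tindep
  sgen := isGen_pair P.sgen Q.sgen
  vanish _ a c k h := pair_vanish P Q a c k h
  gen _ a c h := pair_gen P Q a c h

end Groth.Agent.LocPres
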