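import Groth.Agent.LocPres.Gen

/-!
# Finite type and finite presentation from data on sections
-/

set_option autoImplicit false
set_option linter.style.haveILetI false
set_option linter.dupNamespace false

universe u

open CategoryTheory CategoryTheory.Limits Opposite ModSite

namespace Groth.Agent.LocPres

open Groth.Agent.ModFlat (rs map_val_smul map_val_comp map_ring_comp)
open Groth.Agent.PullFlat (overSec rs_id appS)
open Groth.Agent.ModAlg (el el_locally_surjective hom_el)

variable {C : Type u} [SmallCategory C] {J : GrothendieckTopology C} {O : Sheaf J CommRingCat.{u}}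
  {F : Mod O} {X : C}

/-- A finite family generating a module over `X`. -/
structure LocGen (F : Mod O) (X : C) where
  n : ℕ
  s : Fin n → sect F X
  gen : ∀ {T : C} (a : T ⟶ X) (x : sect F T), ∃ S ∈ J T, ∀ ⦃V : C⦄ (g : V ⟶ T), S g →
    ∃ c : Fin n → O.obj.obj (op V), ∑ i, c i • rs F (g ≫ a) (s i) = rs F g x

/-- The generators of a presentation. -/
def LocPres.toGen (P : LocPres F X) : LocGen F X := ⟨P.n, P.s, P.gen⟩

theorem sum_ulift {n : ℕ} {R M : Type u} [Semiring R] [AddCommMonoid M] [Module R M]
    (f : ULift.{u} (Fin n) → R) (v : Fin n → M) : ∑ i, f i • v i.down = ∑ i, f ⟨i⟩ • v i :=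
  Fintype.sum_equiv Equiv.ulift _ _ fun _ => rfl

theorem LocGen.isGen (G : LocGen F X) : IsGen (fun i : ULift.{u} (Fin G.n) => G.s i.down) := by
  intro T a x
  obtain ⟨S, hS, hS'⟩ := G.gen a x
  refine ⟨S, hS, fun V g hg => ?_⟩
  obtain ⟨c, hc⟩ := hS' g hg
  refine ⟨Finsupp.equivFunOnFinite.symm fun i => c i.down, ?_⟩
  rw [combS_eq_sum, ← hc]
  exact Fintype.sum_equiv Equiv.ulift _ _ fun i => rfl

/-- Restriction of generators. -/
noncomputable def LocGen.restrict (G : LocGen F X) {Y : C} (h : Y ⟶ X) : LocGen F Y where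
  n := G.n
  s i := rs F h (G.s i)
  gen {T} a x := by
    obtain ⟨S, hS, hS'⟩ := G.gen (a ≫ h) x
    refine ⟨S, hS, fun V g hg => ?_⟩
    obtain ⟨c, hc⟩ := hS' g hg
    exact ⟨c, hc ▸ Finset.sum_congr rfl fun i _ => by rw [← map_val_comp, Category.assoc]⟩

theorem nonempty_locGen_of_generatingSections
    (σ : SheafOfModules.GeneratingSections (SheafOfModules.over (R := ringSh O) F X)) [σ.IsFiniteType] :
    Nonempty (LocGen F X) := by
  haveI : Finite σ.I := SheafOfModules.GeneratingSections.IsFiniteType.finite (σ := σ)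
  haveI := Fintype.ofFinite σ.I
  obtain ⟨n, ⟨e⟩⟩ := Finite.exists_equiv_fin σ.I
  refine ⟨⟨n, fun j => (σ.s (e.symm j)).val (op (CategoryTheory.Over.mk (𝟙 X))), fun {T} a x => ?_⟩⟩
  obtain ⟨S, hS, hS'⟩ := isGen_of_generatingSections σ a x
  refine ⟨S, hS, fun V g hg => ?_⟩
  obtain ⟨c, hc⟩ := hS' g hg
  refine ⟨fun j => c (e.symm j), ?_⟩
  rw [← hc, combS_eq_sum]
  exact Fintype.sum_equiv e.symm _ _ fun j => rfl

/-- Finite type modules are locally finitely generated. -/
theorem exists_cover_locGen (F : Mod O) [SheafOfModules.IsFiniteType (R := ringSh O) F] (U : C) :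
    ∃ S ∈ J U, ∀ ⦃V : C⦄ (g : V ⟶ U), S g → Nonempty (LocGen F V) := by
  obtain ⟨q, hq⟩ := SheafOfModules.IsFiniteType.exists_localGeneratorsData (M := F)
  refine ⟨_, q.coversTop U, fun V g hg => ?_⟩
  obtain ⟨i, ⟨h⟩⟩ := (Sieve.mem_ofObjects_iff ..).mp hg
  haveI := hq.isFiniteType i
  exact (nonempty_locGen_of_generatingSections (q.generators i)).map fun G => G.restrict h

/-- Locally finitely generated modules are of finite type. -/
theorem isFiniteType_of_cover
    (h : ∀ U : C, ∃ S ∈ J U, ∀ ⦃V : C⦄ (g : V ⟶ U), S g → Nonempty (LocGen F V)) :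
    SheafOfModules.IsFiniteType (R := ringSh O) F := by
  let q : SheafOfModules.LocalGeneratorsData.{u} (R := ringSh O) F :=
    { I := {V : C // Nonempty (LocGen F V)}
      X := fun i => i.1
      coversTop := fun U => by
        obtain ⟨S, hS, hS'⟩ := h U
        refine J.superset_covering (fun V g hg => ?_) hS
        exact (Sieve.mem_ofObjects_iff ..).mpr ⟨⟨V, hS' g hg⟩, ⟨𝟙 V⟩⟩
      generators := fun i => i.2.some.isGen.generatingSections }
  have hfin : ∀ i : q.I, (q.generators i).IsFiniteType := fun i =>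
    SheafOfModules.GeneratingSections.IsFiniteType.mk (σ := q.generators i)
      (show Finite (ULift.{u} (Fin i.2.some.n)) from inferInstance)
  have hq : q.IsFiniteType := SheafOfModules.LocalGeneratorsData.IsFiniteType.mk (p := q) hfin
  exact SheafOfModules.IsFiniteType.mk (R := ringSh O) (M := F) ⟨q, hq⟩

theorem overSec_val {G : Mod O} (t : sect G X) (T : (CategoryTheory.Over X)ᵒᵖ) :
    (overSec t).val T = rs G T.unop.hom t := rfl

theorem linComb_apply_apply {R I K : Type*} [Semiring R] [Fintype K] (v : K → I →₀ R) (c : K →₀ R) (i : I) :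
    Finsupp.linearCombination R v c i = ∑ k, c k * v k i := by
  rw [Finsupp.linearCombination_apply, Finsupp.sum_fintype _ _ (fun k => zero_smul R (v k)), Finsupp.finsetSum_apply]
  rfl

/-- The relation sections on the slice. -/
noncomputable def LocPres.relEl (P : LocPres F X) (k : ULift.{u} (Fin P.m)) (T : (CategoryTheory.Over X)ᵒᵖ) :
    (ULift.{u} (Fin P.n)) →₀ O.obj.obj (op T.unop.left) :=
  Finsupp.equivFunOnFinite.symm fun i => (O.obj.map T.unop.hom.op).hom (P.r k.down i.down)

theorem LocPres.relEl_map (P : LocPres F X) (k : ULift.{u} (Fin P.m)) {T T' : (CategoryTheory.Over X)ᵒᵖ} (f : T ⟶ T') :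
    (P.relEl k T).mapRange ((ringSh (O.over X)).obj.map f) (map_zero ((ringSh (O.over X)).obj.map f).hom) =
      P.relEl k T' := by
  refine Finsupp.ext fun i => Finsupp.mapRange_apply.trans ?_
  show (O.obj.map f.unop.left.op).hom ((O.obj.map T.unop.hom.op).hom (P.r k.down i.down)) =
    (O.obj.map T'.unop.hom.op).hom (P.r k.down i.down)
  rw [← map_ring_comp, CategoryTheory.Over.w f.unop]

/-- A presentation in terms of sections gives a finite presentation on the slice. -/
theorem LocPres.exists_presentation (P : LocPres F X) :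
    ∃ p : SheafOfModules.Presentation (SheafOfModules.over (R := ringSh O) F X), p.IsFinite := by
  let R' := ringSh (O.over X)
  let s : ULift.{u} (Fin P.n) → sect F X := fun i => P.s i.down
  haveI : Epi (genHom s) := epi_genHom P.toGen.isGen
  let ρ : SheafOfModules.free (R := R') (ULift.{u} (Fin P.m)) ⟶ SheafOfModules.free (R := R') (ULift.{u} (Fin P.n)) :=
    (SheafOfModules.free (R := R') (ULift.{u} (Fin P.n))).freeHomEquiv.symm fun k =>
      PresheafOfModules.sectionsMk (fun T => el (R := R') T (P.relEl k T)) fun T T' f =>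
        (Groth.Agent.ModAlg.map_el f _).trans (congrArg (el (R := R') T') (P.relEl_map k f))
  have hρ : ∀ (T : (CategoryTheory.Over X)ᵒᵖ) (b : ULift.{u} (Fin P.m) →₀ O.obj.obj (op T.unop.left)),
      ρ.val.app T (el (R := R') T b) = el (R := R') T (Finsupp.linearCombination (R'.obj.obj T) (fun k => (show ULift.{u} (Fin P.n) →₀ R'.obj.obj T from P.relEl k T)) b) := by
    intro T b
    refine (hom_el ρ T b).trans ?_
    rw [Finsupp.apply_linearCombination]
    refine congrArg (fun v => Finsupp.linearCombination (R'.obj.obj T) v b) (funext fun k => ?_)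
    exact congrArg (fun t => (t k).val T) (((SheafOfModules.free (R := R') (ULift.{u} (Fin P.n))).freeHomEquiv).apply_symm_apply _)
  have hrel : ∀ (k : ULift.{u} (Fin P.m)) (T : (CategoryTheory.Over X)ᵒᵖ), combS s T.unop.hom (P.relEl k T) = 0 := by
    intro k T
    have h0 := congrArg (rs F T.unop.hom) (P.rel k.down)
    rw [map_sum, map_zero] at h0
    rw [combS_eq_sum, ← h0]
    exact Fintype.sum_equiv Equiv.ulift _ _ fun i => (map_val_smul T.unop.hom _ _).symm
  have w : ρ ≫ genHom s = 0 :=
    Cofan.IsColimit.hom_ext (SheafOfModules.isColimitFreeCofan (R := R') _) _ _ fun k => by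
      refine ((restr O X).obj F).unitHomEquiv.injective (PresheafOfModules.sections_ext _ _ fun T => ?_)
      show (genHom s).val.app T (ρ.val.app T ((SheafOfModules.ιFree k).val.app T (1 : R'.obj.obj T))) =
        ((0 : SheafOfModules.unit R' ⟶ (restr O X).obj F)).val.app T (1 : R'.obj.obj T)
      rw [← Groth.Agent.ModAlg.basisEl_eq,
        show Groth.Agent.ModAlg.basisEl (R := R') k T = el (R := R') T (Finsupp.single k 1) by
          rw [Groth.Agent.ModAlg.el_single, one_smul], hρ, genHom_el, Finsupp.linearCombination_single, one_smul, hrel]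
      rfl
  have hex : (ShortComplex.mk ρ (genHom s) w).Exact := by
    rw [ShortComplex.exact_iff_epi_kernel_lift]
    show Epi (kernel.lift (genHom s) ρ w)
    refine Groth.Agent.ModAlg.epi_of_locally (R := R') _ fun T z => ?_
    let zι := (kernel.ι (genHom s)).val.app T z
    obtain ⟨S₁, hS₁, hS₁'⟩ := el_locally_surjective (R := R') (T := T) zι
    have key : ∀ ⦃V : CategoryTheory.Over X⦄ (f : V ⟶ T.unop), S₁ f → ∃ S₂ ∈ (J.over X) V,
        ∀ ⦃W : CategoryTheory.Over X⦄ (h : W ⟶ V), S₂ h → ∃ y,
          (kernel.lift (genHom s) ρ w).val.app (op W) y = (kernel (genHom s)).val.map (h ≫ f).op z := fun V f hf => by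
      obtain ⟨c, hc⟩ := hS₁' f hf
      let c' : ULift.{u} (Fin P.n) →₀ O.obj.obj (op V.left) := c
      have h0 : combS s V.hom c' = 0 := by
        rw [← genHom_el s (op V) c']
        refine (congrArg _ hc).symm.trans ?_
        refine (PresheafOfModules.naturality_apply (genHom s).val f.op zι).trans ?_
        refine (congrArg _ (?_ : (genHom s).val.app T zι = 0)).trans (map_zero _)
        exact congrArg (fun t => t.val.app T z) (kernel.condition (genHom s))
      obtain ⟨S₂, hS₂, hS₂'⟩ := P.relgen V.hom (fun i => c' ⟨i⟩) (by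
        rw [← h0, combS_eq_sum]
        exact (sum_ulift (fun i => c' i) (fun i => rs F V.hom (P.s i))).symm)
      refine ⟨_, J.overEquiv_symm_mem_over V S₂ hS₂, fun W h hh => ?_⟩
      obtain ⟨b, hb⟩ := hS₂' h.left hh
      refine ⟨el (R := R') (op W) (Finsupp.equivFunOnFinite.symm fun k => b k.down), ?_⟩
      apply Groth.Agent.ModAlg.app_injective (R := R') (kernel.ι (genHom s)) (op W)
      refine Eq.trans (Groth.Agent.PullFlat.appS_comp (O := O.over X) (kernel.lift (genHom s) ρ w) (kernel.ι (genHom s)) _).symm ?_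
      rw [kernel.lift_ι]
      refine Eq.trans ?_ (PresheafOfModules.naturality_apply (kernel.ι (genHom s)).val (h ≫ f).op z).symm
      refine (hρ (op W) _).trans ?_
      rw [op_comp, PresheafOfModules.map_comp_apply]
      refine Eq.trans ?_ (congrArg ((SheafOfModules.free (R := R') (ULift.{u} (Fin P.n))).val.map h.op) hc).symm
      refine Eq.trans ?_ (Groth.Agent.ModAlg.map_el (R := R') h.op c).symm
      refine congrArg (el (R := R') (op W)) (Finsupp.ext fun i => ?_)
      refine Eq.trans ?_ Finsupp.mapRange_apply.symm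
      refine (linComb_apply_apply _ _ i).trans (Eq.trans ?_ (hb i.down).symm)
      refine Fintype.sum_equiv Equiv.ulift _ _ fun k => ?_
      show b k.down * (O.obj.map W.hom.op).hom (P.r k.down i.down) =
        b k.down * (O.obj.map (h.left ≫ V.hom).op).hom (P.r k.down i.down)
      rw [CategoryTheory.Over.w h]
    choose S₂ hS₂ hS₂' using key
    refine ⟨Sieve.bind S₁.arrows (fun V f hf => S₂ f hf), (J.over X).bind_covering hS₁ (fun V f hf => hS₂ f hf), ?_⟩
    rintro W f ⟨V, h, g, hg, hh, rfl⟩
    exact hS₂' g hg h hh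
  refine ⟨SheafOfModules.presentationOfIsCokernelFree ρ (genHom s) w hex.gIsCokernel, ?_⟩
  exact
    { isFiniteType_generators := ⟨inferInstanceAs (Finite (ULift.{u} (Fin P.n)))⟩
      isFiniteType_relations := ⟨inferInstanceAs (Finite (ULift.{u} (Fin P.m)))⟩ }

/-- Locally finitely presented modules are of finite presentation. -/
theorem isFinitePresentation_of_cover
    (h : ∀ U : C, ∃ S ∈ J U, ∀ ⦃V : C⦄ (g : V ⟶ U), S g → Nonempty (LocPres F V)) :
    SheafOfModules.IsFinitePresentation (R := ringSh O) F := by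
  let q : SheafOfModules.QuasicoherentData.{u} (R := ringSh O) F :=
    { I := {V : C // Nonempty (LocPres F V)}
      X := fun i => i.1
      coversTop := fun U => by
        obtain ⟨S, hS, hS'⟩ := h U
        refine J.superset_covering (fun V g hg => ?_) hS
        exact (Sieve.mem_ofObjects_iff ..).mpr ⟨⟨V, hS' g hg⟩, ⟨𝟙 V⟩⟩
      presentation := fun i => i.2.some.exists_presentation.choose }
  have hfin : ∀ i : q.I, (q.presentation i).IsFinite := fun i => i.2.some.exists_presentation.choose_spec
  have hq : q.IsFinitePresentation := SheafOfModules.QuasicoherentData.IsFinitePresentation.mk (q := q) hfin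
  exact SheafOfModules.IsFinitePresentation.mk (R := ringSh O) (M := F) ⟨q, hq⟩

end Groth.Agent.LocPres
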