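import Groth.Agent.LocPres.GlobalColim

/-!
# Hom out of a finitely presented module on a space with finite coverings with compact overlaps
-/

set_option autoImplicit false
set_option linter.style.haveILetI false
set_option linter.dupNamespace false

universe u

open CategoryTheory CategoryTheory.Limits Opposite ModSite TopologicalSpace

namespace Groth.Agent.LocPres

variable {X : TopCat.{u}}

/-- The presheaf of members of a family containing an open. -/
def memPre {I : Type u} (U : I → Opens X) : (Opens X)ᵒᵖ ⥤ Type u where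
  obj W := {j : I // W.unop ≤ U j}
  map g := TypeCat.ofHom fun p => ⟨p.1, le_trans g.unop.le p.2⟩
  map_id _ := rfl
  map_comp _ _ := rfl

/-- The sheaf of sets of a family of opens. -/
noncomputable def memSh {I : Type u} (U : I → Opens X) : Sheaf (Opens.grothendieckTopology X) (Type u) :=
  (presheafToSheaf (Opens.grothendieckTopology X) (Type u)).obj (memPre U)

/-- The element given by a member. -/
noncomputable def memEl {I : Type u} (U : I → Opens X) {W : Opens X} (j : I) (h : W ≤ U j) :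
    (memSh U).obj.obj (op W) :=
  (toSheafify (Opens.grothendieckTopology X) (memPre U)).app (op W) ⟨j, h⟩

theorem memEl_res {I : Type u} (U : I → Opens X) {W V : Opens X} (g : V ⟶ W) (j : I) (h : W ≤ U j) :
    (memSh U).obj.map g.op (memEl U j h) = memEl U j (g.le.trans h) :=
  (NatTrans.naturality_apply (toSheafify (Opens.grothendieckTopology X) (memPre U)) g.op ⟨j, h⟩).symm

theorem memSh_locally {I : Type u} (U : I → Opens X) {W : Opens X} (s : (memSh U).obj.obj (op W)) :
    ∃ S ∈ Opens.grothendieckTopology X W, ∀ ⦃V : Opens X⦄ (g : V ⟶ W), S g →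
      ∃ (j : I) (h : V ≤ U j), memEl U j h = (memSh U).obj.map g.op s :=
  ⟨_, Presheaf.imageSieve_mem (Opens.grothendieckTopology X) (toSheafify _ (memPre U)) s,
    fun V g hg => by obtain ⟨p, hp⟩ := hg; exact ⟨p.1, p.2, hp⟩⟩

theorem prod_el_ext {K : Sheaf (Opens.grothendieckTopology X) (Type u)} {W : Opens X} {a b : (K ⨯ K).obj.obj (op W)}
    (h₁ : (prod.fst : K ⨯ K ⟶ K).hom.app (op W) a = (prod.fst : K ⨯ K ⟶ K).hom.app (op W) b)
    (h₂ : (prod.snd : K ⨯ K ⟶ K).hom.app (op W) a = (prod.snd : K ⨯ K ⟶ K).hom.app (op W) b) : a = b := by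
  apply (Topos.Gen.homEquiv (Opens.grothendieckTopology X)).symm.injective
  refine Limits.prod.hom_ext ?_ ?_ <;> refine (Topos.Gen.homEquiv _).injective ?_ <;>
    rw [Topos.Gen.homEquiv_comp, Topos.Gen.homEquiv_comp, Equiv.apply_symm_apply, Equiv.apply_symm_apply] <;>
    assumption

theorem isQcObject_memSh_prod {I : Type u} [Finite I] (U : I → Opens X)
    (h : ∀ j j', IsCompact ((U j ⊓ U j' : Opens X) : Set X)) :
    CohCx.IsQcObject (memSh U ⨯ memSh U) := by
  intro ι L f hf
  classical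
  let K := memSh U
  let el : ∀ j j', (K ⨯ K).obj.obj (op (U j ⊓ U j')) := fun j j' =>
    Topos.Gen.homEquiv (Opens.grothendieckTopology X) (prod.lift
      ((Topos.Gen.homEquiv (Opens.grothendieckTopology X)).symm (memEl U j inf_le_left))
      ((Topos.Gen.homEquiv (Opens.grothendieckTopology X)).symm (memEl U j' inf_le_right)))
  have hel₁ : ∀ j j', (prod.fst : K ⨯ K ⟶ K).hom.app _ (el j j') = memEl U j inf_le_left := fun j j' => by
    rw [← Topos.Gen.homEquiv_comp, prod.lift_fst, Equiv.apply_symm_apply]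
  have hel₂ : ∀ j j', (prod.snd : K ⨯ K ⟶ K).hom.app _ (el j j') = memEl U j' inf_le_right := fun j j' => by
    rw [← Topos.Gen.homEquiv_comp, prod.lift_snd, Equiv.apply_symm_apply]
  have key : ∀ p : I × I, ∃ t : Finset ι, ∃ S ∈ Opens.grothendieckTopology X (U p.1 ⊓ U p.2),
      ∀ ⦃V : Opens X⦄ (g : V ⟶ U p.1 ⊓ U p.2), S g → ∃ i ∈ t, ∃ x : (L i).obj.obj (op V),
        (f i).hom.app (op V) x = (K ⨯ K).obj.map g.op (el p.1 p.2) := fun p => by
    obtain ⟨S, hS, hS'⟩ := hf _ (el p.1 p.2)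
    obtain ⟨n, V, g, hg, hc⟩ := Groth.Agent.QcSum.isQCSite_of_isCompact (h p.1 p.2) S hS
    choose i x hx using fun k => hS' _ (g k) (hg k)
    refine ⟨Finset.univ.image i, _, hc, fun W a ha => ?_⟩
    obtain ⟨_, b, _, ⟨k⟩, rfl⟩ := ha
    refine ⟨i k, Finset.mem_image_of_mem _ (Finset.mem_univ k), (L (i k)).obj.map b.op (x k), ?_⟩
    rw [NatTrans.naturality_apply, hx k, op_comp, Functor.map_comp, ConcreteCategory.comp_apply]
  choose t S hS hS' using key
  haveI := Fintype.ofFinite I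
  refine ⟨Finset.univ.biUnion t, fun W s => ?_⟩
  obtain ⟨T₁, hT₁, hT₁'⟩ := memSh_locally U ((prod.fst : K ⨯ K ⟶ K).hom.app (op W) s)
  obtain ⟨T₂, hT₂, hT₂'⟩ := memSh_locally U ((prod.snd : K ⨯ K ⟶ K).hom.app (op W) s)
  have loc : ∀ ⦃V : Opens X⦄ (g : V ⟶ W), (T₁ ⊓ T₂) g → ∃ R ∈ Opens.grothendieckTopology X V,
      ∀ ⦃V' : Opens X⦄ (a : V' ⟶ V), R a → ∃ i : ((Finset.univ.biUnion t : Finset ι)), ∃ x : (L i.1).obj.obj (op V'),
        (f i.1).hom.app (op V') x = (K ⨯ K).obj.map (a ≫ g).op s := fun V g hg => by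
    obtain ⟨j, hj, ej⟩ := hT₁' g hg.1
    obtain ⟨j', hj', ej'⟩ := hT₂' g hg.2
    let b : V ⟶ U j ⊓ U j' := homOfLE (le_inf hj hj')
    have hb : (K ⨯ K).obj.map b.op (el j j') = (K ⨯ K).obj.map g.op s := by
      refine prod_el_ext ?_ ?_
      · rw [NatTrans.naturality_apply, NatTrans.naturality_apply, hel₁, memEl_res]; exact ej
      · rw [NatTrans.naturality_apply, NatTrans.naturality_apply, hel₂, memEl_res]; exact ej'
    refine ⟨(S (j, j')).pullback b, (Opens.grothendieckTopology X).pullback_stable b (hS (j, j')), fun V' a ha => ?_⟩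
    obtain ⟨i, hi, x, hx⟩ := hS' (j, j') (a ≫ b) ha
    refine ⟨⟨i, Finset.mem_biUnion.2 ⟨(j, j'), Finset.mem_univ _, hi⟩⟩, x, hx.trans ?_⟩
    rw [op_comp, Functor.map_comp, ConcreteCategory.comp_apply, hb, op_comp, Functor.map_comp,
      ConcreteCategory.comp_apply]
  choose R hR hR' using loc
  refine ⟨Sieve.bind (T₁ ⊓ T₂).arrows (fun V g hg => R g hg),
    (Opens.grothendieckTopology X).bind_covering ((Opens.grothendieckTopology X).intersection_covering hT₁ hT₂)
      (fun V g hg => hR g hg), ?_⟩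
  rintro V g ⟨V', a, g', hg', ha, rfl⟩
  exact hR' g' hg' a ha

variable (O : TopCat.Sheaf CommRingCat.{u} X)

/-- Hom out of a finitely presented module commutes with directed colimits. -/
theorem preservesColimit_coyoneda_space
    (hX : ∀ (ι : Type u) (V : ι → Opens X), iSup V = ⊤ →
      ∃ (J : Type u) (_ : Finite J) (U : J → Opens X), iSup U = ⊤ ∧ (∀ j, ∃ i, U j ≤ V i) ∧
        ∀ j j', IsCompact ((U j ⊓ U j' : Opens X) : Set X))
    (G : ModSite.Mod O) [SheafOfModules.IsFinitePresentation (R := ringSh O) G]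
    {Λ : Type u} [SmallCategory Λ] [IsFiltered Λ] (D : Λ ⥤ Mod O) :
    PreservesColimit D (coyoneda.obj (op G)) := by
  have hne : ∀ {J : Type u} (U : J → Opens X), iSup U = ⊤ → ∀ W : Opens X,
      ∃ S ∈ Opens.grothendieckTopology X W, ∀ ⦃V : Opens X⦄ (g : V ⟶ W), S g →
        Nonempty ((memSh U).obj.obj (op V)) := fun {J} U hU W => by
    refine ⟨{ arrows := fun V _ => ∃ j, V ≤ U j, downward_closed := ?_ }, fun x hx => ?_,
      fun V g ⟨j, hj⟩ => ⟨memEl U j hj⟩⟩
    · rintro Y Z g ⟨j, hj⟩ h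
      exact ⟨j, h.le.trans hj⟩
    · obtain ⟨j, hj⟩ := Opens.mem_iSup.1 (hU.ge (Opens.mem_top x))
      exact ⟨W ⊓ U j, homOfLE inf_le_left, ⟨j, inf_le_right⟩, hx, hj⟩
  refine preservesColimit_coyoneda G (fun H hH => ?_) ?_ D
  · obtain ⟨J, _, U, hU, hUV, hq⟩ := hX (Σ V : Opens X, H.obj.obj (op V)) (fun p => p.1) (eq_top_iff.2 fun x _ => by
      obtain ⟨S, hS, hS'⟩ := nonempty_locally_of_epi hH ⊤
      obtain ⟨V, g, hg, hxV⟩ := hS x trivial
      exact Opens.mem_iSup.2 ⟨⟨V, (hS' g hg).some⟩, hxV⟩)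
    choose i hi using hUV
    let a : memPre U ⟶ H.obj :=
      { app := fun W => TypeCat.ofHom fun p => H.obj.map (homOfLE (p.2.trans (hi p.1))).op (i p.1).2
        naturality := fun W W' g => by
          refine ConcreteCategory.hom_ext _ _ fun p => ?_
          show H.obj.map _ _ = H.obj.map g (H.obj.map _ _)
          rw [← Functor.map_comp_apply]
          rfl }
    exact ⟨memSh U, isQcObject_memSh_prod U hq, hne U hU,
      ⟨((sheafificationAdjunction (Opens.grothendieckTopology X) (Type u)).homEquiv _ _).symm a⟩⟩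
  · obtain ⟨J, _, U, hU, -, hq⟩ := hX PUnit (fun _ => ⊤) (by simp)
    exact ⟨memSh U, isQcObject_memSh_prod U hq, hne U hU⟩

end Groth.Agent.LocPres
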