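import Groth.Agent.PullFlat.GlobalFree
import Groth.Agent.PullFlat.LocalHom
import Mathlib.Algebra.Category.ModuleCat.Sheaf.Quasicoherent

/-!
# Finitely presented modules in terms of sections
-/

set_option autoImplicit false
set_option linter.style.haveILetI false
set_option linter.dupNamespace false

universe u

open CategoryTheory CategoryTheory.Limits Opposite ModSite

namespace Groth.Agent.LocPres

open Groth.Agent.ModFlat (rs map_val_smul map_val_comp map_ring_comp)
open Groth.Agent.PullFlat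

variable {C : Type u} [SmallCategory C] {J : GrothendieckTopology C} {O : Sheaf J CommRingCat.{u}}

/-- A presentation of `F` over `X` in terms of sections. -/
structure LocPres (F : Mod O) (X : C) where
  n : ℕ
  m : ℕ
  s : Fin n → sect F X
  r : Fin m → Fin n → O.obj.obj (op X)
  rel : ∀ k, ∑ i, r k i • s i = 0
  gen : ∀ {T : C} (a : T ⟶ X) (x : sect F T), ∃ S ∈ J T, ∀ ⦃V : C⦄ (g : V ⟶ T), S g →
    ∃ c : Fin n → O.obj.obj (op V), ∑ i, c i • rs F (g ≫ a) (s i) = rs F g x
  relgen : ∀ {T : C} (a : T ⟶ X) (c : Fin n → O.obj.obj (op T)), ∑ i, c i • rs F a (s i) = 0 →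
    ∃ S ∈ J T, ∀ ⦃V : C⦄ (g : V ⟶ T), S g → ∃ b : Fin m → O.obj.obj (op V),
      ∀ i, (O.obj.map g.op).hom (c i) = ∑ k, b k * (O.obj.map (g ≫ a).op).hom (r k i)

/-- Restriction of a presentation. -/
noncomputable def LocPres.restrict {F : Mod O} {X Y : C} (P : LocPres F X) (h : Y ⟶ X) : LocPres F Y where
  n := P.n
  m := P.m
  s i := rs F h (P.s i)
  r k i := (O.obj.map h.op).hom (P.r k i)
  rel k := by
    have := congrArg (rs F h) (P.rel k)
    rw [map_sum, map_zero] at this
    rw [← this]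
    exact Finset.sum_congr rfl fun i _ => (map_val_smul h _ _).symm
  gen {T} a x := by
    obtain ⟨S, hS, hS'⟩ := P.gen (a ≫ h) x
    refine ⟨S, hS, fun V g hg => ?_⟩
    obtain ⟨c, hc⟩ := hS' g hg
    refine ⟨c, hc ▸ Finset.sum_congr rfl fun i _ => ?_⟩
    rw [← map_val_comp, Category.assoc]
  relgen {T} a c hc := by
    obtain ⟨S, hS, hS'⟩ := P.relgen (a ≫ h) c (by
      rw [← hc]; exact Finset.sum_congr rfl fun i _ => by rw [← map_val_comp])
    refine ⟨S, hS, fun V g hg => ?_⟩
    obtain ⟨b, hb⟩ := hS' g hg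
    refine ⟨b, fun i => (hb i).trans (Finset.sum_congr rfl fun k _ => ?_)⟩
    rw [← map_ring_comp, Category.assoc]

section Final

variable {X : C}

theorem coeff_bas {n : ℕ} (i : ULift.{u} (Fin n)) : coeff O X n (bas i) = Pi.single i 1 := by
  funext k
  show appS (coord k) X (appS (SheafOfModules.ιFree i) X _) = _
  rw [← appS_comp, ι_coord]
  by_cases hk : k = i
  · subst hk; rw [if_pos rfl, Pi.single_eq_same]; rfl
  · rw [if_neg hk, Pi.single_eq_of_ne hk]; rfl

theorem rs_bas {n : ℕ} {Y : C} (h : Y ⟶ X) (i : ULift.{u} (Fin n)) :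
    rs (finFree O n) h (bas i) = bas i := by
  refine (appS_res (SheafOfModules.ιFree i) h _).symm.trans (congrArg (appS _ Y) ?_)
  exact map_one (O.obj.map h.op).hom

theorem coeff_res {n : ℕ} {Y : C} (h : Y ⟶ X) (z : sect (finFree O n) X) (i : ULift.{u} (Fin n)) :
    coeff O Y n (rs (finFree O n) h z) i = (O.obj.map h.op).hom (coeff O X n z i) :=
  appS_res (coord i) h z

theorem appS_bas {n : ℕ} {E : Mod O} (φ : finFree O n ⟶ E) (hX : IsTerminal X) {T : C}
    (i : ULift.{u} (Fin n)) : appS φ T (bas i) = rs E (hX.from T) (appS φ X (bas i)) := by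
  rw [← appS_res, rs_bas]

/-- A finite presentation of a module on a site with a final object, in terms of sections. -/
noncomputable def ofFinal (hX : IsTerminal X) {F : Mod O} {n m : ℕ} (π : finFree O n ⟶ F)
    (ρ : finFree O m ⟶ finFree O n) (w : ρ ≫ π = 0) (hex : (ShortComplex.mk ρ π w).Exact) [Epi π] :
    LocPres F X where
  n := n
  m := m
  s i := appS π X (bas ⟨i⟩)
  r k i := coeff O X n (appS ρ X (bas ⟨k⟩)) ⟨i⟩
  rel k := by
    have h := congrArg (fun t => appS t X (bas (⟨k⟩ : ULift.{u} (Fin m)))) w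
    rw [appS_comp] at h
    refine Eq.trans ?_ h
    conv_rhs => rw [eq_sum_coeff (appS ρ X (bas ⟨k⟩)), map_sum]
    refine Eq.trans ?_ (Finset.sum_congr rfl fun i _ => (map_smul (appS π X) _ _).symm)
    exact (Fintype.sum_equiv Equiv.ulift _ _ fun i => rfl).symm
  gen {T} a x := by
    obtain ⟨S, hS, hS'⟩ := exists_local_lift π x
    refine ⟨S, hS, fun V g hg => ?_⟩
    obtain ⟨y, hy⟩ := hS' g hg
    refine ⟨fun i => coeff O V n y ⟨i⟩, ?_⟩
    rw [← hy]
    conv_rhs => rw [eq_sum_coeff y, map_sum]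
    refine Eq.trans ?_ (Finset.sum_congr rfl fun i _ => (map_smul (appS π V) _ _).symm)
    refine (Fintype.sum_equiv Equiv.ulift _ _ fun i => ?_).symm
    rw [appS_bas π hX i, hX.hom_ext (hX.from V) (g ≫ a)]
    rfl
  relgen {T} a c hc := by
    let z : sect (finFree O n) T := ∑ i : ULift.{u} (Fin n), c i.down • bas i
    have hz : appS π T z = 0 := by
      rw [map_sum, ← hc]
      refine Fintype.sum_equiv Equiv.ulift _ _ fun i => ?_
      rw [map_smul, appS_bas π hX i, hX.hom_ext (hX.from T) a]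
      rfl
    have hcz : ∀ i, coeff O T n z ⟨i⟩ = c i := fun i => by
      simp only [z, map_sum, map_smul, coeff_bas, Finset.sum_apply, Pi.smul_apply, Pi.single_apply,
        smul_eq_mul, mul_ite, mul_one, mul_zero, Finset.sum_ite_eq, Finset.mem_univ, if_true]
    obtain ⟨S, hS, hS'⟩ := exists_local_boundary _ hex (fun _ : Fin 1 => z) (fun _ => hz)
    refine ⟨S, hS, fun V g hg => ?_⟩
    obtain ⟨y, hy⟩ := hS' g hg
    refine ⟨fun k => coeff O V m (y 0) ⟨k⟩, fun i => ?_⟩
    have h := congrArg (fun t => coeff O V n t ⟨i⟩) (hy 0)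
    simp only at h
    rw [coeff_res, hcz] at h
    rw [← h]
    conv_lhs => rw [eq_sum_coeff (y 0), map_sum, map_sum, Finset.sum_apply]
    refine Fintype.sum_equiv Equiv.ulift _ _ fun k => ?_
    rw [map_smul, map_smul, Pi.smul_apply, smul_eq_mul, appS_bas ρ hX k, coeff_res,
      hX.hom_ext (hX.from V) (g ≫ a)]
    rfl

end Final

theorem freeMap_comp_eq_id {I K : Type u} (f : I → K) (g : K → I) (h : ∀ i, g (f i) = i) :
    SheafOfModules.freeMap (R := ringSh O) f ≫ SheafOfModules.freeMap g = 𝟙 _ :=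
  Cofan.IsColimit.hom_ext (SheafOfModules.isColimitFreeCofan (R := ringSh O) _) _ _ fun i => by
    show SheafOfModules.ιFree i ≫ SheafOfModules.freeMap f ≫ SheafOfModules.freeMap g = SheafOfModules.ιFree i ≫ 𝟙 _
    rw [SheafOfModules.ιFree_freeMap_assoc, SheafOfModules.ιFree_freeMap, h, Category.comp_id]

/-- The map of an object over `X` to the final object of the slice. -/
abbrev toTop {T X : C} (a : T ⟶ X) : CategoryTheory.Over.mk a ⟶ CategoryTheory.Over.mk (𝟙 X) :=
  CategoryTheory.Over.homMk a (Category.comp_id a)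

/-- A map between objects over `X`. -/
abbrev ovHom {T V X : C} (g : V ⟶ T) (a : T ⟶ X) :
    CategoryTheory.Over.mk (g ≫ a) ⟶ CategoryTheory.Over.mk a :=
  CategoryTheory.Over.homMk g rfl

theorem over_gen {F : Mod O} {X : C}
    (P : LocPres ((restr O X).obj F) (CategoryTheory.Over.mk (𝟙 X))) {T : C} (a : T ⟶ X) (x : sect F T) :
    ∃ S ∈ J T, ∀ ⦃V : C⦄ (g : V ⟶ T), S g →
      ∃ c : Fin P.n → O.obj.obj (op V), ∑ i, c i • rs F (g ≫ a) (P.s i) = rs F g x := by
  obtain ⟨S, hS, hS'⟩ := P.gen (T := CategoryTheory.Over.mk a) (toTop a) x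
  refine ⟨Sieve.overEquiv (CategoryTheory.Over.mk a) S, (J.mem_over_iff S).1 hS, fun V g hg => ?_⟩
  exact hS' (V := CategoryTheory.Over.mk (g ≫ a)) (ovHom g a) ((Sieve.overEquiv_iff S g).1 hg)

theorem over_relgen {F : Mod O} {X : C}
    (P : LocPres ((restr O X).obj F) (CategoryTheory.Over.mk (𝟙 X))) {T : C} (a : T ⟶ X)
    (c : Fin P.n → O.obj.obj (op T)) (hc : ∑ i, c i • rs F a (P.s i) = 0) :
    ∃ S ∈ J T, ∀ ⦃V : C⦄ (g : V ⟶ T), S g → ∃ b : Fin P.m → O.obj.obj (op V),
      ∀ i, (O.obj.map g.op).hom (c i) = ∑ k, b k * (O.obj.map (g ≫ a).op).hom (P.r k i) := by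
  obtain ⟨S, hS, hS'⟩ := P.relgen (T := CategoryTheory.Over.mk a) (toTop a) c hc
  refine ⟨Sieve.overEquiv (CategoryTheory.Over.mk a) S, (J.mem_over_iff S).1 hS, fun V g hg => ?_⟩
  exact hS' (V := CategoryTheory.Over.mk (g ≫ a)) (ovHom g a) ((Sieve.overEquiv_iff S g).1 hg)

/-- A presentation on the slice gives a presentation in terms of sections. -/
noncomputable def ofOver {F : Mod O} {X : C}
    (P : LocPres ((restr O X).obj F) (CategoryTheory.Over.mk (𝟙 X))) : LocPres F X where
  n := P.n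
  m := P.m
  s := P.s
  r := P.r
  rel := P.rel
  gen := over_gen P
  relgen := over_relgen P

/-- A finite presentation of `F|_X` gives a presentation in terms of sections. -/
theorem nonempty_of_presentation {F : Mod O} {X : C}
    (P : SheafOfModules.Presentation (SheafOfModules.over (R := ringSh O) F X)) [P.IsFinite] : Nonempty (LocPres F X) := by
  let O' := O.over X
  let F' : Mod O' := (restr O X).obj F
  let σ : SheafOfModules.GeneratingSections F' := P.generators
  haveI : Finite σ.I := SheafOfModules.GeneratingSections.IsFiniteType.finite (σ := P.generators)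
  obtain ⟨n, ⟨e⟩⟩ := Finite.exists_equiv_fin σ.I
  let e' : ULift.{u} (Fin n) ≃ σ.I := Equiv.ulift.trans e.symm
  let π : finFree O' n ⟶ F' := SheafOfModules.freeMap (R := ringSh O') e' ≫ σ.π
  have hiso : SheafOfModules.freeMap (R := ringSh O') e'.symm ≫ SheafOfModules.freeMap (R := ringSh O') e' = 𝟙 _ :=
    freeMap_comp_eq_id e'.symm e' e'.apply_symm_apply
  haveI : Epi (SheafOfModules.freeMap (R := ringSh O') e') := epi_of_epi_fac hiso
  haveI : Epi σ.π := inferInstance
  let τ : SheafOfModules.GeneratingSections (kernel σ.π) := P.relations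
  haveI : Finite τ.I := SheafOfModules.GeneratingSections.IsFiniteType.finite (σ := P.relations)
  obtain ⟨m, ⟨e₂⟩⟩ := Finite.exists_equiv_fin τ.I
  let e₂' : ULift.{u} (Fin m) ≃ τ.I := Equiv.ulift.trans e₂.symm
  have hiso₂ : SheafOfModules.freeMap (R := ringSh O') e₂'.symm ≫ SheafOfModules.freeMap (R := ringSh O') e₂' = 𝟙 _ :=
    freeMap_comp_eq_id e₂'.symm e₂' e₂'.apply_symm_apply
  haveI : Epi (SheafOfModules.freeMap (R := ringSh O') e₂') := epi_of_epi_fac hiso₂
  have hιe : SheafOfModules.freeMap (R := ringSh O') e' ≫ SheafOfModules.freeMap (R := ringSh O') e'.symm = 𝟙 _ :=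
    freeMap_comp_eq_id e' e'.symm e'.symm_apply_apply
  let k : kernel σ.π ⟶ kernel π := kernel.lift π (kernel.ι σ.π ≫ SheafOfModules.freeMap (R := ringSh O') e'.symm) (by
    simp only [π, Category.assoc]
    rw [← Category.assoc (SheafOfModules.freeMap e'.symm), hiso, Category.id_comp, kernel.condition])
  haveI : Epi k := by
    refine epi_of_epi_fac (f := kernel.lift σ.π (kernel.ι π ≫ SheafOfModules.freeMap (R := ringSh O') e') (by
      rw [Category.assoc]; exact kernel.condition π)) (h := 𝟙 _) ?_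
    exact (cancel_mono (kernel.ι π)).1 (by simp [k, hιe])
  let ρ : finFree O' m ⟶ finFree O' n := SheafOfModules.freeMap (R := ringSh O') e₂' ≫ τ.π ≫ k ≫ kernel.ι π
  have w : ρ ≫ π = 0 := by simp [ρ]
  have hex : (ShortComplex.mk ρ π w).Exact := by
    rw [ShortComplex.exact_iff_epi_kernel_lift]
    have : kernel.lift π ρ w = SheafOfModules.freeMap (R := ringSh O') e₂' ≫ τ.π ≫ k :=
      (cancel_mono (kernel.ι π)).1 (by simp [ρ])
    show Epi (kernel.lift π ρ w)
    rw [this]
    infer_instance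
  haveI : Epi π := epi_comp _ _
  exact ⟨ofOver (ofFinal CategoryTheory.Over.mkIdTerminal π ρ w hex)⟩

/-- Finitely presented modules are locally presented. -/
theorem exists_cover_locPres (F : Mod O) [SheafOfModules.IsFinitePresentation (R := ringSh O) F] (U : C) :
    ∃ S ∈ J U, ∀ ⦃V : C⦄ (g : V ⟶ U), S g → Nonempty (LocPres F V) := by
  obtain ⟨q, hq⟩ := SheafOfModules.IsFinitePresentation.exists_quasicoherentData F
  refine ⟨_, q.coversTop U, fun V g hg => ?_⟩
  obtain ⟨i, ⟨h⟩⟩ := (Sieve.mem_ofObjects_iff ..).mp hg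
  haveI := hq.isFinite_presentation i
  exact (nonempty_of_presentation (q.presentation i)).map fun P => P.restrict h

end Groth.Agent.LocPres
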