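import Groth.Agent.LocPres.Hom
import Groth.Agent.ModAlg.FreeElem

/-!
# Generating sections in terms of sections
-/

set_option autoImplicit false
set_option linter.style.haveILetI false
set_option linter.dupNamespace false

universe u

open CategoryTheory CategoryTheory.Limits Opposite ModSite

namespace Groth.Agent.LocPres

open Groth.Agent.ModFlat (rs map_val_smul map_val_comp map_ring_comp)
open Groth.Agent.PullFlat (overSec rs_id)
open Groth.Agent.ModAlg (el el_locally_surjective el_locally_injective hom_el map_el)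

variable {C : Type u} [SmallCategory C] {J : GrothendieckTopology C} {O : Sheaf J CommRingCat.{u}}
  {F : Mod O} {X : C} {I : Type u}

/-- Combinations of restricted sections. -/
noncomputable def combS (s : I → sect F X) {T : C} (a : T ⟶ X) :
    (I →₀ O.obj.obj (op T)) →ₗ[O.obj.obj (op T)] sect F T :=
  Finsupp.linearCombination (O.obj.obj (op T)) fun i => rs F a (s i)

theorem combS_single (s : I → sect F X) {T : C} (a : T ⟶ X) (i : I) (r : O.obj.obj (op T)) :
    combS s a (Finsupp.single i r) = r • rs F a (s i) :=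
  Finsupp.linearCombination_single (R := O.obj.obj (op T)) (v := fun i => rs F a (s i)) r i

theorem combS_eq_sum [Fintype I] (s : I → sect F X) {T : C} (a : T ⟶ X) (c : I →₀ O.obj.obj (op T)) :
    combS s a c = ∑ i, c i • rs F a (s i) := by
  rw [combS, Finsupp.linearCombination_apply, Finsupp.sum_fintype]
  exact fun i => zero_smul (O.obj.obj (op T)) _

theorem combS_res (s : I → sect F X) {T T' : C} (g : T' ⟶ T) (a : T ⟶ X) (c : I →₀ O.obj.obj (op T)) :
    rs F g (combS s a c) = combS s (g ≫ a) (c.mapRange (O.obj.map g.op).hom (map_zero _)) := by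
  induction c using Finsupp.induction_linear with
  | zero => rw [map_zero, map_zero, Finsupp.mapRange_zero, map_zero]
  | add c c' hc hc' =>
    rw [map_add, map_add, hc, hc', Finsupp.mapRange_add (fun x y => map_add _ x y), map_add]
  | single i r =>
    rw [combS_single, map_val_smul, Finsupp.mapRange_single, combS_single, ← map_val_comp]

/-- A family of sections generating a module over `X`. -/
def IsGen (s : I → sect F X) : Prop :=
  ∀ ⦃T : C⦄ (a : T ⟶ X) (x : sect F T), ∃ S ∈ J T, ∀ ⦃V : C⦄ (g : V ⟶ T), S g →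
    ∃ c : I →₀ O.obj.obj (op V), combS s (g ≫ a) c = rs F g x

/-- A family of sections free over `X`. -/
def IsIndep (s : I → sect F X) : Prop :=
  ∀ ⦃T : C⦄ (a : T ⟶ X) (c : I →₀ O.obj.obj (op T)), combS s a c = 0 →
    ∃ S ∈ J T, ∀ ⦃V : C⦄ (g : V ⟶ T), S g → ∀ i, (O.obj.map g.op).hom (c i) = 0

/-- The morphism out of a free module on the slice given by sections. -/
noncomputable def genHom (s : I → sect F X) :
    SheafOfModules.free (R := ringSh (O.over X)) I ⟶ (restr O X).obj F :=
  ((restr O X).obj F).freeHomEquiv.symm fun i => overSec (s i)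

theorem genHom_el (s : I → sect F X) (T : (CategoryTheory.Over X)ᵒᵖ) (c : I →₀ O.obj.obj (op T.unop.left)) :
    (genHom s).val.app T (el (R := ringSh (O.over X)) T c) = combS s T.unop.hom c := by
  refine (hom_el (R := ringSh (O.over X)) (genHom s) T c).trans ?_
  rw [genHom, Equiv.apply_symm_apply]
  rfl

theorem over_covering {T : C} (a : T ⟶ X) {S : Sieve T} (hS : S ∈ J T) :
    (Sieve.overEquiv (CategoryTheory.Over.mk a)).symm S ∈ (J.over X) (CategoryTheory.Over.mk a) :=
  J.overEquiv_symm_mem_over (CategoryTheory.Over.mk a) S hS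

theorem epi_genHom {s : I → sect F X} (h : IsGen s) : Epi (genHom s) := by
  refine Groth.Agent.ModAlg.epi_of_locally (R := ringSh (O.over X)) _ fun T y => ?_
  obtain ⟨S, hS, hS'⟩ := h T.unop.hom y
  refine ⟨(Sieve.overEquiv T.unop).symm S, J.overEquiv_symm_mem_over T.unop S hS, fun V f hf => ?_⟩
  obtain ⟨c, hc⟩ := hS' f.left hf
  refine ⟨el (R := ringSh (O.over X)) (op V) c, (genHom_el s (op V) c).trans ?_⟩
  refine Eq.trans ?_ hc
  exact congrArg (fun a => combS s a c) (CategoryTheory.Over.w f).symm

theorem mono_genHom {s : I → sect F X} (h : IsIndep s) : Mono (genHom s) := by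
  refine Groth.Agent.PullFlat.mono_of_appS_injective (O := O.over X) _ fun U z hz => ?_
  obtain ⟨S, hS, hS'⟩ := el_locally_surjective (R := ringSh (O.over X)) (T := op U) z
  refine Groth.Agent.PullFlat.eq_zero_of_locally _ hS z fun V g hg => ?_
  obtain ⟨c, hc⟩ := hS' g hg
  have h0 : combS s V.hom c = 0 := by
    rw [← genHom_el s (op V) c, ← hc]
    refine (PresheafOfModules.naturality_apply (genHom s).val g.op z).trans ?_
    exact (congrArg _ hz).trans (map_zero _)
  obtain ⟨T, hT, hT'⟩ := h V.hom c h0
  refine Groth.Agent.PullFlat.eq_zero_of_locally _ ((J.overEquiv_symm_mem_over V T hT)) _ fun W g' hg' => ?_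
  show (SheafOfModules.free (R := ringSh (O.over X)) I).val.map g'.op _ = 0
  refine (congrArg _ hc).trans ?_
  rw [map_el]
  have hz0 : c.mapRange ((ringSh (O.over X)).obj.map g'.op) (map_zero ((ringSh (O.over X)).obj.map g'.op).hom) = 0 :=
    Finsupp.ext fun i => Finsupp.mapRange_apply.trans (hT' g'.left hg' i)
  rw [hz0]
  exact map_zero (el (R := ringSh (O.over X)) (op W))

/-- A generating family gives generating sections on the slice. -/
noncomputable def IsGen.generatingSections {s : I → sect F X} (h : IsGen s) :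
    SheafOfModules.GeneratingSections (SheafOfModules.over (R := ringSh O) F X) where
  I := I
  s i := overSec (s i)
  epi := epi_genHom h

/-- Generating sections on a slice generate in terms of sections. -/
theorem isGen_of_generatingSections
    (σ : SheafOfModules.GeneratingSections (SheafOfModules.over (R := ringSh O) F X)) :
    IsGen (fun i => ((σ.s i).val (op (CategoryTheory.Over.mk (𝟙 X))) : sect F X)) := by
  intro T a x
  let p : SheafOfModules.free (R := ringSh (O.over X)) σ.I ⟶ (restr O X).obj F := σ.π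
  haveI : Epi p := σ.epi
  obtain ⟨S, hS, hS'⟩ := Groth.Agent.PullFlat.exists_local_lift (O := O.over X) p
    (U := CategoryTheory.Over.mk a) x
  have key : ∀ ⦃V : C⦄ (g : V ⟶ T), Sieve.overEquiv (CategoryTheory.Over.mk a) S g → ∃ R ∈ J V,
      ∀ ⦃W : C⦄ (h : W ⟶ V), R h → ∃ c : σ.I →₀ O.obj.obj (op W),
        combS (fun i => ((σ.s i).val (op (CategoryTheory.Over.mk (𝟙 X))) : sect F X)) ((h ≫ g) ≫ a) c =
          rs F (h ≫ g) x := fun V g hg => by
    obtain ⟨y, hy⟩ := hS' (CategoryTheory.Over.homMk g rfl : CategoryTheory.Over.mk (g ≫ a) ⟶ CategoryTheory.Over.mk a)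
      ((Sieve.overEquiv_iff S g).1 hg)
    obtain ⟨R, hR, hR'⟩ := el_locally_surjective (R := ringSh (O.over X))
      (T := op (CategoryTheory.Over.mk (g ≫ a))) y
    refine ⟨Sieve.overEquiv _ R, (J.mem_over_iff R).1 hR, fun W h hh => ?_⟩
    obtain ⟨c, hc⟩ := hR' (CategoryTheory.Over.homMk h rfl :
      CategoryTheory.Over.mk (h ≫ g ≫ a) ⟶ CategoryTheory.Over.mk (g ≫ a)) ((Sieve.overEquiv_iff R h).1 hh)
    refine ⟨c, ?_⟩
    have hy' : (σ.π.val.app (op (CategoryTheory.Over.mk (g ≫ a)))).hom y = rs F g x := hy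
    rw [map_val_comp h g, ← hy', Category.assoc]
    refine Eq.trans ?_ (PresheafOfModules.naturality_apply σ.π.val
      (CategoryTheory.Over.homMk h rfl : CategoryTheory.Over.mk (h ≫ g ≫ a) ⟶ CategoryTheory.Over.mk (g ≫ a)).op y)
    refine Eq.trans ?_ (congrArg _ hc).symm
    refine Eq.trans ?_ (hom_el (R := ringSh (O.over X)) σ.π _ c).symm
    refine congrArg (fun v => Finsupp.linearCombination (O.obj.obj (op W)) v c) (funext fun i => ?_)
    refine Eq.trans ?_ (congrArg (fun t => (t i).val (op (CategoryTheory.Over.mk (h ≫ g ≫ a))))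
      ((SheafOfModules.freeHomEquiv _).apply_symm_apply σ.s)).symm
    exact (σ.s i).property (CategoryTheory.Over.homMk (h ≫ g ≫ a) (Category.comp_id _) :
      CategoryTheory.Over.mk (h ≫ g ≫ a) ⟶ CategoryTheory.Over.mk (𝟙 X)).op
  choose R hR hR' using key
  refine ⟨Sieve.bind (Sieve.overEquiv (CategoryTheory.Over.mk a) S).arrows (fun V g hg => R g hg),
    J.bind_covering ((J.mem_over_iff S).1 hS) (fun V g hg => hR g hg), ?_⟩
  rintro W f ⟨V, h, g, hg, hh, rfl⟩
  exact hR' g hg h hh

end Groth.Agent.LocPres
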