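import Groth.Agent.LocPres.GlobalHom
import Groth.Agent.QcSum.Space

/-!
# Hom out of a finitely presented module commutes with filtered colimits
-/

set_option autoImplicit false
set_option linter.style.haveILetI false
set_option linter.dupNamespace false

universe u

open CategoryTheory CategoryTheory.Limits Opposite ModSite

namespace Groth.Agent.LocPres

variable {C : Type u} [SmallCategory C] {J : GrothendieckTopology C} {O : Sheaf J CommRingCat.{u}}

/-- An epimorphism to the final sheaf has sections locally. -/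
theorem nonempty_locally_of_epi {K : Sheaf J (Type u)} (h : Epi (terminal.from K)) (U : C) :
    ∃ S ∈ J U, ∀ ⦃V : C⦄ (g : V ⟶ U), S g → Nonempty (K.obj.obj (op V)) := by
  haveI : Sheaf.IsLocallySurjective (terminal.from K) := (Sheaf.isLocallySurjective_iff_epi' (Type u) _).2 h
  let s : (⊤_ Sheaf J (Type u)).obj.obj (op U) := Topos.Gen.homEquiv J (terminal.from _)
  exact ⟨_, Presheaf.imageSieve_mem J (terminal.from K).hom s, fun V g ⟨x, _⟩ => ⟨x⟩⟩

variable (F : Mod O) [SheafOfModules.IsFinitePresentation (R := ringSh O) F]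

/-- Hom out of a finitely presented module preserves filtered colimits when the final object has a cofinal
system of coverings with quasi-compact overlaps. -/
theorem preservesColimit_coyoneda
    (hSa : ∀ G : Sheaf J (Type u), Epi (terminal.from G) →
      ∃ K : Sheaf J (Type u), CohCx.IsQcObject (K ⨯ K) ∧
        (∀ U : C, ∃ S ∈ J U, ∀ ⦃V : C⦄ (g : V ⟶ U), S g → Nonempty (K.obj.obj (op V))) ∧ Nonempty (K ⟶ G))
    (h0 : ∃ K : Sheaf J (Type u), CohCx.IsQcObject (K ⨯ K) ∧
      ∀ U : C, ∃ S ∈ J U, ∀ ⦃V : C⦄ (g : V ⟶ U), S g → Nonempty (K.obj.obj (op V)))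
    {Λ : Type u} [SmallCategory Λ] [IsFiltered Λ] (D : Λ ⥤ Mod O) :
    PreservesColimit D (coyoneda.obj (op F)) := by
  refine ⟨fun {c} hc => ⟨Types.FilteredColimit.isColimitOf' _ _ (fun ψ => ?_) fun l φ φ' h => ?_⟩⟩
  · obtain ⟨m, φ, hφ⟩ := exists_lift_global hc (F := F) ψ hSa
    exact ⟨m, φ, hφ.symm⟩
  · obtain ⟨K, hqc, hK⟩ := h0
    let a : F ⟶ D.obj l := φ
    let b : F ⟶ D.obj l := φ'
    have h' : a ≫ c.ι.app l = b ≫ c.ι.app l := h
    obtain ⟨m, f, hf⟩ := exists_zero_global F hc hqc hK (a - b) (by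
      rw [Preadditive.sub_comp, h', sub_self])
    refine ⟨m, f, ?_⟩
    show a ≫ D.map f = b ≫ D.map f
    rwa [Preadditive.sub_comp, sub_eq_zero] at hf

end Groth.Agent.LocPres
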