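import Groth.Agent.LocPres.HomColim
import Groth.Agent.SiteCoh.ColimHelp
import Groth.Prelude.Def_CohCx

/-!
# Morphisms out of finitely presented modules commute with filtered colimits
-/

set_option autoImplicit false
set_option linter.style.haveILetI false
set_option linter.dupNamespace false

universe u

open CategoryTheory CategoryTheory.Limits Opposite ModSite

namespace Groth.Agent.LocPres

open Groth.Agent.ModFlat (rs map_val_smul map_val_comp)
open Groth.Agent.PullFlat (appS appS_res appS_comp apL apL_res resL apL_resL hom_ext_apL resL_resL resL_comp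
  resL_map resL_zero eq_of_locally rs_id)

variable {C : Type u} [SmallCategory C] {J : GrothendieckTopology C} {O : Sheaf J CommRingCat.{u}}

/-- Finitely many elements suffice to cover a quasi-compact sheaf of sets. -/
theorem qc_elems {K : Sheaf J (Type u)} (hK : CohCx.IsQcObject K) {I : Type u} (W : I → C)
    (k : ∀ i, K.obj.obj (op (W i)))
    (h : ∀ (U : C) (s : K.obj.obj (op U)), ∃ S ∈ J U, ∀ ⦃V : C⦄ (g : V ⟶ U), S g →
      ∃ (i : I) (b : V ⟶ W i), K.obj.map b.op (k i) = K.obj.map g.op s) :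
    ∃ t : Finset I, ∀ (U : C) (s : K.obj.obj (op U)), ∃ S ∈ J U, ∀ ⦃V : C⦄ (g : V ⟶ U), S g →
      ∃ i ∈ t, ∃ b : V ⟶ W i, K.obj.map b.op (k i) = K.obj.map g.op s := by
  let L : I → Sheaf J (Type u) := fun i => (presheafToSheaf J (Type u)).obj (yoneda.obj (W i))
  let π : ∀ i, L i ⟶ K := fun i => (Topos.Gen.homEquiv J).symm (k i)
  let η : ∀ i, yoneda.obj (W i) ⟶ (L i).obj := fun i => toSheafify J (yoneda.obj (W i))
  have hπ : ∀ i (V : C) (b : V ⟶ W i), (π i).hom.app (op V) ((η i).app (op V) b) = K.obj.map b.op (k i) := by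
    intro i V b
    have h1 : (π i).hom.app (op (W i)) ((η i).app (op (W i)) (𝟙 _)) = k i := by
      refine Eq.trans ?_ ((Topos.Gen.homEquiv J).apply_symm_apply (k i))
      rfl
    have h2 : (η i).app (op V) b = (L i).obj.map b.op ((η i).app (op (W i)) (𝟙 (W i))) := by
      refine Eq.trans ?_ (NatTrans.naturality_apply (η i) b.op (𝟙 (W i)))
      exact congrArg ((η i).app (op V)) (Category.comp_id b).symm
    rw [h2]
    exact (NatTrans.naturality_apply (π i).hom b.op _).trans (congrArg (K.obj.map b.op) h1)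
  obtain ⟨t, ht⟩ := hK I L π (fun U s => by
    obtain ⟨S, hS, hS'⟩ := h U s
    refine ⟨S, hS, fun V g hg => ?_⟩
    obtain ⟨i, b, hb⟩ := hS' g hg
    exact ⟨i, (η i).app (op V) b, (hπ i V b).trans hb⟩)
  refine ⟨t, fun U s => ?_⟩
  obtain ⟨S, hS, hS'⟩ := ht U s
  choose i x hx using hS'
  have key : ∀ V (g : V ⟶ U) (hg : S g), ∃ T ∈ J V, ∀ ⦃V' : C⦄ (h : V' ⟶ V), T h →
      ∃ b : V' ⟶ W (i V g hg).1, K.obj.map b.op (k (i V g hg).1) = K.obj.map (h ≫ g).op s := fun V g hg => by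
    refine ⟨_, Presheaf.imageSieve_mem J (η (i V g hg).1) (x V g hg), fun V' h ⟨b, hb⟩ => ⟨b, ?_⟩⟩
    refine (hπ _ V' b).symm.trans ?_
    rw [hb, op_comp, Functor.map_comp, ConcreteCategory.comp_apply, ← hx V g hg]
    exact NatTrans.naturality_apply (π _).hom h.op _
  choose T hT hT' using key
  refine ⟨Sieve.bind S.arrows (fun V g hg => T V g hg), J.bind_covering hS (fun V g hg => hT V g hg), ?_⟩
  rintro V' f ⟨V, h, g, hg, hh, rfl⟩
  exact ⟨(i V g hg).1, (i V g hg).2, hT' V g hg h hh⟩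

/-- Local morphisms which are unique glue to a global one. -/
theorem glueHom {A B : Mod O} (R : ∀ W : C, ((restr O W).obj A ⟶ (restr O W).obj B) → Prop)
    (hres : ∀ ⦃W V : C⦄ (g : V ⟶ W) θ, R W θ → R V (resL g θ))
    (huniq : ∀ W θ θ', R W θ → R W θ' → θ = θ')
    (hne : ∀ U : C, ∃ S ∈ J U, ∀ ⦃V : C⦄ (g : V ⟶ U), S g → ∃ θ, R V θ) :
    ∃ φ : A ⟶ B, ∀ W θ, R W θ → (restr O W).map φ = θ := by
  have hex : ∀ (T : C) (x : sect A T), ∃ z : sect B T,
      ∀ ⦃V : C⦄ (g : V ⟶ T) θ, R V θ → rs B g z = apL θ (𝟙 V) (rs A g x) := fun T x => by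
    obtain ⟨S, hS, hS'⟩ := hne T
    choose θ hθ using hS'
    let fam : Presieve.FamilyOfElements (B.val.presheaf ⋙ forget AddCommGrpCat.{u}) S.arrows :=
      fun V g hg => apL (θ g hg) (𝟙 V) (rs A g x)
    have hr : ∀ ⦃V V' : C⦄ (h : V' ⟶ V) (g : V ⟶ T) ρ, R V ρ → ∀ ρ', R V' ρ' →
        rs B h (apL ρ (𝟙 V) (rs A g x)) = apL ρ' (𝟙 V') (rs A (h ≫ g) x) := fun V V' h g ρ hρ ρ' hρ' => by
      rw [huniq V' ρ' (resL h ρ) hρ' (hres h ρ hρ), apL_resL, map_val_comp h g,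
        ← apL_res ρ h (𝟙 V) (𝟙 V' ≫ h) (by simp)]
    have hfam : fam.Compatible := fun Y₁ Y₂ Z g₁ g₂ f₁ f₂ hf₁ hf₂ hh => by
      show rs B g₁ (fam f₁ hf₁) = rs B g₂ (fam f₂ hf₂)
      refine (hr g₁ f₁ _ (hθ f₁ hf₁) _ (hres g₁ _ (hθ f₁ hf₁))).trans
        (Eq.trans ?_ (hr g₂ f₂ _ (hθ f₂ hf₂) _ (hres g₁ _ (hθ f₁ hf₁))).symm)
      rw [hh]
    obtain ⟨z, hz, -⟩ := ((isSheaf_iff_isSheaf_of_type J _).1
      (Presheaf.isSheaf_comp_of_isSheaf J B.val.presheaf (forget AddCommGrpCat.{u}) B.isSheaf)) S hS fam hfam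
    refine ⟨z, fun V g ρ hρ => eq_of_locally B (J.pullback_stable g hS) _ _ fun V' h hh => ?_⟩
    rw [← map_val_comp, hr h g ρ hρ _ (hθ (h ≫ g) hh)]
    exact hz (h ≫ g) hh
  have huv : ∀ (T : C) (x : sect A T) (z z' : sect B T),
      (∀ ⦃V : C⦄ (g : V ⟶ T) θ, R V θ → rs B g z = apL θ (𝟙 V) (rs A g x)) →
      (∀ ⦃V : C⦄ (g : V ⟶ T) θ, R V θ → rs B g z' = apL θ (𝟙 V) (rs A g x)) → z = z' :=
    fun T x z z' hz hz' => by
      obtain ⟨S, hS, hS'⟩ := hne T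
      refine eq_of_locally B hS _ _ fun V g hg => ?_
      obtain ⟨θ, hθ⟩ := hS' g hg
      rw [hz g θ hθ, hz' g θ hθ]
  choose v hv using hex
  let lin : ∀ T : C, sect A T →ₗ[O.obj.obj (op T)] sect B T := fun T =>
    { toFun := v T
      map_add' := fun x y => huv T (x + y) _ _ (hv T _) fun V g θ hθ => by
        rw [map_add, map_add, map_add, hv T x g θ hθ, hv T y g θ hθ]
      map_smul' := fun r x => huv T (r • x) _ _ (hv T _) fun V g θ hθ => by
        rw [RingHom.id_apply, map_val_smul, map_val_smul, map_smul, hv T x g θ hθ] }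
  have hnat : ∀ {T T' : C} (h : T' ⟶ T) (x : sect A T), v T' (rs A h x) = rs B h (v T x) := fun {T T'} h x =>
    huv T' (rs A h x) _ _ (hv T' _) fun V g θ hθ => by
      rw [← map_val_comp g h, ← map_val_comp g h]
      exact hv T x (g ≫ h) θ hθ
  refine ⟨⟨{
    app := fun T => ModuleCat.ofHom (R := O.obj.obj T) (X := sect A T.unop) (Y := sect B T.unop) (lin T.unop)
    naturality := fun {T T'} h => ModuleCat.hom_ext (LinearMap.ext fun (x : sect A T.unop) => hnat h.unop x) }⟩,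
    fun W θ hθ => hom_ext_apL fun {T} a x => ?_⟩
  show v T x = apL θ a x
  have h := hv T x (𝟙 T) (resL a θ) (hres a θ hθ)
  rw [rs_id, rs_id, apL_resL] at h
  rw [h]
  exact congrArg (fun b => apL θ b x) (Category.id_comp a)

/-- A morphism which is locally zero is zero. -/
theorem hom_eq_of_locally {A B : Mod O} (φ ψ : A ⟶ B)
    (h : ∀ U : C, ∃ S ∈ J U, ∀ ⦃V : C⦄ (g : V ⟶ U), S g → (restr O V).map φ = (restr O V).map ψ) : φ = ψ :=
  SheafOfModules.hom_ext (PresheafOfModules.hom_ext fun U => ModuleCat.hom_ext (LinearMap.ext fun x => by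
    obtain ⟨S, hS, hS'⟩ := h U.unop
    show appS φ U.unop x = appS ψ U.unop x
    refine eq_of_locally B hS _ _ fun V g hg => ?_
    rw [← appS_res, ← appS_res]
    exact congrArg (fun t => apL t (𝟙 V) (rs A g x)) (hS' g hg)))

section Main

variable (F : Mod O) [SheafOfModules.IsFinitePresentation (R := ringSh O) F]
  {Λ : Type u} [SmallCategory Λ] [IsFiltered Λ] {D : Λ ⥤ Mod O} {c : Cocone D} (hc : IsColimit c)
  {K : Sheaf J (Type u)} (hqc : CohCx.IsQcObject (K ⨯ K))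

/-- The diagonal element. -/
noncomputable def diagEl {U : C} (k : K.obj.obj (op U)) : (K ⨯ K).obj.obj (op U) :=
  (prod.lift (𝟙 K) (𝟙 K)).hom.app (op U) k

theorem fst_diagEl {U : C} (k : K.obj.obj (op U)) : (prod.fst : K ⨯ K ⟶ K).hom.app (op U) (diagEl k) = k := by
  refine Eq.trans (show _ = (prod.lift (𝟙 K) (𝟙 K) ≫ prod.fst).hom.app (op U) k from rfl) ?_
  rw [prod.lift_fst]
  rfl

variable (hK : ∀ U : C, ∃ S ∈ J U, ∀ ⦃V : C⦄ (g : V ⟶ U), S g → Nonempty (K.obj.obj (op V)))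

include hc hqc hK in
/-- A morphism killed in a filtered colimit is killed at a stage. -/
theorem exists_zero_global {l : Λ} (φ : F ⟶ D.obj l) (hφ : φ ≫ c.ι.app l = 0) :
    ∃ (m : Λ) (f : l ⟶ m), φ ≫ D.map f = 0 := by
  classical
  let I := Σ (W : C) (_ : (K ⨯ K).obj.obj (op W)) (m : Λ), {f : l ⟶ m // (restr O W).map (φ ≫ D.map f) = 0}
  obtain ⟨t, ht⟩ := qc_elems hqc (I := I) (fun i => i.1) (fun i => i.2.1) fun U s => by
    obtain ⟨S, hS, hS'⟩ := hom_zero_stage F hc (l := l) ((restr O U).map φ) (by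
      rw [← Functor.map_comp, hφ, Functor.map_zero])
    refine ⟨S, hS, fun V g hg => ?_⟩
    obtain ⟨m, f, hf⟩ := hS' g hg
    rw [resL_map, ← Functor.map_comp] at hf
    exact ⟨⟨V, (K ⨯ K).obj.map g.op s, m, f, hf⟩, 𝟙 V, by simp⟩
  obtain ⟨m, e, he⟩ := TopFin.Colim.exists_bound (ι := t) (i := l) (fun i => i.1.2.2.1) (fun i => i.1.2.2.2.1)
  refine ⟨m, e, hom_eq_of_locally _ _ fun U => ?_⟩
  obtain ⟨S, hS, hS'⟩ := hK U
  have key : ∀ ⦃V : C⦄ (g : V ⟶ U), S g → ∃ T ∈ J V, ∀ ⦃W : C⦄ (h : W ⟶ V), T h →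
      (restr O W).map (φ ≫ D.map e) = (restr O W).map 0 := fun V g hg => by
    obtain ⟨k⟩ := hS' g hg
    obtain ⟨T, hT, hT'⟩ := ht V (diagEl k)
    refine ⟨T, hT, fun W h hh => ?_⟩
    obtain ⟨i, hi, b, -⟩ := hT' h hh
    obtain ⟨χ, hχ⟩ := he ⟨i, hi⟩
    rw [← resL_map b (φ ≫ D.map e), ← hχ, D.map_comp, ← Category.assoc, Functor.map_comp, i.2.2.2.2, zero_comp,
      resL_zero, Functor.map_zero]
  choose T hT hT' using key
  refine ⟨Sieve.bind S.arrows (fun V g hg => T g hg), J.bind_covering hS (fun V g hg => hT g hg), ?_⟩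
  rintro W g ⟨V, h, g', hg', hh, rfl⟩
  exact hT' g' hg' h hh

section Lift

variable {F} (ψ : F ⟶ c.pt)

/-- Lifts of a morphism over an object, with their stage. -/
abbrev Lifts (W : C) : Type u :=
  Σ l : Λ, {θ : (restr O W).obj F ⟶ (restr O W).obj (D.obj l) //
    θ ≫ (restr O W).map (c.ι.app l) = (restr O W).map ψ}

/-- Restriction of lifts. -/
noncomputable def Lifts.res {W V : C} (g : V ⟶ W) (p : Lifts ψ W) : Lifts ψ V :=
  ⟨p.1, resL g p.2.1, by rw [← resL_map g (c.ι.app p.1), ← resL_comp, p.2.2, resL_map]⟩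

/-- The presheaf of lifts. -/
noncomputable def liftsPre : Cᵒᵖ ⥤ Type u where
  obj W := Lifts ψ W.unop
  map g := TypeCat.ofHom fun p => Lifts.res ψ g.unop p
  map_id W := by
    refine ConcreteCategory.hom_ext _ _ fun p => ?_
    refine Sigma.ext rfl (heq_of_eq (Subtype.ext (hom_ext_apL fun {T} a x => ?_)))
    show apL p.2.1 (a ≫ 𝟙 _) x = apL p.2.1 a x
    exact congrArg (fun b => apL p.2.1 b x) (Category.comp_id a)
  map_comp g h := by
    refine ConcreteCategory.hom_ext _ _ fun p => ?_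
    refine Sigma.ext rfl (heq_of_eq (Subtype.ext (resL_resL h.unop g.unop p.2.1).symm))

variable (hSa : ∀ G : Sheaf J (Type u), Epi (terminal.from G) →
    ∃ K : Sheaf J (Type u), CohCx.IsQcObject (K ⨯ K) ∧
      (∀ U : C, ∃ S ∈ J U, ∀ ⦃V : C⦄ (g : V ⟶ U), S g → Nonempty (K.obj.obj (op V))) ∧ Nonempty (K ⟶ G))

include hc hSa in
/-- A morphism into a filtered colimit factors through a stage. -/
theorem exists_lift_global : ∃ (m : Λ) (φ : F ⟶ D.obj m), φ ≫ c.ι.app m = ψ := by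
  classical
  let G : Sheaf J (Type u) := (presheafToSheaf J (Type u)).obj (liftsPre ψ)
  let η : liftsPre ψ ⟶ G.obj := toSheafify J (liftsPre ψ)
  haveI : Epi (terminal.from G) := by
    haveI : Sheaf.IsLocallySurjective (terminal.from G) := ⟨fun {U} s => by
      obtain ⟨S, hS, hS'⟩ := hom_lift_stage F hc ((restr O U).map ψ)
      refine J.superset_covering ?_ hS
      intro V g hg
      obtain ⟨l, φ, hφ⟩ := hS' g hg
      rw [resL_map] at hφ
      haveI : Subsingleton ((⊤_ Sheaf J (Type u)).obj.obj (op V)) := by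
        have ht : IsTerminal ((⊤_ Sheaf J (Type u)).obj.obj (op V)) :=
          IsTerminal.isTerminalObj (sheafToPresheaf J (Type u) ⋙ (evaluation Cᵒᵖ (Type u)).obj (op V)) _
            terminalIsTerminal
        exact ⟨fun a b => by
          have := ht.hom_ext (TypeCat.ofHom (X := PUnit.{u + 1}) fun _ => a) (TypeCat.ofHom fun _ => b)
          exact ConcreteCategory.congr_hom this PUnit.unit⟩
      exact ⟨η.app (op V) (⟨l, φ, hφ⟩ : Lifts ψ V), Subsingleton.elim _ _⟩⟩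
    exact (Sheaf.isLocallySurjective_iff_epi' (Type u) _).1 inferInstance
  obtain ⟨K, hqc, hK, ⟨a⟩⟩ := hSa G inferInstance
  let p₁ : ∀ {W : C}, (K ⨯ K).obj.obj (op W) → G.obj.obj (op W) := fun {W} k =>
    (prod.fst ≫ a).hom.app (op W) k
  let p₂ : ∀ {W : C}, (K ⨯ K).obj.obj (op W) → G.obj.obj (op W) := fun {W} k =>
    (prod.snd ≫ a).hom.app (op W) k
  have hp₁ : ∀ {W V : C} (g : V ⟶ W) k, p₁ ((K ⨯ K).obj.map g.op k) = G.obj.map g.op (p₁ k) := fun g k =>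
    NatTrans.naturality_apply (prod.fst ≫ a).hom g.op k
  have hp₂ : ∀ {W V : C} (g : V ⟶ W) k, p₂ ((K ⨯ K).obj.map g.op k) = G.obj.map g.op (p₂ k) := fun g k =>
    NatTrans.naturality_apply (prod.snd ≫ a).hom g.op k
  have hsurj : ∀ (U : C) (z : G.obj.obj (op U)), ∃ S ∈ J U, ∀ ⦃V : C⦄ (g : V ⟶ U), S g →
      ∃ p : Lifts ψ V, η.app (op V) p = G.obj.map g.op z := fun U z =>
    ⟨_, Presheaf.imageSieve_mem J η z, fun V g ⟨p, hp⟩ => ⟨p, hp⟩⟩
  have hinj : ∀ {W : C} (p q : Lifts ψ W), η.app (op W) p = η.app (op W) q →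
      ∃ S ∈ J W, ∀ ⦃V : C⦄ (g : V ⟶ W), S g → Lifts.res ψ g p = Lifts.res ψ g q := fun p q h =>
    ⟨_, Presheaf.equalizerSieve_mem J η p q h, fun V g hg => by exact hg⟩
  -- the stages
  let I₁ := Σ (W : C) (k : (K ⨯ K).obj.obj (op W)), {p : Lifts ψ W // η.app (op W) p = p₁ k}
  obtain ⟨t₁, ht₁⟩ := qc_elems hqc (I := I₁) (fun i => i.1) (fun i => i.2.1) fun U s => by
    obtain ⟨S, hS, hS'⟩ := hsurj U (p₁ s)
    refine ⟨S, hS, fun V g hg => ?_⟩
    obtain ⟨p, hp⟩ := hS' g hg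
    exact ⟨⟨V, (K ⨯ K).obj.map g.op s, p, hp.trans (hp₁ g s).symm⟩, 𝟙 V, by simp⟩
  obtain ⟨l₀, hl₀⟩ := IsFiltered.sup_objs_exists (t₁.image fun i => i.2.2.1.1)
  let u : ∀ l : Λ, l ∈ t₁.image (fun i => i.2.2.1.1) → (l ⟶ l₀) := fun l hl => (hl₀ hl).some
  let Rep : ∀ W : C, K.obj.obj (op W) → ((restr O W).obj F ⟶ (restr O W).obj (D.obj l₀)) → Prop :=
    fun W k θ => ∃ (p : Lifts ψ W) (h : p.1 ∈ t₁.image fun i => i.2.2.1.1),
      η.app (op W) p = a.hom.app (op W) k ∧ p.2.1 ≫ (restr O W).map (D.map (u p.1 h)) = θ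
  have hRep_res : ∀ {W V : C} (g : V ⟶ W) k θ, Rep W k θ → Rep V (K.obj.map g.op k) (resL g θ) := by
    rintro W V g k θ ⟨p, h, hp, rfl⟩
    refine ⟨Lifts.res ψ g p, h, ?_, ?_⟩
    · refine (NatTrans.naturality_apply η g.op p).trans ?_
      rw [hp]
      exact (NatTrans.naturality_apply a.hom g.op k).symm
    · rw [resL_comp, resL_map]; rfl
  have hRep_uniq : ∀ {W : C} k θ θ', Rep W k θ → Rep W k θ' → θ = θ' := by
    rintro W k θ θ' ⟨p, h, hp, rfl⟩ ⟨q, h', hq, rfl⟩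
    obtain ⟨S, hS, hS'⟩ := hinj p q (hp.trans hq.symm)
    refine hom_ext_apL fun {T} b x => eq_of_locally _ (J.pullback_stable b hS) _ _ fun V g hg => ?_
    have e := hS' (g ≫ b) hg
    obtain ⟨l, θ₁, hθ₁⟩ := p
    obtain ⟨l', θ₂, hθ₂⟩ := q
    obtain ⟨rfl, e'⟩ := Sigma.mk.inj_iff.1 e
    have e'' : resL (g ≫ b) θ₁ = resL (g ≫ b) θ₂ := congrArg Subtype.val (eq_of_heq e')
    have e3 : resL (g ≫ b) (θ₁ ≫ (restr O W).map (D.map (u l h))) =
        resL (g ≫ b) (θ₂ ≫ (restr O W).map (D.map (u l h'))) := by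
      rw [resL_comp, resL_comp, e'']
    rw [← apL_res _ g b (g ≫ b) rfl, ← apL_res _ g b (g ≫ b) rfl,
      ← congrArg (fun c => apL (θ₁ ≫ (restr O W).map (D.map (u l h))) c (rs F g x)) (Category.id_comp (g ≫ b)),
      ← congrArg (fun c => apL (θ₂ ≫ (restr O W).map (D.map (u l h'))) c (rs F g x)) (Category.id_comp (g ≫ b)),
      ← apL_resL, ← apL_resL, e3]
  have hRep_ex : ∀ (U : C) (k : K.obj.obj (op U)), ∃ S ∈ J U, ∀ ⦃V : C⦄ (g : V ⟶ U), S g →
      ∃ θ, Rep V (K.obj.map g.op k) θ := fun U k => by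
    obtain ⟨S, hS, hS'⟩ := ht₁ U (diagEl k)
    refine ⟨S, hS, fun V g hg => ?_⟩
    obtain ⟨⟨W, kk, p, hp⟩, hi, b, hb⟩ := hS' g hg
    have hmem : p.1 ∈ t₁.image fun i => i.2.2.1.1 := Finset.mem_image_of_mem (fun i : I₁ => i.2.2.1.1) hi
    refine ⟨_, Lifts.res ψ b p, hmem, ?_, rfl⟩
    refine (NatTrans.naturality_apply η b.op p).trans ?_
    show G.obj.map b.op (η.app (op W) p) = _
    rw [hp, ← hp₁, hb, hp₁]
    exact (congrArg (fun t => G.obj.map g.op (a.hom.app (op U) t)) (fst_diagEl k)).trans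
      (NatTrans.naturality_apply a.hom g.op k).symm
  -- the bound
  let I₂ := Σ (W : C) (kk : (K ⨯ K).obj.obj (op W)) (m : Λ),
    {f : l₀ ⟶ m // ∀ (V : C) (b : V ⟶ W) θ θ', Rep V (K.obj.map b.op ((prod.fst : K ⨯ K ⟶ K).hom.app (op W) kk)) θ →
      Rep V (K.obj.map b.op ((prod.snd : K ⨯ K ⟶ K).hom.app (op W) kk)) θ' →
        θ ≫ (restr O V).map (D.map f) = θ' ≫ (restr O V).map (D.map f)}
  have hι : ∀ {W : C} k θ, Rep W k θ → θ ≫ (restr O W).map (c.ι.app l₀) = (restr O W).map ψ := by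
    rintro W k θ ⟨p, h, -, rfl⟩
    rw [Category.assoc, ← Functor.map_comp, c.w, p.2.2]
  obtain ⟨t₂, ht₂⟩ := qc_elems hqc (I := I₂) (fun i => i.1) (fun i => i.2.1) fun U s => by
    obtain ⟨S₁, hS₁, hS₁'⟩ := hRep_ex U ((prod.fst : K ⨯ K ⟶ K).hom.app (op U) s)
    obtain ⟨S₂, hS₂, hS₂'⟩ := hRep_ex U ((prod.snd : K ⨯ K ⟶ K).hom.app (op U) s)
    have key : ∀ ⦃V : C⦄ (g : V ⟶ U), (S₁ ⊓ S₂) g → ∃ T ∈ J V, ∀ ⦃W : C⦄ (h : W ⟶ V), T h →
        ∃ (i : I₂) (b : W ⟶ i.1), (K ⨯ K).obj.map b.op i.2.1 = (K ⨯ K).obj.map (h ≫ g).op s := by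
      intro V g hg
      obtain ⟨θ₁, hθ₁⟩ := hS₁' g hg.1
      obtain ⟨θ₂, hθ₂⟩ := hS₂' g hg.2
      obtain ⟨T, hT, hT'⟩ := hom_zero_stage F hc (θ₁ - θ₂) (by
        rw [Preadditive.sub_comp, hι _ _ hθ₁, hι _ _ hθ₂, sub_self])
      refine ⟨T, hT, fun W h hh => ?_⟩
      obtain ⟨m, f, hf⟩ := hT' h hh
      refine ⟨⟨W, (K ⨯ K).obj.map (h ≫ g).op s, m, f, fun X' b θ θ' hθ hθ' => ?_⟩, 𝟙 W, by simp⟩
      have hnat : ∀ (q : K ⨯ K ⟶ K), K.obj.map b.op (q.hom.app (op W) ((K ⨯ K).obj.map (h ≫ g).op s)) =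
          K.obj.map (b ≫ h).op (K.obj.map g.op (q.hom.app (op U) s)) := fun q => by
        rw [← Functor.map_comp_apply, ← op_comp, NatTrans.naturality_apply q.hom (h ≫ g).op s,
          ← Functor.map_comp_apply, ← op_comp, Category.assoc]
      rw [hnat] at hθ hθ'
      rw [hRep_uniq _ _ _ hθ (hRep_res (b ≫ h) _ _ hθ₁), hRep_uniq _ _ _ hθ' (hRep_res (b ≫ h) _ _ hθ₂),
        ← sub_eq_zero, ← Preadditive.sub_comp]
      refine Eq.trans ?_ ((congrArg (resL b) hf).trans (resL_zero b))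
      rw [resL_comp, resL_map, resL_resL]
      exact congrArg (· ≫ _) (hom_ext_apL fun _ _ => rfl)
    choose T hT hT' using key
    refine ⟨Sieve.bind (S₁ ⊓ S₂).arrows (fun V g hg => T g hg),
      J.bind_covering (J.intersection_covering hS₁ hS₂) (fun V g hg => hT g hg), ?_⟩
    rintro W g ⟨V, h, g', hg', hh, rfl⟩
    exact hT' g' hg' h hh
  obtain ⟨m, e, he⟩ := TopFin.Colim.exists_bound (ι := t₂) (i := l₀) (fun i => i.1.2.2.1) (fun i => i.1.2.2.2.1)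
  let R : ∀ W : C, ((restr O W).obj F ⟶ (restr O W).obj (D.obj m)) → Prop := fun W θ =>
    ∃ k θ₀, Rep W k θ₀ ∧ θ₀ ≫ (restr O W).map (D.map e) = θ
  obtain ⟨φ, hφ⟩ := glueHom R
    (by
      rintro W V g θ ⟨k, θ₀, h, rfl⟩
      exact ⟨_, _, hRep_res g k θ₀ h, by rw [resL_comp, resL_map]⟩)
    (by
      rintro W θ θ' ⟨k, θ₀, h, rfl⟩ ⟨k', θ₀', h', rfl⟩
      let kk : (K ⨯ K).obj.obj (op W) := ((Topos.Gen.homEquiv J) (prod.lift
        ((Topos.Gen.homEquiv J).symm k) ((Topos.Gen.homEquiv J).symm k')))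
      have hk : (prod.fst : K ⨯ K ⟶ K).hom.app (op W) kk = k := by
        rw [← Topos.Gen.homEquiv_comp, prod.lift_fst, Equiv.apply_symm_apply]
      have hk' : (prod.snd : K ⨯ K ⟶ K).hom.app (op W) kk = k' := by
        rw [← Topos.Gen.homEquiv_comp, prod.lift_snd, Equiv.apply_symm_apply]
      obtain ⟨T, hT, hT'⟩ := ht₂ W kk
      refine hom_ext_apL fun {X'} b x => eq_of_locally _ (J.pullback_stable b hT) _ _ fun V g hg => ?_
      obtain ⟨i, hi, b', hb'⟩ := hT' (g ≫ b) hg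
      obtain ⟨χ, hχ⟩ := he ⟨i, hi⟩
      have hnat : ∀ (q : K ⨯ K ⟶ K), K.obj.map (g ≫ b).op (q.hom.app (op W) kk) =
          K.obj.map b'.op (q.hom.app (op i.1) i.2.1) := fun q => by
        rw [← NatTrans.naturality_apply, ← NatTrans.naturality_apply, hb']
      have r₁ := hRep_res (g ≫ b) k θ₀ h
      have r₂ := hRep_res (g ≫ b) k' θ₀' h'
      rw [← hk, hnat] at r₁
      rw [← hk', hnat] at r₂
      have h3 := i.2.2.2.2 V b' _ _ r₁ r₂
      have h4 : resL (g ≫ b) (θ₀ ≫ (restr O W).map (D.map e)) = resL (g ≫ b) (θ₀' ≫ (restr O W).map (D.map e)) := by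
        rw [resL_comp, resL_comp, resL_map, ← hχ, D.map_comp, Functor.map_comp, ← Category.assoc,
          ← Category.assoc, h3]
      rw [← apL_res _ g b (g ≫ b) rfl, ← apL_res _ g b (g ≫ b) rfl,
        ← congrArg (fun c => apL (θ₀ ≫ (restr O W).map (D.map e)) c (rs F g x)) (Category.id_comp (g ≫ b)),
        ← congrArg (fun c => apL (θ₀' ≫ (restr O W).map (D.map e)) c (rs F g x)) (Category.id_comp (g ≫ b)),
        ← apL_resL, ← apL_resL, h4])
    (fun U => by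
      obtain ⟨S, hS, hS'⟩ := hK U
      have key : ∀ ⦃V : C⦄ (g : V ⟶ U), S g → ∃ T ∈ J V, ∀ ⦃W : C⦄ (h : W ⟶ V), T h → ∃ θ, R W θ := by
        intro V g hg
        obtain ⟨k⟩ := hS' g hg
        obtain ⟨T, hT, hT'⟩ := hRep_ex V k
        refine ⟨T, hT, fun W h hh => ?_⟩
        obtain ⟨θ, hθ⟩ := hT' h hh
        exact ⟨_, _, θ, hθ, rfl⟩
      choose T hT hT' using key
      refine ⟨Sieve.bind S.arrows (fun V g hg => T g hg), J.bind_covering hS (fun V g hg => hT g hg), ?_⟩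
      rintro W g ⟨V, h, g', hg', hh, rfl⟩
      exact hT' g' hg' h hh)
  refine ⟨m, φ, hom_eq_of_locally _ _ fun U => ?_⟩
  obtain ⟨S, hS, hS'⟩ := hK U
  have key : ∀ ⦃V : C⦄ (g : V ⟶ U), S g → ∃ T ∈ J V, ∀ ⦃W : C⦄ (h : W ⟶ V), T h →
      (restr O W).map (φ ≫ c.ι.app m) = (restr O W).map ψ := by
    intro V g hg
    obtain ⟨k⟩ := hS' g hg
    obtain ⟨T, hT, hT'⟩ := hRep_ex V k
    refine ⟨T, hT, fun W h hh => ?_⟩
    obtain ⟨θ, hθ⟩ := hT' h hh
    rw [Functor.map_comp, hφ W _ ⟨_, θ, hθ, rfl⟩, Category.assoc, ← Functor.map_comp, c.w]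
    exact hι _ _ hθ
  choose T hT hT' using key
  refine ⟨Sieve.bind S.arrows (fun V g hg => T g hg), J.bind_covering hS (fun V g hg => hT g hg), ?_⟩
  rintro W g ⟨V, h, g', hg', hh, rfl⟩
  exact hT' g' hg' h hh

end Lift

end Main

end Groth.Agent.LocPres
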