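import Groth.Agent.LocPres.Def
import Groth.Agent.LocPres.Colim
import Groth.Agent.PullFlat.Tensor

/-!
# Morphisms out of locally presented modules
-/

set_option autoImplicit false
set_option linter.style.haveILetI false
set_option linter.dupNamespace false

universe u

open CategoryTheory CategoryTheory.Limits Opposite ModSite

namespace Groth.Agent.LocPres

open Groth.Agent.ModFlat (rs map_val_smul map_val_comp map_ring_comp)
open Groth.Agent.PullFlat (appS appS_res appS_comp apL apL_res resL apL_resL hom_ext_apL rs_id eq_of_locally)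

variable {C : Type u} [SmallCategory C] {J : GrothendieckTopology C} {O : Sheaf J CommRingCat.{u}}
  {F G : Mod O} {X : C} (P : LocPres F X)

include P in
/-- Local morphisms out of a presented module agreeing on generators are equal. -/
theorem LocPres.hom_ext {φ ψ : (restr O X).obj F ⟶ (restr O X).obj G}
    (h : ∀ i, apL φ (𝟙 X) (P.s i) = apL ψ (𝟙 X) (P.s i)) : φ = ψ :=
  hom_ext_apL fun {T} a x => by
    obtain ⟨S, hS, hS'⟩ := P.gen a x
    refine eq_of_locally G hS _ _ fun V g hg => ?_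
    obtain ⟨c, hc⟩ := hS' g hg
    rw [← apL_res φ g a (g ≫ a) rfl, ← apL_res ψ g a (g ≫ a) rfl, ← hc, map_sum, map_sum]
    refine Finset.sum_congr rfl fun i _ => ?_
    rw [map_smul, map_smul, apL_res φ (g ≫ a) (𝟙 X) (g ≫ a) (Category.comp_id _),
      apL_res ψ (g ≫ a) (𝟙 X) (g ≫ a) (Category.comp_id _), h i]

section Glue

variable (y : Fin P.n → sect G X) (hy : ∀ k, ∑ i, P.r k i • y i = 0)

/-- The value prescribed at a section. -/
def LocPres.IsVal {T : C} (a : T ⟶ X) (x : sect F T) (z : sect G T) : Prop :=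
  ∀ ⦃V : C⦄ (g : V ⟶ T) (c : Fin P.n → O.obj.obj (op V)), ∑ i, c i • rs F (g ≫ a) (P.s i) = rs F g x →
    rs G g z = ∑ i, c i • rs G (g ≫ a) (y i)

include hy in
theorem LocPres.wellDef {T : C} (a : T ⟶ X) (c : Fin P.n → O.obj.obj (op T))
    (hc : ∑ i, c i • rs F a (P.s i) = 0) : ∑ i, c i • rs G a (y i) = 0 := by
  obtain ⟨S, hS, hS'⟩ := P.relgen a c hc
  refine eq_of_locally G hS _ _ fun V g hg => ?_
  obtain ⟨b, hb⟩ := hS' g hg
  rw [map_sum, map_zero]
  simp only [map_val_smul, ← map_val_comp, hb, Finset.sum_smul, ← smul_smul]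
  rw [Finset.sum_comm]
  refine Finset.sum_eq_zero fun k _ => ?_
  rw [← Finset.smul_sum]
  refine Eq.trans (congrArg (b k • ·) ?_) (smul_zero (b k))
  refine Eq.trans ?_ ((congrArg (rs G (g ≫ a)) (hy k)).trans (map_zero (rs G (g ≫ a))))
  rw [map_sum]
  exact Finset.sum_congr rfl fun i _ => (map_val_smul (g ≫ a) _ _).symm

theorem LocPres.isVal_unique {T : C} (a : T ⟶ X) (x : sect F T) {z z' : sect G T}
    (h : P.IsVal y a x z) (h' : P.IsVal y a x z') : z = z' := by
  obtain ⟨S, hS, hS'⟩ := P.gen a x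
  refine eq_of_locally G hS _ _ fun V g hg => ?_
  obtain ⟨c, hc⟩ := hS' g hg
  rw [h g c hc, h' g c hc]

include hy in
theorem LocPres.exists_isVal {T : C} (a : T ⟶ X) (x : sect F T) : ∃ z, P.IsVal y a x z := by
  obtain ⟨S, hS, hS'⟩ := P.gen a x
  choose c hc using hS'
  let fam : Presieve.FamilyOfElements (G.val.presheaf ⋙ forget AddCommGrpCat.{u}) S.arrows :=
    fun V g hg => ∑ i, c g hg i • rs G (g ≫ a) (y i)
  have heq : ∀ ⦃V : C⦄ (g : V ⟶ T) (c₁ c₂ : Fin P.n → O.obj.obj (op V)),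
      ∑ i, c₁ i • rs F (g ≫ a) (P.s i) = rs F g x → ∑ i, c₂ i • rs F (g ≫ a) (P.s i) = rs F g x →
      ∑ i, c₁ i • rs G (g ≫ a) (y i) = ∑ i, c₂ i • rs G (g ≫ a) (y i) := fun V g c₁ c₂ h₁ h₂ => by
    refine sub_eq_zero.1 ?_
    rw [← Finset.sum_sub_distrib]
    simp only [← sub_smul]
    exact P.wellDef y hy (g ≫ a) (fun i => c₁ i - c₂ i) (by
      simp only [sub_smul, Finset.sum_sub_distrib, h₁, h₂, sub_self])
  have hres : ∀ ⦃V W : C⦄ (h : W ⟶ V) (g : V ⟶ T) (c₁ : Fin P.n → O.obj.obj (op V)),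
      (∑ i, c₁ i • rs F (g ≫ a) (P.s i) = rs F g x →
        ∑ i, (O.obj.map h.op).hom (c₁ i) • rs F ((h ≫ g) ≫ a) (P.s i) = rs F (h ≫ g) x) ∧
      rs G h (∑ i, c₁ i • rs G (g ≫ a) (y i)) =
        ∑ i, (O.obj.map h.op).hom (c₁ i) • rs G ((h ≫ g) ≫ a) (y i) := fun V W h g c₁ => by
    refine ⟨fun h₁ => ?_, ?_⟩
    · rw [map_val_comp h g, ← h₁, map_sum]
      exact Finset.sum_congr rfl fun i _ => by rw [map_val_smul, ← map_val_comp, Category.assoc]
    · rw [map_sum]
      exact Finset.sum_congr rfl fun i _ => by rw [map_val_smul, ← map_val_comp, Category.assoc]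
  have hfam : fam.Compatible := fun Y₁ Y₂ Z g₁ g₂ f₁ f₂ hf₁ hf₂ hh => by
    show rs G g₁ (fam f₁ hf₁) = rs G g₂ (fam f₂ hf₂)
    simp only [fam]
    refine (hres g₁ f₁ (c f₁ hf₁)).2.trans (Eq.trans ?_ (hres g₂ f₂ (c f₂ hf₂)).2.symm)
    have h₁ := (hres g₁ f₁ _).1 (hc f₁ hf₁)
    have h₂ := (hres g₂ f₂ _).1 (hc f₂ hf₂)
    rw [hh] at h₁ ⊢
    exact heq _ _ _ h₁ h₂
  obtain ⟨z, hz, -⟩ := ((isSheaf_iff_isSheaf_of_type J _).1
    (Presheaf.isSheaf_comp_of_isSheaf J G.val.presheaf (forget AddCommGrpCat.{u}) G.isSheaf)) S hS fam hfam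
  refine ⟨z, fun V g c₁ h₁ => ?_⟩
  refine eq_of_locally G (J.pullback_stable g hS) _ _ fun W h hh => ?_
  rw [← map_val_comp, (hres h g c₁).2]
  exact (hz (h ≫ g) hh).trans (heq _ _ _ (hc _ hh) ((hres h g c₁).1 h₁))

variable {y}

/-- The morphism given by values at generators. -/
noncomputable def LocPres.val {T : C} (a : T ⟶ X) (x : sect F T) : sect G T :=
  (P.exists_isVal y hy a x).choose

theorem LocPres.isVal_val {T : C} (a : T ⟶ X) (x : sect F T) : P.IsVal y a x (P.val hy a x) :=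
  (P.exists_isVal y hy a x).choose_spec

theorem LocPres.val_res {T T' : C} (h : T' ⟶ T) (a : T ⟶ X) (b : T' ⟶ X) (hb : h ≫ a = b) (x : sect F T) :
    P.val hy b (rs F h x) = rs G h (P.val hy a x) :=
  P.isVal_unique y b _ (P.isVal_val hy b _) fun V g c hc => by
    subst hb
    rw [← map_val_comp g h, P.isVal_val hy a x (g ≫ h) c (by rw [map_val_comp g h, ← hc, Category.assoc])]
    simp only [Category.assoc]

/-- The components of the morphism given by values at generators. -/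
noncomputable def LocPres.lin {T : C} (a : T ⟶ X) : sect F T →ₗ[O.obj.obj (op T)] sect G T where
  toFun := P.val hy a
  map_add' x x' := by
    refine P.isVal_unique y a _ (P.isVal_val hy a _) fun V g c hc => ?_
    obtain ⟨S, hS, hS'⟩ := P.gen (g ≫ a) (rs F g x)
    refine eq_of_locally G hS _ _ fun W h hh => ?_
    obtain ⟨c₁, hc₁⟩ := hS' h hh
    rw [← Category.assoc] at hc₁
    rw [← map_val_comp] at hc₁
    have hc₂ : ∑ i, ((O.obj.map h.op).hom (c i) - c₁ i) • rs F ((h ≫ g) ≫ a) (P.s i) = rs F (h ≫ g) x' := by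
      simp only [sub_smul, Finset.sum_sub_distrib, hc₁]
      have : ∑ i, (O.obj.map h.op).hom (c i) • rs F ((h ≫ g) ≫ a) (P.s i) = rs F (h ≫ g) (x + x') := by
        rw [map_val_comp h g, ← hc, map_sum]
        exact Finset.sum_congr rfl fun i _ => by rw [map_val_smul, ← map_val_comp, Category.assoc]
      rw [this, map_add, add_sub_cancel_left]
    rw [← map_val_comp, map_add, P.isVal_val hy a x _ _ hc₁, P.isVal_val hy a x' _ _ hc₂, map_sum,
      ← Finset.sum_add_distrib]
    refine Finset.sum_congr rfl fun i _ => ?_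
    rw [map_val_smul, ← map_val_comp, Category.assoc, sub_smul, add_sub_cancel]
  map_smul' r x := by
    refine P.isVal_unique y a _ (P.isVal_val hy a _) fun V g c hc => ?_
    obtain ⟨S, hS, hS'⟩ := P.gen (g ≫ a) (rs F g x)
    refine eq_of_locally G hS _ _ fun W h hh => ?_
    obtain ⟨c₁, hc₁⟩ := hS' h hh
    rw [← Category.assoc] at hc₁
    rw [← map_val_comp] at hc₁
    have hc₂ : ∑ i, ((O.obj.map h.op).hom (c i) - (O.obj.map (h ≫ g).op).hom r * c₁ i) •
        rs F ((h ≫ g) ≫ a) (P.s i) = 0 := by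
      simp only [sub_smul, Finset.sum_sub_distrib, ← smul_smul, ← Finset.smul_sum, hc₁, sub_eq_zero]
      rw [← map_val_smul, map_val_comp h g, ← hc, map_sum]
      exact Finset.sum_congr rfl fun i _ => by rw [map_val_smul, ← map_val_comp, Category.assoc]
    have h0 := P.wellDef y hy _ _ hc₂
    simp only [sub_smul, Finset.sum_sub_distrib, ← smul_smul, ← Finset.smul_sum, sub_eq_zero] at h0
    rw [RingHom.id_apply, ← map_val_comp, map_val_smul, P.isVal_val hy a x _ _ hc₁, ← h0, map_sum]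
    exact Finset.sum_congr rfl fun i _ => by rw [map_val_smul, ← map_val_comp, Category.assoc]

include hy in
/-- Values at the generators satisfying the relations give a local morphism. -/
theorem LocPres.exists_hom :
    ∃ φ : (restr O X).obj F ⟶ (restr O X).obj G, ∀ i, apL φ (𝟙 X) (P.s i) = y i := by
  refine ⟨⟨{
    app := fun T => ModuleCat.ofHom (R := O.obj.obj (op T.unop.left)) (X := sect F T.unop.left)
      (Y := sect G T.unop.left) (P.lin hy T.unop.hom)
    naturality := fun {T T'} h => ModuleCat.hom_ext (LinearMap.ext fun (x : sect F T.unop.left) =>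
      P.val_res hy h.unop.left T.unop.hom T'.unop.hom (CategoryTheory.Over.w h.unop) x) }⟩, fun i => ?_⟩
  show P.val hy (𝟙 X) (P.s i) = y i
  refine P.isVal_unique y (𝟙 X) _ (P.isVal_val hy _ _) fun V g c hc => ?_
  rw [Category.comp_id] at hc
  have h0 := P.wellDef y hy (g ≫ 𝟙 X) (fun j => c j - if j = i then 1 else 0) (by
    simp only [sub_smul, Finset.sum_sub_distrib, ite_smul, one_smul, zero_smul, Finset.sum_ite_eq',
      Finset.mem_univ, if_true, Category.comp_id, hc, sub_self])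
  simp only [sub_smul, Finset.sum_sub_distrib, ite_smul, one_smul, zero_smul, Finset.sum_ite_eq',
    Finset.mem_univ, if_true, sub_eq_zero] at h0
  rw [h0, Category.comp_id]

end Glue

variable {Λ : Type u} [SmallCategory Λ] [IsFiltered Λ] {D : Λ ⥤ Mod O} {c : Cocone D} (hc : IsColimit c)

include P hc in
/-- A local morphism killed in a filtered colimit is locally killed at a later stage. -/
theorem LocPres.hom_zero {l : Λ} (φ : (restr O X).obj F ⟶ (restr O X).obj (D.obj l))
    (hφ : φ ≫ (restr O X).map (c.ι.app l) = 0) : ∃ S ∈ J X, ∀ ⦃V : C⦄ (g : V ⟶ X), S g →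
      ∃ (m : Λ) (f : l ⟶ m), resL g φ ≫ (restr O V).map (D.map f) = 0 := by
  obtain ⟨S, hS, hS'⟩ := exists_zero_stages hc (fun i => apL φ (𝟙 X) (P.s i)) (fun i =>
    congrArg (fun t => apL t (𝟙 X) (P.s i)) hφ)
  refine ⟨S, hS, fun V g hg => ?_⟩
  obtain ⟨m, f, hf⟩ := hS' g hg
  refine ⟨m, f, (P.restrict g).hom_ext fun i => ?_⟩
  show appS (D.map f) V (apL (resL g φ) (𝟙 V) (rs F g (P.s i))) = 0
  rw [apL_resL, apL_res φ g (𝟙 X) (𝟙 V ≫ g) (by simp)]
  exact hf i

include P hc in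
/-- A local morphism into a filtered colimit locally factors through a stage. -/
theorem LocPres.hom_lift (ψ : (restr O X).obj F ⟶ (restr O X).obj c.pt) :
    ∃ S ∈ J X, ∀ ⦃V : C⦄ (g : V ⟶ X), S g →
      ∃ (l : Λ) (φ : (restr O V).obj F ⟶ (restr O V).obj (D.obj l)),
        φ ≫ (restr O V).map (c.ι.app l) = resL g ψ := by
  obtain ⟨S, hS, hS'⟩ := exists_stages hc (fun i => apL ψ (𝟙 X) (P.s i))
  have key : ∀ ⦃V : C⦄ (g : V ⟶ X), S g → ∃ T ∈ J V, ∀ ⦃W : C⦄ (h : W ⟶ V), T h →
      ∃ (l : Λ) (φ : (restr O W).obj F ⟶ (restr O W).obj (D.obj l)),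
        φ ≫ (restr O W).map (c.ι.app l) = resL (h ≫ g) ψ := fun V g hg => by
    obtain ⟨l, y, hy⟩ := hS' g hg
    have h0 : ∀ k, appS (c.ι.app l) V (∑ i, (O.obj.map g.op).hom (P.r k i) • y i) = 0 := fun k => by
      rw [map_sum]
      refine Eq.trans ?_ ((congrArg (rs c.pt g) (congrArg (apL ψ (𝟙 X)) (P.rel k))).trans
        ((congrArg (rs c.pt g) (map_zero (apL ψ (𝟙 X)))).trans (map_zero (rs c.pt g))))
      rw [map_sum, map_sum]
      exact Finset.sum_congr rfl fun i _ => by rw [map_smul, map_smul, map_val_smul, hy i]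
    obtain ⟨T, hT, hT'⟩ := exists_zero_stages hc _ h0
    refine ⟨T, hT, fun W h hh => ?_⟩
    obtain ⟨m, f, hf⟩ := hT' h hh
    let Q := P.restrict (h ≫ g)
    obtain ⟨φ, hφ⟩ := Q.exists_hom (G := D.obj m) (y := fun i => appS (D.map f) W (rs (D.obj l) h (y i)))
      (fun k => by
        refine Eq.trans ?_ (hf k)
        rw [map_sum, map_sum]
        refine Finset.sum_congr rfl fun i _ => ?_
        rw [map_val_smul, map_smul]
        exact congrArg (fun t => t • _) (map_ring_comp h g _))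
    refine ⟨m, φ, Q.hom_ext fun i => ?_⟩
    show appS (c.ι.app m) W (apL φ (𝟙 W) (Q.s i)) = apL (resL (h ≫ g) ψ) (𝟙 W) (rs F (h ≫ g) (P.s i))
    rw [hφ i, ← appS_comp, c.w, appS_res, hy i, apL_resL,
      apL_res ψ (h ≫ g) (𝟙 X) (𝟙 W ≫ h ≫ g) (by simp)]
    exact (map_val_comp h g _).symm
  choose T hT hT' using key
  refine ⟨Sieve.bind S.arrows (fun V g hg => T g hg), J.bind_covering hS (fun V g hg => hT g hg), ?_⟩
  rintro W g ⟨V, h, g', hg', hh, rfl⟩
  exact hT' g' hg' h hh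

end Groth.Agent.LocPres
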