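import Groth.Agent.PullFlat.Tensor
import Groth.Agent.PullFlat.LocalHom
import Groth.Agent.KFlat.Flat

/-!
# Sections of the internal hom as local morphisms, naturally
-/

set_option autoImplicit false
set_option linter.style.haveILetI false

universe u

open CategoryTheory CategoryTheory.Limits MonoidalCategory Opposite ModSite

namespace Groth.Agent.LocPres

open Groth.Agent.ModFlat (rs map_val_smul map_val_comp)
open Groth.Agent.PullFlat
open Groth.Agent.KFlat (preAdj freeU freeUEquiv)

variable {C : Type u} [SmallCategory C] {J : GrothendieckTopology C} {O : Sheaf J CommRingCat.{u}}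

theorem appS_flip_map {M M' : Mod O} (F : Mod O) (φ : M ⟶ M') {T : C} (m : sect M T) (x : sect F T) :
    appS (((tensorBi O).flip.obj F).map φ) T (tmulS (N := F) m x) = tmulS (appS φ T m) x :=
  (congrArg (fun t : pt₂ M F ⟶ (toPre O).obj (tens₂ M' F) => t.app (op T)
      (m ⊗ₜ[O.obj.obj (op T)] x : TensorProduct (O.obj.obj (op T)) (sect M T) (sect F T)))
    ((preAdj O).unit.naturality ((toPre O).map φ ▷ (toPre O).obj F))).symm

variable (F : Mod O) [HasSheafHom F] {N N' : Mod O} {X : C}

variable (N) in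
/-- Evaluation. -/
noncomputable abbrev ev : tens₂ ((sheafHom F).obj N) F ⟶ N := (sheafHomAdj F).counit.app N

/-- The components of `toLoc`. -/
noncomputable def toLocApp (z : sect ((sheafHom F).obj N) X) {T : C} (a : T ⟶ X) :
    sect F T →ₗ[O.obj.obj (op T)] sect N T where
  toFun x := appS (ev F N) T (tmulS (rs ((sheafHom F).obj N) a z) x)
  map_add' x y := by rw [tmulS_add_right, map_add]
  map_smul' r x := (congrArg (appS (ev F N) T) (tmulS_smul_right r _ x)).trans
    (map_smul (appS (ev F N) T) r _)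

theorem toLocApp_res (z : sect ((sheafHom F).obj N) X) {T T' : C} (h : T' ⟶ T) (a : T ⟶ X) (b : T' ⟶ X)
    (hb : h ≫ a = b) (x : sect F T) : toLocApp F z b (rs F h x) = rs N h (toLocApp F z a x) := by
  show appS (ev F N) T' (tmulS (rs _ b z) (rs F h x)) = rs N h (appS (ev F N) T (tmulS (rs _ a z) x))
  rw [← appS_res, tmulS_res, ← map_val_comp, hb]

/-- The local morphism given by a section of the internal hom. -/
noncomputable def toLoc (z : sect ((sheafHom F).obj N) X) : (restr O X).obj F ⟶ (restr O X).obj N :=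
  ⟨{ app := fun T => ModuleCat.ofHom (R := O.obj.obj (op T.unop.left)) (X := sect F T.unop.left)
        (Y := sect N T.unop.left) (toLocApp F z T.unop.hom)
     naturality := fun {T T'} h => ModuleCat.hom_ext (LinearMap.ext fun (x : sect F T.unop.left) =>
      toLocApp_res F z h.unop.left T.unop.hom T'.unop.hom (CategoryTheory.Over.w h.unop) x) }⟩

theorem apL_toLoc (z : sect ((sheafHom F).obj N) X) {T : C} (a : T ⟶ X) (x : sect F T) :
    apL (toLoc F z) a x = appS (ev F N) T (tmulS (rs ((sheafHom F).obj N) a z) x) := rfl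

theorem toLoc_res {Y : C} (g : Y ⟶ X) (z : sect ((sheafHom F).obj N) X) :
    toLoc F (rs ((sheafHom F).obj N) g z) = resL g (toLoc F z) :=
  hom_ext_apL fun a x => by rw [apL_resL, apL_toLoc, apL_toLoc, ← map_val_comp]

theorem toLoc_map (h : N ⟶ N') (z : sect ((sheafHom F).obj N) X) :
    toLoc F (appS ((sheafHom F).map h) X z) = toLoc F z ≫ (restr O X).map h :=
  hom_ext_apL fun {T} a x => by
    show appS (ev F N') T (tmulS (rs _ a (appS ((sheafHom F).map h) X z)) x) =
      appS h T (appS (ev F N) T (tmulS (rs _ a z) x))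
    rw [← appS_res, ← appS_flip_map, ← appS_comp, ← appS_comp]
    exact congrArg (fun t => appS t T (tmulS (rs _ a z) x)) ((sheafHomAdj F).counit.naturality h)

theorem toLoc_add (z w : sect ((sheafHom F).obj N) X) : toLoc F (z + w) = toLoc F z + toLoc F w :=
  hom_ext_apL fun {T} a x => by
    show _ = apL (toLoc F z) a x + apL (toLoc F w) a x
    rw [apL_toLoc, apL_toLoc, apL_toLoc, map_add, tmulS_add_left, map_add]

variable (X) in
/-- The free presheaf of modules on an object. -/
noncomputable abbrev freeP : preMod O :=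
  (PresheafOfModules.free _).obj (yoneda.obj X)

omit [HasSheafHom F] in
/-- Presheaf morphisms out of `freeP X ⊗ F` are determined on products with the generators. -/
theorem freeP_tensor_ext {Q : preMod O} (p q : freeP (O := O) X ⊗ (toPre O).obj F ⟶ Q)
    (h : ∀ {T : C} (a : T ⟶ X) (x : sect F T),
      p.app (op T) ((Finsupp.single a 1 : (T ⟶ X) →₀ O.obj.obj (op T)) ⊗ₜ[O.obj.obj (op T)] x) =
        q.app (op T) ((Finsupp.single a 1 : (T ⟶ X) →₀ O.obj.obj (op T)) ⊗ₜ[O.obj.obj (op T)] x)) :
    p = q := by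
  refine PresheafOfModules.hom_ext fun T => ?_
  refine ModuleCat.MonoidalCategory.tensor_ext (R := O.obj.obj T)
    fun (m : (T.unop ⟶ X) →₀ O.obj.obj T) (x : sect F T.unop) => ?_
  induction m using Finsupp.induction_linear with
  | zero =>
    refine (congrArg (p.app T).hom (TensorProduct.zero_tmul (R := O.obj.obj T) ((T.unop ⟶ X) →₀ O.obj.obj T) x)).trans
      ((map_zero (p.app T).hom).trans ((map_zero (q.app T).hom).symm.trans ?_))
    exact (congrArg (q.app T).hom (TensorProduct.zero_tmul (R := O.obj.obj T) ((T.unop ⟶ X) →₀ O.obj.obj T) x)).symm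
  | add m m' hm hm' =>
    refine (congrArg (p.app T).hom (TensorProduct.add_tmul (R := O.obj.obj T) m m' x)).trans
      ((map_add (p.app T).hom _ _).trans ?_)
    refine (congr_arg₂ (· + ·) hm hm').trans ((map_add (q.app T).hom _ _).symm.trans ?_)
    exact (congrArg (q.app T).hom (TensorProduct.add_tmul (R := O.obj.obj T) m m' x)).symm
  | single a r =>
    have e : (Finsupp.single a r : (T.unop ⟶ X) →₀ O.obj.obj T) = r • Finsupp.single a 1 := by
      rw [Finsupp.smul_single, smul_eq_mul, mul_one]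
    rw [e]
    refine (congrArg (p.app T).hom (TensorProduct.smul_tmul' (R := O.obj.obj T) r (Finsupp.single a 1 : (T.unop ⟶ X) →₀ O.obj.obj T) x).symm).trans
      ((map_smul (p.app T).hom r _).trans ?_)
    refine (congrArg (r • ·) (h a x)).trans ((map_smul (q.app T).hom r _).symm.trans ?_)
    exact congrArg (q.app T).hom (TensorProduct.smul_tmul' (R := O.obj.obj T) r (Finsupp.single a 1 : (T.unop ⟶ X) →₀ O.obj.obj T) x)

/-- The basis section of the free sheaf at `a`. -/
noncomputable def gen {T : C} (a : T ⟶ X) : sect (freeU O X) T :=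
  ((preAdj O).unit.app (freeP X)).app (op T) (Finsupp.single a 1 : (T ⟶ X) →₀ O.obj.obj (op T))

/-- Morphisms out of `freeU X ⊗ F` as presheaf morphisms out of `freeP X ⊗ F`. -/
noncomputable def preOf {Q : Mod O} (u : tens₂ (freeU O X) F ⟶ Q) :
    freeP X ⊗ (toPre O).obj F ⟶ (toPre O).obj Q :=
  (preAdj O).unit.app (freeP X) ▷ (toPre O).obj F ≫ (preAdj O).homEquiv _ Q u

omit [HasSheafHom F] in
theorem preOf_apply {Q : Mod O} (u : tens₂ (freeU O X) F ⟶ Q) {T : C} (a : T ⟶ X) (x : sect F T) :
    (preOf F u).app (op T) ((Finsupp.single a 1 : (T ⟶ X) →₀ O.obj.obj (op T)) ⊗ₜ[O.obj.obj (op T)] x) =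
      appS u T (tmulS (gen a) x) := rfl

omit [HasSheafHom F] in
theorem preOf_bijective {Q : Mod O} : Function.Bijective (preOf (X := X) (Q := Q) F) := by
  haveI := Groth.Agent.KFlat.isIso_shPre_map_unit (freeP (O := O) X)
  let w := (preAdj O).unit.app (freeP X) ▷ (toPre O).obj F
  haveI : IsIso ((shPre O).map w) := Groth.Agent.KFlat.isIso_shPre_whiskerRight _ _
  have : preOf (X := X) (Q := Q) F =
      ((preAdj O).homEquiv _ Q) ∘ (fun u => (shPre O).map w ≫ u) :=
    funext fun u => ((preAdj O).homEquiv_naturality_left w u).symm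
  rw [this]
  exact ((preAdj O).homEquiv _ Q).bijective.comp ((asIso ((shPre O).map w)).symm.homFromEquiv (Z := Q)).bijective

/-- The components of the presheaf morphism given by a local morphism. -/
noncomputable def pOfLocApp {F : Mod O} (ψ : (restr O X).obj F ⟶ (restr O X).obj N) (T : C) :
    TensorProduct (O.obj.obj (op T)) ((T ⟶ X) →₀ O.obj.obj (op T)) (sect F T) →ₗ[O.obj.obj (op T)] sect N T :=
  TensorProduct.lift (R := O.obj.obj (op T)) (M := (T ⟶ X) →₀ O.obj.obj (op T)) (N := sect F T) (P₂ := sect N T)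
    (Finsupp.linearCombination (O.obj.obj (op T)) (fun a : T ⟶ X => apL ψ a))

/-- Evaluation of a local morphism at formal combinations of maps into `X`. -/
noncomputable def lcL {F : Mod O} (ψ : (restr O X).obj F ⟶ (restr O X).obj N) {T : C} (x : sect F T) :
    ((T ⟶ X) →₀ O.obj.obj (op T)) →ₗ[O.obj.obj (op T)] sect N T :=
  Finsupp.linearCombination (O.obj.obj (op T)) (fun a : T ⟶ X => apL ψ a x)

theorem lcL_single {F : Mod O} (ψ : (restr O X).obj F ⟶ (restr O X).obj N) {T : C} (x : sect F T)
    (a : T ⟶ X) (r : O.obj.obj (op T)) : lcL ψ x (Finsupp.single a r) = r • apL ψ a x :=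
  Finsupp.linearCombination_single (R := O.obj.obj (op T)) (v := fun a : T ⟶ X => apL ψ a x) r a

theorem pOfLocApp_tmul {F : Mod O} (ψ : (restr O X).obj F ⟶ (restr O X).obj N) {T : C}
    (m : (T ⟶ X) →₀ O.obj.obj (op T)) (x : sect F T) :
    pOfLocApp ψ T (m ⊗ₜ[O.obj.obj (op T)] x) = lcL ψ x m := by
  refine (TensorProduct.lift.tmul (R := O.obj.obj (op T)) m x).trans ?_
  refine LinearMap.congr_fun (f := (LinearMap.applyₗ (R := O.obj.obj (op T)) x).comp
    (Finsupp.linearCombination (O.obj.obj (op T)) (fun a : T ⟶ X => apL ψ a))) (g := lcL ψ x) ?_ m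
  refine Finsupp.lhom_ext fun a r => ?_
  refine Eq.trans ?_ (lcL_single ψ x a r).symm
  exact congrArg (fun l : sect F T →ₗ[O.obj.obj (op T)] sect N T => l x)
    (Finsupp.linearCombination_single (R := O.obj.obj (op T)) (v := fun a : T ⟶ X => apL ψ a) r a)

theorem pOfLocApp_single {F : Mod O} (ψ : (restr O X).obj F ⟶ (restr O X).obj N) {T : C} (a : T ⟶ X)
    (r : O.obj.obj (op T)) (x : sect F T) :
    pOfLocApp ψ T ((Finsupp.single a r : (T ⟶ X) →₀ O.obj.obj (op T)) ⊗ₜ[O.obj.obj (op T)] x) = r • apL ψ a x :=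
  (pOfLocApp_tmul ψ _ x).trans (lcL_single ψ x a r)

omit [HasSheafHom F] in
theorem pOfLocApp_res (ψ : (restr O X).obj F ⟶ (restr O X).obj N) {T T' : C} (h : T' ⟶ T)
    (m : (T ⟶ X) →₀ O.obj.obj (op T)) (x : sect F T) :
    pOfLocApp ψ T' ((((freeP (O := O) X).map h.op).hom m : (T' ⟶ X) →₀ O.obj.obj (op T')) ⊗ₜ[O.obj.obj (op T')] rs F h x) =
      rs N h (pOfLocApp ψ T (m ⊗ₜ[O.obj.obj (op T)] x)) := by
  rw [pOfLocApp_tmul, pOfLocApp_tmul]
  induction m using Finsupp.induction_linear with
  | zero =>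
    refine (congrArg (lcL ψ (rs F h x)) (map_zero ((freeP (O := O) X).map h.op).hom)).trans ?_
    exact (map_zero (lcL ψ (rs F h x))).trans
      ((congrArg (rs N h) (map_zero (lcL ψ x))).trans (map_zero (rs N h))).symm
  | add m m' hm hm' =>
    refine (congrArg (lcL ψ (rs F h x)) (map_add ((freeP (O := O) X).map h.op).hom m m')).trans
      ((map_add (lcL ψ (rs F h x)) _ _).trans ?_)
    refine (congr_arg₂ (· + ·) hm hm').trans ?_
    exact ((congrArg (rs N h) (map_add (lcL ψ x) m m')).trans (map_add (rs N h) _ _)).symm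
  | single a r =>
    refine (congrArg (lcL ψ (rs F h x)) (Groth.Agent.ModFlat.freeObj_map_single (yoneda.obj X) h.op a r)).trans ?_
    refine (lcL_single ψ (rs F h x) (h ≫ a) _).trans ?_
    rw [lcL_single, map_val_smul, ← apL_res ψ h a (h ≫ a) rfl]

/-- The presheaf morphism given by a local morphism. -/
noncomputable def pOfLoc (ψ : (restr O X).obj F ⟶ (restr O X).obj N) :
    freeP X ⊗ (toPre O).obj F ⟶ (toPre O).obj N where
  app T := ModuleCat.ofHom (R := O.obj.obj T)
    (X := TensorProduct (O.obj.obj T) ((T.unop ⟶ X) →₀ O.obj.obj T) (sect F T.unop)) (Y := sect N T.unop)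
    (pOfLocApp ψ T.unop)
  naturality {T T'} h := ModuleCat.MonoidalCategory.tensor_ext (R := O.obj.obj T)
    fun (m : (T.unop ⟶ X) →₀ O.obj.obj T) (x : sect F T.unop) => pOfLocApp_res F ψ h.unop m x

/-- Transposition. -/
noncomputable def transp (φ : freeU O X ⟶ (sheafHom F).obj N) : tens₂ (freeU O X) F ⟶ N :=
  ((tensorBi O).flip.obj F).map φ ≫ ev F N

theorem transp_apply (φ : freeU O X ⟶ (sheafHom F).obj N) {T : C} (a : T ⟶ X) (x : sect F T) :
    appS (transp F φ) T (tmulS (gen a) x) = apL (toLoc F (freeUEquiv X _ φ)) a x := by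
  rw [transp, appS_comp, appS_flip_map, apL_toLoc]
  refine congrArg (appS (ev F N) T) (congrArg (fun m => tmulS m x) ?_)
  show appS φ T (gen a) = rs _ a (appS φ X (gen (𝟙 X)))
  rw [← appS_res]
  refine congrArg (appS φ T) ?_
  show _ = rs (freeU O X) a (((preAdj O).unit.app (freeP X)).app (op X) _)
  refine Eq.trans ?_ (PresheafOfModules.naturality_apply ((preAdj O).unit.app (freeP X)) a.op _)
  refine congrArg (((preAdj O).unit.app (freeP X)).app (op T)) ?_
  refine Eq.trans ?_ (Groth.Agent.ModFlat.freeObj_map_single (yoneda.obj X) a.op (𝟙 X) 1).symm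
  refine congr_arg₂ (fun b r => (Finsupp.single b r : (T ⟶ X) →₀ O.obj.obj (op T))) (Category.comp_id a).symm ?_
  exact (map_one (O.obj.map a.op).hom).symm

/-- Sections of the internal hom are local morphisms. -/
theorem toLoc_bijective : Function.Bijective (toLoc (X := X) (N := N) F) := by
  constructor
  · intro z z' h
    obtain ⟨φ, rfl⟩ := (freeUEquiv X _).surjective z
    obtain ⟨φ', rfl⟩ := (freeUEquiv X _).surjective z'
    refine congrArg _ (((sheafHomAdj F).homEquiv _ N).symm.injective ?_)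
    rw [Adjunction.homEquiv_counit, Adjunction.homEquiv_counit]
    show transp F φ = transp F φ'
    refine (preOf_bijective F).1 (freeP_tensor_ext F _ _ fun a x => ?_)
    rw [preOf_apply, preOf_apply, transp_apply, transp_apply, h]
  · intro ψ
    let p : freeP X ⊗ (toPre O).obj F ⟶ (toPre O).obj N := pOfLoc F ψ
    obtain ⟨u, hu⟩ := (preOf_bijective F).2 p
    refine ⟨freeUEquiv X _ ((sheafHomAdj F).homEquiv _ N u), hom_ext_apL fun {T} a x => ?_⟩
    rw [← transp_apply]
    have : transp F ((sheafHomAdj F).homEquiv _ N u) = u := by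
      show ((tensorBi O).flip.obj F).map _ ≫ _ = u
      rw [← Adjunction.homEquiv_counit, Equiv.symm_apply_apply]
    rw [this, ← preOf_apply, hu]
    exact (pOfLocApp_single ψ a 1 x).trans (one_smul (O.obj.obj (op T)) _)

end Groth.Agent.LocPres
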