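import Groth.Agent.LocPres.Hom
import Groth.Agent.LocPres.SheafHomSect

/-!
# Internal homs out of finitely presented modules commute with filtered colimits
-/

set_option autoImplicit false
set_option linter.style.haveILetI false
set_option linter.dupNamespace false

universe u

open CategoryTheory CategoryTheory.Limits Opposite ModSite

namespace Groth.Agent.LocPres

open Groth.Agent.ModFlat (rs map_val_smul map_val_comp)
open Groth.Agent.PullFlat (appS appS_res appS_comp apL resL apL_resL hom_ext_apL resL_resL resL_comp resL_map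
  resL_zero eq_of_locally eq_zero_of_locally mono_of_appS_injective)

variable {C : Type u} [SmallCategory C] {J : GrothendieckTopology C} {O : Sheaf J CommRingCat.{u}}

/-- A morphism of modules which is locally surjective on sections is an epimorphism. -/
theorem epi_of_locally_surjective {F G : Mod O} (φ : F ⟶ G)
    (h : ∀ (U : C) (z : sect G U), ∃ S ∈ J U, ∀ ⦃V : C⦄ (g : V ⟶ U), S g → ∃ x, appS φ V x = rs G g z) :
    Epi φ :=
  ⟨fun {H} u v huv => SheafOfModules.hom_ext (PresheafOfModules.hom_ext fun U =>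
    ModuleCat.hom_ext (LinearMap.ext fun z => by
      obtain ⟨S, hS, hS'⟩ := h U.unop z
      show appS u U.unop z = appS v U.unop z
      refine eq_of_locally H hS _ _ fun V g hg => ?_
      obtain ⟨x, hx⟩ := hS' g hg
      rw [← appS_res, ← appS_res, ← hx, ← appS_comp, ← appS_comp, huv]))⟩

variable (F : Mod O) [SheafOfModules.IsFinitePresentation (R := ringSh O) F]
  {Λ : Type u} [SmallCategory Λ] [IsFiltered Λ] {D : Λ ⥤ Mod O} {c : Cocone D} (hc : IsColimit c)

include hc in
/-- A local morphism killed in a filtered colimit is locally killed at a later stage. -/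
theorem hom_zero_stage {U : C} {l : Λ} (φ : (restr O U).obj F ⟶ (restr O U).obj (D.obj l))
    (hφ : φ ≫ (restr O U).map (c.ι.app l) = 0) : ∃ S ∈ J U, ∀ ⦃V : C⦄ (g : V ⟶ U), S g →
      ∃ (m : Λ) (f : l ⟶ m), resL g φ ≫ (restr O V).map (D.map f) = 0 := by
  obtain ⟨S, hS, hS'⟩ := exists_cover_locPres F U
  have key : ∀ ⦃V : C⦄ (g : V ⟶ U), S g → ∃ T ∈ J V, ∀ ⦃W : C⦄ (h : W ⟶ V), T h →
      ∃ (m : Λ) (f : l ⟶ m), resL (h ≫ g) φ ≫ (restr O W).map (D.map f) = 0 := fun V g hg => by
    obtain ⟨P⟩ := hS' g hg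
    obtain ⟨T, hT, hT'⟩ := P.hom_zero hc (resL g φ) (by
      rw [← resL_map g (c.ι.app l), ← resL_comp, hφ, resL_zero])
    refine ⟨T, hT, fun W h hh => ?_⟩
    rw [← resL_resL]
    exact hT' h hh
  choose T hT hT' using key
  refine ⟨Sieve.bind S.arrows (fun V g hg => T g hg), J.bind_covering hS (fun V g hg => hT g hg), ?_⟩
  rintro W g ⟨V, h, g', hg', hh, rfl⟩
  exact hT' g' hg' h hh

include hc in
/-- A local morphism into a filtered colimit locally factors through a stage. -/
theorem hom_lift_stage {U : C} (ψ : (restr O U).obj F ⟶ (restr O U).obj c.pt) :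
    ∃ S ∈ J U, ∀ ⦃V : C⦄ (g : V ⟶ U), S g →
      ∃ (l : Λ) (φ : (restr O V).obj F ⟶ (restr O V).obj (D.obj l)),
        φ ≫ (restr O V).map (c.ι.app l) = resL g ψ := by
  obtain ⟨S, hS, hS'⟩ := exists_cover_locPres F U
  have key : ∀ ⦃V : C⦄ (g : V ⟶ U), S g → ∃ T ∈ J V, ∀ ⦃W : C⦄ (h : W ⟶ V), T h →
      ∃ (l : Λ) (φ : (restr O W).obj F ⟶ (restr O W).obj (D.obj l)),
        φ ≫ (restr O W).map (c.ι.app l) = resL (h ≫ g) ψ := fun V g hg => by
    obtain ⟨P⟩ := hS' g hg
    obtain ⟨T, hT, hT'⟩ := P.hom_lift hc (resL g ψ)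
    refine ⟨T, hT, fun W h hh => ?_⟩
    rw [← resL_resL]
    exact hT' h hh
  choose T hT hT' using key
  refine ⟨Sieve.bind S.arrows (fun V g hg => T g hg), J.bind_covering hS (fun V g hg => hT g hg), ?_⟩
  rintro W g ⟨V, h, g', hg', hh, rfl⟩
  exact hT' g' hg' h hh

/-- Internal homs out of a finitely presented module preserve filtered colimits. -/
theorem preservesColimit_sheafHom [HasSheafHom F] (D : Λ ⥤ Mod O) : PreservesColimit D (sheafHom F) := by
  haveI : HasColimitsOfShape Λ (Mod O) := inferInstance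
  refine ⟨fun {c} hc => ?_⟩
  let c' := colimit.cocone (D ⋙ sheafHom F)
  have hc' : IsColimit c' := colimit.isColimit _
  let k := hc'.desc ((sheafHom F).mapCocone c)
  have hk : ∀ l, c'.ι.app l ≫ k = (sheafHom F).map (c.ι.app l) := fun l => hc'.fac _ l
  have hkS : ∀ l {V : C} (y : sect ((D ⋙ sheafHom F).obj l) V),
      appS k V (appS (c'.ι.app l) V y) = appS ((sheafHom F).map (c.ι.app l)) V y := fun l V y => by
    rw [← appS_comp, hk]
  haveI : Mono k := mono_of_appS_injective k fun U x hx => by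
    obtain ⟨S, hS, hS'⟩ := exists_stage hc' x
    refine eq_zero_of_locally _ hS x fun V g hg => ?_
    obtain ⟨l, y, hy⟩ := hS' g hg
    have h0 : toLoc F y ≫ (restr O V).map (c.ι.app l) = 0 := by
      rw [← toLoc_map, ← hkS, hy, appS_res, hx, map_zero]
      exact hom_ext_apL fun a z => by
        rw [apL_toLoc, map_zero]
        exact (congrArg (appS (ev F _) _) (show Groth.Agent.PullFlat.tmulS (0 : sect ((sheafHom F).obj c.pt) _) z = 0 from
          map_zero (AddMonoidHom.mk' (fun m => Groth.Agent.PullFlat.tmulS m z)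
            fun m m' => Groth.Agent.PullFlat.tmulS_add_left m m' z))).trans (map_zero (appS (ev F c.pt) _))
    obtain ⟨T, hT, hT'⟩ := hom_zero_stage F hc (toLoc F y) h0
    refine eq_zero_of_locally _ hT _ fun W h hh => ?_
    obtain ⟨m, f, hf⟩ := hT' h hh
    rw [← toLoc_res, ← toLoc_map] at hf
    have : appS ((sheafHom F).map (D.map f)) W (rs _ h y) = 0 := (toLoc_bijective F).1 (hf.trans
      (map_zero (AddMonoidHom.mk' (toLoc (X := W) (N := D.obj m) F) (toLoc_add F))).symm)
    rw [← hy, ← appS_res, ← c'.w f, appS_comp]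
    exact (congrArg (appS (c'.ι.app m) W) this).trans (map_zero _)
  haveI : Epi k := epi_of_locally_surjective k fun U z => by
    obtain ⟨S, hS, hS'⟩ := hom_lift_stage F hc (toLoc F z)
    refine ⟨S, hS, fun V g hg => ?_⟩
    obtain ⟨l, φ, hφ⟩ := hS' g hg
    obtain ⟨y, rfl⟩ := (toLoc_bijective F).2 φ
    refine ⟨appS (c'.ι.app l) V y, (hkS l y).trans ((toLoc_bijective F).1 ?_)⟩
    rw [toLoc_map, hφ]
    exact (toLoc_res F g z).symm
  haveI : IsIso k := isIso_of_mono_of_epi k
  exact ⟨hc'.ofPointIso (i := inferInstanceAs (IsIso k))⟩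

end Groth.Agent.LocPres
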