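import Groth.Agent.LocPres.Space
import Groth.Agent.LocPres.TensorGen
import Groth.Agent.PullFlat.Invertible

/-!
# Invertible modules are free of rank one near points with local stalks
-/

set_option autoImplicit false
set_option linter.style.haveILetI false
set_option linter.dupNamespace false

universe u

open CategoryTheory CategoryTheory.Limits Opposite ModSite TopologicalSpace
open scoped TensorProduct

attribute [local instance] Classical.propDecidable

namespace Groth.Agent.LocPres

open Groth.Agent.ModFlat (rs map_val_smul map_val_comp map_ring_comp germ_rs germRing_res)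
open Groth.Agent.PullFlat

variable {X : TopCat.{u}} {O : Sheaf (Opens.grothendieckTopology X) CommRingCat.{u}} {L N : Mod O}

/-- The pairing of an isomorphism with the unit. -/
noncomputable def pair (e : tens₂ L N ≅ ModSite.unit O) (U : Opens X) (m : sect L U) (n : sect N U) :
    O.obj.obj (op U) :=
  appS e.hom U (tmulS m n)

theorem pair_smul_left (e : tens₂ L N ≅ ModSite.unit O) (U : Opens X) (r : O.obj.obj (op U)) (m : sect L U)
    (n : sect N U) : pair e U (r • m) n = r * pair e U m n := by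
  show appS e.hom U (tmulS (r • m) n) = _
  rw [tmulS_smul_left, map_smul]
  rfl

theorem pair_smul_right (e : tens₂ L N ≅ ModSite.unit O) (U : Opens X) (r : O.obj.obj (op U)) (m : sect L U)
    (n : sect N U) : pair e U m (r • n) = r * pair e U m n := by
  show appS e.hom U (tmulS m (r • n)) = _
  rw [tmulS_smul_right, map_smul]
  rfl

theorem pair_res (e : tens₂ L N ≅ ModSite.unit O) {U V : Opens X} (g : V ⟶ U) (m : sect L U) (n : sect N U) :
    (O.obj.map g.op).hom (pair e U m n) = pair e V (rs L g m) (rs N g n) :=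
  ((congrArg (appS e.hom V) (tmulS_res g m n)).symm.trans (appS_res e.hom g (tmulS m n))).symm

/-- Near a point with local stalk an invertible module has a generator. -/
theorem exists_rank_one (hL : ((tensorBi O).obj L).IsEquivalence) (x : X)
    (hO : IsLocalRing (stalkRing (Opens.pointGrothendieckTopology x) O)) :
    ∃ (V : Opens X), x ∈ V ∧ ∃ l : sect L V,
      (∀ ⦃T : Opens X⦄ (a : T ⟶ V) (m : sect L T), ∃ r : O.obj.obj (op T), m = r • rs L a l) ∧
      ∀ ⦃T : Opens X⦄ (a : T ⟶ V) (r : O.obj.obj (op T)), r • rs L a l = 0 → r = 0 := by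
  obtain ⟨N, ⟨e⟩⟩ := exists_iso_unit hL
  let one : sect (ModSite.unit O) (⊤ : Opens X) := (1 : O.obj.obj (op (⊤ : Opens X)))
  obtain ⟨S, hS, hS'⟩ := exists_tens_repr (appS e.inv ⊤ one)
  obtain ⟨W, g, hg, hxW⟩ := hS x trivial
  obtain ⟨k, xs, ys, hxy⟩ := hS' g hg
  have hone : ∑ i, pair e W (xs i) (ys i) = 1 := by
    refine (map_sum (appS e.hom W) _ _).symm.trans ((congrArg (appS e.hom W) hxy).trans ?_)
    refine (appS_res e.hom g _).trans ?_
    refine (congrArg (rs (ModSite.unit O) g) ((appS_comp e.inv e.hom one).symm.trans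
      (congrArg (fun t : ModSite.unit O ⟶ ModSite.unit O => appS t ⊤ one) e.inv_hom_id))).trans ?_
    exact map_one (O.obj.map g.op).hom
  let p := Opens.pointGrothendieckTopology x
  obtain ⟨j, hj⟩ : ∃ j, IsUnit (germRing p W (ptIn hxW) (pair e W (xs j) (ys j))) := by
    by_contra hcon
    push_neg at hcon
    have h1 : germRing p W (ptIn hxW) (∑ i, pair e W (xs i) (ys i)) ∈ IsLocalRing.maximalIdeal (stalkRing p O) := by
      rw [← germA_apply, map_sum]
      exact Ideal.sum_mem _ fun i _ => (IsLocalRing.mem_maximalIdeal _).2 (hcon i)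
    rw [hone] at h1
    exact (IsLocalRing.mem_maximalIdeal _).1 h1
      (by
        show IsUnit ((p.toPresheafFiber W (ptIn hxW) O.obj).hom 1)
        rw [map_one]
        exact isUnit_one)
  obtain ⟨b, hb⟩ := hj.exists_right_inv
  obtain ⟨V₁, g₁, hxV₁, hs⟩ := exists_fun_nhd (O := O) hxW (fun _ : Fin 1 => b)
  obtain ⟨b₁, hb₁⟩ := hs 0
  obtain ⟨V, g₂, hxV, heq⟩ := exists_eqRing_nhd hxV₁
    (fun _ : Fin 1 => pair e V₁ (rs L g₁ (xs j)) (b₁ • rs N g₁ (ys j))) (fun _ => 1) fun _ => by
      rw [pair_smul_right]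
      refine (map_mul (p.toPresheafFiber V₁ (ptIn hxV₁) O.obj).hom _ _).trans ?_
      refine Eq.trans ?_ ((mul_comm b _).trans (hb.trans (map_one (p.toPresheafFiber V₁ (ptIn hxV₁) O.obj).hom).symm))
      refine congrArg₂ (fun (r r' : stalkRing p O) => r * r') hb₁ ?_
      rw [← pair_res e g₁]
      exact germRing_res (p := p) (x := ptIn hxW) (g := g₁) (v := ptIn hxV₁) rfl _
  let l : sect L V := rs L g₂ (rs L g₁ (xs j))
  let n : sect N V := rs N g₂ (b₁ • rs N g₁ (ys j))
  have hln : ∀ ⦃T : Opens X⦄ (a : T ⟶ V), pair e T (rs L a l) (rs N a n) = 1 := fun T a => by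
    rw [← pair_res e a]
    refine (congrArg (O.obj.map a.op).hom ((pair_res e g₂ _ _).symm.trans ((heq 0).trans (map_one _)))).trans ?_
    exact map_one _
  refine ⟨V, hxV, l, fun T a m => ⟨pair e T m (rs N a n), ?_⟩, fun T a r hr => ?_⟩
  · let m' := m - pair e T m (rs N a n) • rs L a l
    suffices h : m' = 0 from sub_eq_zero.1 h
    have h0 : pair e T m' (rs N a n) = 0 := by
      show appS e.hom T (tmulL T m' (rs N a n)) = 0
      rw [map_sub, map_smul, LinearMap.sub_apply, LinearMap.smul_apply, map_sub, map_smul]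
      show pair e T m (rs N a n) - pair e T m (rs N a n) * pair e T (rs L a l) (rs N a n) = 0
      rw [hln a, mul_one, sub_self]
    haveI : Mono e.hom := inferInstance
    have h1 : tmulS m' (rs N a n) = 0 := appS_injective e.hom T (h0.trans (map_zero _).symm)
    obtain ⟨S₁, hS₁, hS₁'⟩ := exists_tens_zero (fun _ : Fin 1 => m') (fun _ => rs N a n)
      ((Fin.sum_univ_one _).trans h1)
    refine eq_zero_of_locally L hS₁ m' fun T' a' ha' => ?_
    let φ : sect L T' →ₗ[O.obj.obj (op T')] sect N T' →ₗ[O.obj.obj (op T')] sect L T' :=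
      LinearMap.mk₂ _ (fun m₁ n₁ => pair e T' (rs L (a' ≫ a) l) n₁ • m₁)
        (fun m₁ m₂ n₁ => smul_add _ _ _)
        (fun r m₁ n₁ => smul_comm _ _ _)
        (fun m₁ n₁ n₂ => by
          rw [show pair e T' (rs L (a' ≫ a) l) (n₁ + n₂) = pair e T' (rs L (a' ≫ a) l) n₁ + pair e T' (rs L (a' ≫ a) l) n₂ from
            (congrArg (appS e.hom T') (tmulS_add_right _ _ _)).trans (map_add _ _ _), add_smul])
        (fun r m₁ n₁ => by rw [pair_smul_right, mul_smul])
    have h2 := congrArg (TensorProduct.lift φ) (hS₁' a' ha')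
    rw [Fin.sum_univ_one, map_zero, TensorProduct.lift.tmul] at h2
    refine Eq.trans ?_ h2
    show rs L a' m' = pair e T' (rs L (a' ≫ a) l) (rs N a' (rs N a n)) • rs L a' m'
    refine Eq.trans (one_smul (O.obj.obj (op T')) _).symm (congrArg (fun c : O.obj.obj (op T') => c • rs L a' m') ?_)
    exact (hln (a' ≫ a)).symm.trans (congrArg (pair e T' (rs L (a' ≫ a) l)) (map_val_comp a' a n))
  · have h := congrArg (fun z => pair e T z (rs N a n)) hr
    simp only [pair_smul_left, hln a, mul_one] at h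
    refine h.trans ?_
    exact (congrArg (appS e.hom T) (tmulS_zero_left _)).trans (map_zero _)

/-- The germ of a generator is a basis of the stalk. -/
theorem germ_bijective {x : X} {V : Opens X} (hxV : x ∈ V) {l : sect L V}
    (hgen : ∀ ⦃T : Opens X⦄ (a : T ⟶ V) (m : sect L T), ∃ r : O.obj.obj (op T), m = r • rs L a l)
    (hind : ∀ ⦃T : Opens X⦄ (a : T ⟶ V) (r : O.obj.obj (op T)), r • rs L a l = 0 → r = 0) :
    Function.Bijective (fun a : stalkRing (Opens.pointGrothendieckTopology x) O =>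
      a • germ (Opens.pointGrothendieckTopology x) L V (ptIn hxV) l) := by
  let p := Opens.pointGrothendieckTopology x
  let z : stalkMod p L := germ p L V (ptIn hxV) l
  refine ⟨fun a a' h => sub_eq_zero.1 ?_, fun m => ?_⟩
  · obtain ⟨T, g, v, -, r, hr⟩ := Groth.Agent.ModFlat.exists_germRing (ptIn hxV) (a - a')
    have hx : x ∈ T := mem_of_fiber v
    have h0 : germ p L T v (r • rs L g l) = germ p L T v 0 := by
      rw [germ_smul, hr, germ_rs (p := p) (x := ptIn hxV) (g := g) (v := v) rfl]
      refine Eq.trans ?_ (map_zero (p.toPresheafFiber T v (toAb L).obj).hom).symm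
      show (a - a') • z = 0
      rw [sub_smul, sub_eq_zero]
      exact h
    obtain ⟨T', g', hxT', hT'⟩ := exists_eq_nhd hx (fun _ : Fin 1 => r • rs L g l) (fun _ => 0) fun _ => h0
    have h3 := hT' 0
    simp only [map_zero, map_val_smul, ← map_val_comp] at h3
    refine hr.symm.trans ((germRing_res (p := p) (x := v) (g := g') (v := ptIn hxT') rfl r).symm.trans ?_)
    rw [hind (g' ≫ g) _ h3]
    exact map_zero (p.toPresheafFiber T' (ptIn hxT') O.obj).hom
  · obtain ⟨T, g, v, -, m₀, hm⟩ := Groth.Agent.ModFlat.exists_germ (ptIn hxV) m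
    obtain ⟨r, hr⟩ := hgen g m₀
    refine ⟨germRing p T v r, ?_⟩
    show germRing p T v r • germ p L V (ptIn hxV) l = m
    rw [← hm, hr, germ_smul, germ_rs (p := p) (x := ptIn hxV) (g := g) (v := v) rfl]

/-- Membership in `m_x L_x`, in a generator. -/
theorem notMem_smul_top_iff {x : X} (hO : IsLocalRing (stalkRing (Opens.pointGrothendieckTopology x) O))
    {z : stalkAb (Opens.pointGrothendieckTopology x) L}
    (hz : Function.Bijective (fun a : stalkRing (Opens.pointGrothendieckTopology x) O => a • z))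
    (u : stalkRing (Opens.pointGrothendieckTopology x) O) :
    u • z ∉ (@IsLocalRing.maximalIdeal (stalkRing (Opens.pointGrothendieckTopology x) O) _ hO) •
      (⊤ : Submodule (stalkRing (Opens.pointGrothendieckTopology x) O)
        (stalkAb (Opens.pointGrothendieckTopology x) L)) ↔ IsUnit u := by
  let p := Opens.pointGrothendieckTopology x
  let I := IsLocalRing.maximalIdeal (stalkRing p O)
  have h : ∀ y ∈ I • (⊤ : Submodule (stalkRing p O) (stalkAb p L)), ∃ r ∈ I, y = r • z := by
    intro y hy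
    refine Submodule.smul_induction_on hy (fun r hr m _ => ?_) fun y₁ y₂ ⟨r₁, h₁, e₁⟩ ⟨r₂, h₂, e₂⟩ =>
      ⟨r₁ + r₂, I.add_mem h₁ h₂, by rw [e₁, e₂, add_smul]⟩
    obtain ⟨b, rfl⟩ := hz.2 m
    exact ⟨r * b, I.mul_mem_right b hr, (mul_smul r b z).symm⟩
  constructor
  · intro hu
    by_contra hn
    exact hu (Submodule.smul_mem_smul ((IsLocalRing.mem_maximalIdeal u).2 hn) trivial)
  · intro hu hmem
    obtain ⟨r, hr, hrz⟩ := h _ hmem
    obtain rfl := hz.1 hrz
    exact (IsLocalRing.mem_maximalIdeal u).1 hr hu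

/-- The locus where a section generates is open, and there it gives a basis. -/
theorem generating_locus (hO : ∀ x : X, IsLocalRing (stalkRing (Opens.pointGrothendieckTopology x) O))
    (hL : ((tensorBi O).obj L).IsEquivalence) (U : Opens X) (s : sect L U) :
    IsOpen {x : X | ∃ hx : x ∈ U, germ (Opens.pointGrothendieckTopology x) L U ⟨⟨hx⟩⟩ s ∉
        (@IsLocalRing.maximalIdeal (stalkRing (Opens.pointGrothendieckTopology x) O) _ (hO x)) •
          (⊤ : Submodule (stalkRing (Opens.pointGrothendieckTopology x) O)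
            (stalkAb (Opens.pointGrothendieckTopology x) L))} ∧
      ∀ (x : X) (hx : x ∈ U), germ (Opens.pointGrothendieckTopology x) L U ⟨⟨hx⟩⟩ s ∉
          (@IsLocalRing.maximalIdeal (stalkRing (Opens.pointGrothendieckTopology x) O) _ (hO x)) •
            (⊤ : Submodule (stalkRing (Opens.pointGrothendieckTopology x) O)
              (stalkAb (Opens.pointGrothendieckTopology x) L)) →
        Function.Bijective (fun a : stalkRing (Opens.pointGrothendieckTopology x) O =>
          a • germ (Opens.pointGrothendieckTopology x) L U ⟨⟨hx⟩⟩ s) := by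
  have key : ∀ x ∈ U, ∃ (W : Opens X) (_ : x ∈ W) (_ : W ⟶ U) (r : O.obj.obj (op W)),
      ∀ y (hy : y ∈ W) (hyU : y ∈ U), ∃ z,
        Function.Bijective (fun a : stalkRing (Opens.pointGrothendieckTopology y) O => a • z) ∧
        germ (Opens.pointGrothendieckTopology y) L U ⟨⟨hyU⟩⟩ s =
          germRing (Opens.pointGrothendieckTopology y) W (ptIn hy) r • z := fun x hx => by
    obtain ⟨V, hxV, l, hgen, hind⟩ := exists_rank_one hL x (hO x)
    let a : U ⊓ V ⟶ V := homOfLE inf_le_right
    let g : U ⊓ V ⟶ U := homOfLE inf_le_left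
    obtain ⟨r, hr⟩ := hgen a (rs L g s)
    refine ⟨U ⊓ V, ⟨hx, hxV⟩, g, r, fun y hy hyU => ⟨_, germ_bijective hy.2 hgen hind, ?_⟩⟩
    rw [← germ_rs (p := Opens.pointGrothendieckTopology y) (x := ptIn hy.2) (g := a) (v := ptIn hy) rfl l,
      ← germ_smul, ← hr]
    exact (germ_rs (p := Opens.pointGrothendieckTopology y) (x := ptIn hyU) (g := g) (v := ptIn hy) rfl s).symm
  refine ⟨isOpen_iff_forall_mem_open.2 fun x ⟨hx, hxs⟩ => ?_, fun x hx hxs => ?_⟩
  · obtain ⟨W, hxW, g, r, hW⟩ := key x hx
    obtain ⟨z, hz, hsz⟩ := hW x hxW hx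
    rw [hsz, notMem_smul_top_iff (hO x) hz] at hxs
    obtain ⟨b, hb⟩ := hxs.exists_right_inv
    let p := Opens.pointGrothendieckTopology x
    obtain ⟨W₁, g₁, hxW₁, hs⟩ := exists_fun_nhd (O := O) hxW (fun _ : Fin 1 => b)
    obtain ⟨b₁, hb₁⟩ := hs 0
    obtain ⟨W₂, g₂, hxW₂, heq⟩ := exists_eqRing_nhd hxW₁ (fun _ : Fin 1 => (O.obj.map g₁.op).hom r * b₁)
      (fun _ => 1) fun _ => by
        refine (map_mul (p.toPresheafFiber W₁ (ptIn hxW₁) O.obj).hom _ _).trans ?_
        refine Eq.trans ?_ (hb.trans (map_one (p.toPresheafFiber W₁ (ptIn hxW₁) O.obj).hom).symm)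
        exact congrArg₂ (fun (c c' : stalkRing p O) => c * c')
          (germRing_res (p := p) (x := ptIn hxW) (g := g₁) (v := ptIn hxW₁) rfl r) hb₁
    refine ⟨W₂, fun y hy => ?_, W₂.isOpen, hxW₂⟩
    have hyW : y ∈ W := g₁.le (g₂.le hy)
    obtain ⟨z', hz', hsz'⟩ := hW y hyW (g.le hyW)
    refine ⟨g.le hyW, ?_⟩
    rw [hsz', notMem_smul_top_iff (hO y) hz']
    let q := Opens.pointGrothendieckTopology y
    refine IsUnit.of_mul_eq_one (germRing q W₁ (ptIn (g₂.le hy)) b₁) ?_
    rw [← germRing_res (p := q) (x := ptIn hyW) (g := g₁) (v := ptIn (g₂.le hy)) rfl r]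
    refine (map_mul (q.toPresheafFiber W₁ (ptIn (g₂.le hy)) O.obj).hom _ _).symm.trans ?_
    refine (germRing_res (p := q) (x := ptIn (g₂.le hy)) (g := g₂) (v := ptIn hy) rfl _).symm.trans ?_
    refine (congrArg (germRing q W₂ (ptIn hy)) ((heq 0).trans (map_one _))).trans ?_
    exact map_one (q.toPresheafFiber W₂ (ptIn hy) O.obj).hom
  · obtain ⟨W, hxW, g, r, hW⟩ := key x hx
    obtain ⟨z, hz, hsz⟩ := hW x hxW hx
    rw [hsz, notMem_smul_top_iff (hO x) hz] at hxs
    rw [hsz]
    obtain ⟨u, hu⟩ := hxs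
    rw [← hu]
    simp only [smul_smul]
    exact hz.comp u.mulRight.bijective

end Groth.Agent.LocPres
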