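import Groth.Agent.LocPres.Ops
import Groth.Agent.PullFlat.Crit

/-!
# Generators and relations of an inverse image
-/

set_option autoImplicit false
set_option linter.style.haveILetI false
set_option linter.dupNamespace false

universe u

open CategoryTheory CategoryTheory.Limits Opposite ModSite

namespace Groth.Agent.LocPres

open Groth.Agent.ModFlat (rs map_val_smul map_val_comp map_ring_comp)
open Groth.Agent.PullFlat

variable {C D : Type u} [SmallCategory C] [SmallCategory D] {J : GrothendieckTopology C}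
  {K : GrothendieckTopology D} {O_C : Sheaf J CommRingCat.{u}} {O_D : Sheaf K CommRingCat.{u}}
  (f : RMor O_C O_D) {M : Mod O_D} {X : D} {I : Type u}

/-- Pulled back coefficient vectors. -/
noncomputable def plV {W : C} {V : D} (b : W ⟶ f.fn.obj V) (c : I →₀ O_D.obj.obj (op V)) :
    I →₀ O_C.obj.obj (op W) :=
  c.mapRange (pl f b) (map_zero _)

theorem plV_res {W W' : C} (g : W' ⟶ W) {V : D} (b : W ⟶ f.fn.obj V) (c : I →₀ O_D.obj.obj (op V)) :
    (plV f b c).mapRange (O_C.obj.map g.op).hom (map_zero _) = plV f (g ≫ b) c :=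
  Finsupp.ext fun i => by simp [plV, pl_res]

theorem plV_map {W : C} {V V' : D} (b : W ⟶ f.fn.obj V') (q : V' ⟶ V) (c : I →₀ O_D.obj.obj (op V)) :
    plV f b (c.mapRange (O_D.obj.map q.op).hom (map_zero _)) = plV f (b ≫ f.fn.map q) c :=
  Finsupp.ext fun i => by simp [plV, pl_map]

theorem genVal_combS (s : I → sect M X) {W : C} {V : D} (b : W ⟶ f.fn.obj V) (q : V ⟶ X)
    (c : I →₀ O_D.obj.obj (op V)) :
    genVal f M ⟨V, b, combS s q c⟩ =
      combS (fun i => etaS f M X (s i)) (b ≫ f.fn.map q) (plV f b c) := by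
  induction c using Finsupp.induction_linear with
  | zero =>
    rw [map_zero, plV, Finsupp.mapRange_zero, map_zero]
    exact (congrArg (rs (f.pull.obj M) b) (map_zero ((f.adj.unit.app M).val.app (op V)).hom)).trans (map_zero _)
  | add c c' hc hc' =>
    rw [map_add, plV, Finsupp.mapRange_add (map_add _), map_add, ← plV, ← plV, ← hc, ← hc']
    show rs (f.pull.obj M) b (etaS f M V (_ + _)) = _
    rw [etaS_add, map_add]
    rfl
  | single i r =>
    rw [combS_single, plV, Finsupp.mapRange_single, combS_single]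
    show rs (f.pull.obj M) b (etaS f M V _) = _
    rw [etaS_smul, map_val_smul, etaS_map, ← map_val_comp]
    rfl

/-- Locally, a finite family of maps to objects `f V` factors through one of them. -/
theorem exists_common_finite {ι : Type*} [Finite ι] {W : C} (V : ι → D) (a : ∀ i, W ⟶ f.fn.obj (V i)) :
    ∃ S ∈ J W, ∀ ⦃W' : C⦄ (g : W' ⟶ W), S g → ∃ (V' : D) (b : W' ⟶ f.fn.obj V') (q : ∀ i, V' ⟶ V i),
      ∀ i, g ≫ a i = b ≫ f.fn.map (q i) := by
  obtain ⟨n, ⟨e⟩⟩ := Finite.exists_equiv_fin ι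
  obtain ⟨S, hS, hS'⟩ := exists_common f (fun j => V (e.symm j)) (fun j => a (e.symm j))
  refine ⟨S, hS, fun W' g hg => ?_⟩
  obtain ⟨V', b, q, hq⟩ := hS' g hg
  refine ⟨V', b, fun i => q (e i) ≫ eqToHom (congrArg V (e.symm_apply_apply i)), fun i => ?_⟩
  have : ∀ (j : ι) (h : j = i), a i = a j ≫ f.fn.map (eqToHom (congrArg V h)) := by
    intro j h; subst h; simp
  rw [this _ (e.symm_apply_apply i), reassoc_of% hq (e i), f.fn.map_comp]

/-- Finitely many local properties hold on one cover. -/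
theorem exists_cover_finite {U : D} {ι : Type*} [Finite ι] (P : ι → ∀ ⦃V : D⦄, (V ⟶ U) → Prop)
    (h : ∀ i, ∃ S ∈ K U, ∀ ⦃V : D⦄ (g : V ⟶ U), S g → P i g) :
    ∃ S ∈ K U, ∀ ⦃V : D⦄ (g : V ⟶ U), S g → ∀ i, P i g := by
  obtain ⟨n, ⟨e⟩⟩ := Finite.exists_equiv_fin ι
  obtain ⟨S, hS, hS'⟩ := exists_cover_forall (J := K) (fun j => P (e.symm j)) (fun j => h _)
  exact ⟨S, hS, fun V g hg i => by simpa using hS' g hg (e i)⟩

/-- Generators pull back to generators. -/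
theorem isGen_pull {s : I → sect M X} (hs : IsGen s) : IsGen (fun i => etaS f M X (s i)) := by
  intro T a x
  obtain ⟨S, hS, hS'⟩ := exists_common_repr (fun _ : Fin 1 => x)
  refine exists_cover_bind _ hS fun T₁ g hg => ?_
  obtain ⟨V', b, k, m, d, hd⟩ := hS' g hg
  obtain ⟨S₁, hS₁, hS₁'⟩ := (covFlat_rmor f).pair b (g ≫ a)
  refine exists_cover_bind _ hS₁ fun T₂ g₂ hg₂ => ?_
  obtain ⟨V'', q₁, q₂, b', hb₁, hb₂⟩ := hS₁' g₂ hg₂
  obtain ⟨R, hR, hR'⟩ := exists_cover_forall (J := K)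
    (fun (l : Fin k) (Z : D) (z : Z ⟶ V'') => ∃ c, combS s (z ≫ q₂) c = rs M z (rs M q₁ (m l)))
    (fun l => hs q₂ (rs M q₁ (m l)))
  obtain ⟨S₂, hS₂, hS₂'⟩ := (covFlat_rmor f).cover R hR b'
  refine ⟨S₂, hS₂, fun T₃ g₃ hg₃ => ?_⟩
  obtain ⟨V₃, r, b₃, hr, hb₃⟩ := hS₂' g₃ hg₃
  choose cf hcf using hR' r hr
  have e1 : g₃ ≫ g₂ ≫ b = b₃ ≫ f.fn.map (r ≫ q₁) := by
    rw [hb₁, reassoc_of% hb₃, f.fn.map_comp]
  have e2 : ((g₃ ≫ g₂) ≫ g) ≫ a = b₃ ≫ f.fn.map (r ≫ q₂) := by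
    rw [Category.assoc, Category.assoc, hb₂, reassoc_of% hb₃, f.fn.map_comp]
  refine ⟨∑ l, (O_C.obj.map (g₃ ≫ g₂).op).hom (d 0 l) • plV f b₃ (cf l), ?_⟩
  rw [map_sum, map_val_comp (g₃ ≫ g₂) g, hd 0, map_sum]
  refine Finset.sum_congr rfl fun l _ => ?_
  rw [map_smul, map_val_smul, ← genVal_res]
  refine congrArg (_ • ·) ?_
  rw [e2, ← genVal_combS, hcf l, ← map_val_comp, ← genVal_map, ← e1, ← Category.assoc]
  rfl

/-- Vanishing combinations of pulled back sections come locally from vanishing combinations. -/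
theorem exists_relation {s : I → sect M X} (hs : IsGen s) {T : C} (a : T ⟶ f.fn.obj X)
    (c : I →₀ O_C.obj.obj (op T)) (hc : combS (fun i => etaS f M X (s i)) a c = 0) :
    ∃ S ∈ J T, ∀ ⦃T' : C⦄ (g : T' ⟶ T), S g → ∃ (V : D) (q : V ⟶ X) (b : T' ⟶ f.fn.obj V) (N : ℕ)
      (β : Fin N → I →₀ O_D.obj.obj (op V)) (e : Fin N → O_C.obj.obj (op T')),
      g ≫ a = b ≫ f.fn.map q ∧ (∀ l, combS s q (β l) = 0) ∧
      c.mapRange (O_C.obj.map g.op).hom (map_zero _) = ∑ l, e l • plV f b (β l) := by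
  classical
  obtain ⟨n, ⟨ι⟩⟩ := Finite.exists_equiv_fin c.support
  let G₀ : Fin n → Gen f M T := fun i => ⟨X, a, s (ι.symm i).1⟩
  let c₀ : Fin n → O_C.obj.obj (op T) := fun i => c (ι.symm i).1
  have hsum : ∀ {P : Type u} [AddCommMonoid P] (F : I → P), ∑ i ∈ c.support, F i = ∑ i, F (ι.symm i).1 :=
    fun F => by rw [← Finset.sum_coe_sort c.support F]; exact (Fintype.sum_equiv ι.symm _ _ fun _ => rfl).symm
  have h0 : ∑ i, c₀ i • genVal f M (G₀ i) = 0 := by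
    rw [← hc, combS, Finsupp.linearCombination_apply, Finsupp.sum, hsum]
    rfl
  obtain ⟨S, hS, hS'⟩ := exists_lnull_of_eq_zero G₀ c₀ h0
  refine exists_cover_bind _ hS fun T₁ g₁ hg₁ => ?_
  obtain ⟨n', G', c', hcomb, hN⟩ := hS' g₁ hg₁
  obtain ⟨S₁, hS₁, hS₁'⟩ := hN
  refine exists_cover_bind _ hS₁ fun T₂ g₂ hg₂ => ?_
  obtain ⟨V', a', k, y, A, hA, hA0⟩ := hS₁' g₂ hg₂
  choose qA hqA hyA using hA
  let G2 : Fin n' → Gen f M T₂ := fun l => (G' l).res g₂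
  let G02 : Fin n → Gen f M T₂ := fun i => (G₀ i).res (g₂ ≫ g₁)
  let U : Finset (Gen f M T₂) := Finset.univ.image G2 ∪ Finset.univ.image G02
  have hU2 : ∀ l, G2 l ∈ U := fun l => Finset.mem_union_left _ (Finset.mem_image_of_mem _ (Finset.mem_univ _))
  have hU0 : ∀ i, G02 i ∈ U := fun i => Finset.mem_union_right _ (Finset.mem_image_of_mem _ (Finset.mem_univ _))
  obtain ⟨S₂, hS₂, hS₂'⟩ := exists_common_finite f (fun u : U => u.1.1) (fun u => u.1.2.1)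
  refine exists_cover_bind _ hS₂ fun T₃ g₃ hg₃ => ?_
  obtain ⟨V₀, b₀, q₀, hq₀⟩ := hS₂' g₃ hg₃
  obtain ⟨S₃, hS₃, hS₃'⟩ := (covFlat_rmor f).pair b₀ (g₃ ≫ a')
  refine exists_cover_bind _ hS₃ fun T₄ g₄ hg₄ => ?_
  obtain ⟨V₁, u₀, u', b₁, hb₀, hb'⟩ := hS₃' g₄ hg₄
  obtain ⟨S₄, hS₄, hS₄'⟩ := (covFlat_rmor f).pair b₁ (g₄ ≫ g₃ ≫ g₂ ≫ g₁ ≫ a)
  refine exists_cover_bind _ hS₄ fun T₅ g₅ hg₅ => ?_
  obtain ⟨V₂, v, p, b₂, hv, hp⟩ := hS₄' g₅ hg₅
  let g35 := g₅ ≫ g₄ ≫ g₃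
  let Q : ∀ u : U, V₂ ⟶ u.1.1 := fun u => v ≫ u₀ ≫ q₀ u
  have hqu : ∀ u : U, g35 ≫ u.1.2.1 = b₂ ≫ f.fn.map (Q u) := fun u => by
    simp only [g35, Q, Category.assoc, hq₀ u, reassoc_of% hb₀, reassoc_of% hv, Functor.map_comp]
  have hQA : ∀ l, b₂ ≫ f.fn.map (Q ⟨G2 l, hU2 l⟩) = b₂ ≫ f.fn.map (v ≫ u' ≫ qA l) := fun l => by
    rw [← hqu ⟨G2 l, hU2 l⟩]
    show g35 ≫ ((G' l).res g₂).2.1 = _
    rw [hqA l]
    simp only [g35, Category.assoc, reassoc_of% hb', reassoc_of% hv, Functor.map_comp]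
  have hQ0 : ∀ i, b₂ ≫ f.fn.map (Q ⟨G02 i, hU0 i⟩) = b₂ ≫ f.fn.map p := fun i => by
    rw [← hqu ⟨G02 i, hU0 i⟩, ← hp]
    show g35 ≫ (g₂ ≫ g₁) ≫ a = _
    simp only [g35, Category.assoc]
  obtain ⟨S₅, hS₅, hS₅'⟩ := exists_equalize f (fun l => (G2 l).1) (fun l => Q ⟨G2 l, hU2 l⟩) (fun l => v ≫ u' ≫ qA l) b₂ hQA
  refine exists_cover_bind _ hS₅ fun T₆ g₆ hg₆ => ?_
  obtain ⟨V₃, e₁, b₃, he₁, hb₃⟩ := hS₅' g₆ hg₆
  obtain ⟨S₆, hS₆, hS₆'⟩ := exists_equalize f (fun _ : Fin n => X) (fun i => e₁ ≫ Q ⟨G02 i, hU0 i⟩) (fun _ => e₁ ≫ p) b₃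
    (fun i => by
      rw [f.fn.map_comp, f.fn.map_comp, ← reassoc_of% hb₃, ← reassoc_of% hb₃]
      exact congrArg (g₆ ≫ ·) (hQ0 i))
  refine exists_cover_bind _ hS₆ fun T₇ g₇ hg₇ => ?_
  obtain ⟨V₄, e₂, b₄, he₂, hb₄⟩ := hS₆' g₇ hg₇
  let q₄ : V₄ ⟶ X := e₂ ≫ e₁ ≫ p
  obtain ⟨R, hR, hR'⟩ := exists_cover_finite (K := K)
    (fun (j : Fin k ⊕ U) (Z : D) (z : Z ⟶ V₄) => ∃ α, combS s (z ≫ q₄) α =
      rs M z (Sum.elim (fun j => rs M (e₂ ≫ e₁ ≫ v ≫ u') (y j))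
        (fun w : U => rs M (e₂ ≫ e₁ ≫ Q w) w.1.2.2) j))
    (fun j => hs q₄ _)
  obtain ⟨S₇, hS₇, hS₇'⟩ := (covFlat_rmor f).cover R hR b₄
  refine ⟨S₇, hS₇, fun T₈ g₈ hg₈ => ?_⟩
  obtain ⟨V, r, b, hr, hb⟩ := hS₇' g₈ hg₈
  choose α hα using hR' r hr
  let β : Fin k → I →₀ O_D.obj.obj (op V) := fun j => α (Sum.inl j)
  let γ : U → I →₀ O_D.obj.obj (op V) := fun u => α (Sum.inr u)
  have hβ : ∀ j, combS s (r ≫ q₄) (β j) = rs M (r ≫ e₂ ≫ e₁ ≫ v ≫ u') (y j) := fun j => by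
    rw [hα, Sum.elim_inl, ← map_val_comp]
  have hγ : ∀ u, combS s (r ≫ q₄) (γ u) = rs M (r ≫ e₂ ≫ e₁ ≫ Q u) u.1.2.2 := fun u => by
    rw [hα, Sum.elim_inr, ← map_val_comp]
  let rA : Fin n' → Fin k → O_D.obj.obj (op V) := fun l j => (O_D.obj.map (r ≫ e₂ ≫ e₁ ≫ v ≫ u').op).hom (A l j)
  let one : Fin n → I →₀ O_D.obj.obj (op V) := fun i => Finsupp.single (ι.symm i).1 1
  let rel : Fin (n' + n) → I →₀ O_D.obj.obj (op V) :=
    Fin.append (fun l => γ ⟨G2 l, hU2 l⟩ - ∑ j, rA l j • β j) (fun i => γ ⟨G02 i, hU0 i⟩ - one i)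
  let h := g₈ ≫ g₇ ≫ g₆ ≫ g₅ ≫ g₄ ≫ g₃
  have hba : (h ≫ g₂ ≫ g₁) ≫ a = b ≫ f.fn.map (r ≫ q₄) := by
    simp only [h, q₄, Category.assoc, hp, reassoc_of% hb₃, reassoc_of% hb₄, reassoc_of% hb, Functor.map_comp]
  let cl : Fin n' → O_C.obj.obj (op T₈) := fun l => (O_C.obj.map (h ≫ g₂).op).hom (c' l)
  let c0 : Fin n → O_C.obj.obj (op T₈) := fun i => (O_C.obj.map (h ≫ g₂ ≫ g₁).op).hom (c₀ i)
  refine ⟨V, r ≫ q₄, b, n' + n, rel, Fin.append cl (fun i => - c0 i), by simpa [h, Category.assoc] using hba, fun l => ?_, ?_⟩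
  · refine Fin.addCases (fun l => ?_) (fun i => ?_) l
    · simp only [rel, Fin.append_left]
      rw [map_sub, map_sum, hγ, sub_eq_zero]
      show rs M _ ((G' l).res g₂).2.2 = _
      rw [he₁ l |> fun hh => show r ≫ e₂ ≫ e₁ ≫ Q ⟨G2 l, hU2 l⟩ = (r ≫ e₂ ≫ e₁ ≫ v ≫ u') ≫ qA l by
        simp only [Category.assoc, hh], map_val_comp, hyA l, map_sum]
      exact Finset.sum_congr rfl fun j _ =>
        (map_val_smul _ _ _).trans ((map_smul (combS s (r ≫ q₄)) _ _).trans (congrArg (rA l j • ·) (hβ j))).symm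
    · simp only [rel, Fin.append_right, one]
      rw [map_sub, hγ, combS_single, one_smul, sub_eq_zero]
      refine congrArg (fun z => rs M z (s (ι.symm i).1)) ?_
      simp only [q₄, Category.assoc] at *
      exact congrArg (r ≫ ·) (he₂ i)
  · rw [Fin.sum_univ_add]
    simp only [rel, Fin.append_left, Fin.append_right]
    have hrA : ∀ l j, pl f b (rA l j) = (O_C.obj.map h.op).hom (pl f a' (A l j)) := fun l j => by
      rw [pl_map, pl_res]
      refine congrArg (fun z => pl f z (A l j)) ?_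
      simp only [h, Category.assoc, hb', reassoc_of% hv, reassoc_of% hb₃, reassoc_of% hb₄, reassoc_of% hb, Functor.map_comp]
    have hAsum : ∑ l, cl l • plV f b (∑ j, rA l j • β j) = 0 := by
      refine Finsupp.ext fun i => ?_
      simp only [plV, Finsupp.finsetSum_apply, Finsupp.smul_apply, Finsupp.mapRange_apply, smul_eq_mul, map_sum,
        map_mul, Finset.mul_sum, Finsupp.coe_zero, Pi.zero_apply]
      rw [Finset.sum_comm]
      refine Finset.sum_eq_zero fun j _ => ?_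
      simp only [← mul_assoc, ← Finset.sum_mul]
      refine Eq.trans (congrArg (· * pl f b (β j i)) ?_) (zero_mul _)
      refine Eq.trans ?_ ((congrArg (O_C.obj.map h.op).hom (hA0 j)).trans (map_zero _))
      rw [map_sum]
      exact Finset.sum_congr rfl fun l _ => by rw [map_mul, hrA, ← map_ring_comp]
    have hone : ∑ i, c0 i • plV f b (one i) = c.mapRange (O_C.obj.map (h ≫ g₂ ≫ g₁).op).hom (map_zero _) := by
      simp only [plV, one, Finsupp.mapRange_single, map_one, Finsupp.smul_single, smul_eq_mul, mul_one, c0, c₀]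
      rw [← hsum (fun i => Finsupp.single i ((O_C.obj.map (h ≫ g₂ ≫ g₁).op).hom (c i)))]
      refine Finsupp.ext fun j => ?_
      rw [Finsupp.finsetSum_apply, Finsupp.mapRange_apply]
      simp only [Finsupp.single_apply, Finset.sum_ite_eq']
      split_ifs with hj
      · rfl
      · rw [Finsupp.notMem_support_iff.1 hj, map_zero]
    let Φ : Gen f M T₂ → I →₀ O_C.obj.obj (op T₈) := fun x =>
      if hx : x ∈ U then plV f b (γ ⟨x, hx⟩) else 0
    have hΦ : ∑ l, cl l • plV f b (γ ⟨G2 l, hU2 l⟩) = ∑ i, c0 i • plV f b (γ ⟨G02 i, hU0 i⟩) := by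
      have hc2 := congrArg (fRes f M g₂) hcomb
      rw [fRes_comb, fRes_comb] at hc2
      have := congrArg (fun φ : Gen f M T₂ →₀ O_C.obj.obj (op T₂) =>
        φ.sum fun x t => (O_C.obj.map h.op).hom t • Φ x) hc2
      simp only [comb] at this
      rw [← Finsupp.sum_finset_sum_index (fun x => by rw [map_zero, zero_smul])
          (fun x t t' => by rw [map_add, add_smul]),
        ← Finsupp.sum_finset_sum_index (fun x => by rw [map_zero, zero_smul])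
          (fun x t t' => by rw [map_add, add_smul])] at this
      refine Eq.trans (Finset.sum_congr rfl fun l _ => ?_) (this.trans (Finset.sum_congr rfl fun i _ => ?_))
      · rw [Finsupp.sum_single_index (by rw [map_zero, zero_smul])]
        show _ = _ • Φ (G2 l)
        rw [show Φ (G2 l) = plV f b (γ ⟨G2 l, hU2 l⟩) from dif_pos (hU2 l), ← map_ring_comp]
      · rw [Finsupp.sum_single_index (by rw [map_zero, zero_smul]),
          show ((G₀ i).res g₁).res g₂ = G02 i from (Gen.res_comp g₂ g₁ (G₀ i)).symm,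
          show Φ (G02 i) = plV f b (γ ⟨G02 i, hU0 i⟩) from dif_pos (hU0 i), ← map_ring_comp, ← map_ring_comp]
        simp only [c0, Category.assoc]
    have hsub : ∀ (x y : I →₀ O_D.obj.obj (op V)), plV f b (x - y) = plV f b x - plV f b y := fun x y =>
      Finsupp.ext fun i => by simp [plV]
    simp only [hsub, smul_sub, Finset.sum_sub_distrib, neg_smul, Finset.sum_neg_distrib]
    rw [hAsum, hone, hΦ]
    simp only [h, Category.assoc]
    abel

end Groth.Agent.LocPres
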