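import Groth.Agent.LocPres.Space
import Mathlib.RingTheory.LocalRing.Module

/-!
# Retracts of finite locally free modules on a space with local stalks
-/

set_option autoImplicit false
set_option linter.style.haveILetI false
set_option linter.dupNamespace false

universe u

open CategoryTheory CategoryTheory.Limits Opposite ModSite TopologicalSpace

namespace Groth.Agent.LocPres

open Groth.Agent.ModFlat (rs map_val_smul map_val_comp map_ring_comp Refines germ_rs germRing_res exists_germ
  exists_germRing exists_eq_of_germ_eq exists_eq_of_germRing_eq)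
open Groth.Agent.PullFlat

variable {X : TopCat.{u}} {O : Sheaf (Opens.grothendieckTopology X) CommRingCat.{u}}

theorem isUnit_germRing {x : X} {V : Opens X} (hV : x ∈ V) (r : O.obj.obj (op V))
    (h : IsUnit ((TopCat.Presheaf.germ (C := CommRingCat.{u}) O.obj V x hV).hom r)) :
    IsUnit (germRing (Opens.pointGrothendieckTopology x) V (ptIn hV) r) := by
  obtain ⟨b, hb⟩ := h.exists_right_inv
  obtain ⟨W, hxW, s, rfl⟩ := TopCat.Presheaf.exists_germ_eq (C := CommRingCat.{u}) O.obj b
  let V' := V ⊓ W
  have hx' : x ∈ V' := ⟨hV, hxW⟩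
  let iV : V' ⟶ V := homOfLE inf_le_left
  let iW : V' ⟶ W := homOfLE inf_le_right
  have h1 : (TopCat.Presheaf.germ (C := CommRingCat.{u}) O.obj V' x hx').hom
      ((O.obj.map iV.op).hom r * (O.obj.map iW.op).hom s) =
      (TopCat.Presheaf.germ (C := CommRingCat.{u}) O.obj V' x hx').hom 1 := by
    rw [map_mul, map_one, ← hb]
    exact congrArg₂ (· * ·) (TopCat.Presheaf.germ_res_apply (C := CommRingCat.{u}) O.obj iV x hx' r)
      (TopCat.Presheaf.germ_res_apply (C := CommRingCat.{u}) O.obj iW x hx' s)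
  obtain ⟨W', hxW', i₁, i₂, hW'⟩ := TopCat.Presheaf.germ_eq (C := CommRingCat.{u}) O.obj x hx' hx' _ _ h1
  have h2 : (O.obj.map (i₁ ≫ iV).op).hom r * (O.obj.map (i₁ ≫ iW).op).hom s = 1 := by
    rw [map_ring_comp, map_ring_comp, ← map_mul]
    exact hW'.trans (map_one (O.obj.map i₂.op).hom)
  rw [← germRing_res (p := Opens.pointGrothendieckTopology x) (x := ptIn hV) (g := i₁ ≫ iV) (v := ptIn hxW') rfl r]
  exact (IsUnit.of_mul_eq_one _ h2).map ((Opens.pointGrothendieckTopology x).toPresheafFiber W' (ptIn hxW') O.obj).hom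

theorem nontrivial_stalkRing {x : X} (hO : Nontrivial (TopCat.Presheaf.stalk (C := CommRingCat.{u}) O.obj x)) :
    Nontrivial (stalkRing (Opens.pointGrothendieckTopology x) O) := by
  let p := Opens.pointGrothendieckTopology x
  by_contra hn
  rw [not_nontrivial_iff_subsingleton] at hn
  have h01 : germRing (O := O) p ⊤ (ptIn (show x ∈ (⊤ : Opens X) from trivial)) 0 = germRing p ⊤ (ptIn trivial) 1 :=
    Subsingleton.elim _ _
  obtain ⟨V, g, v, -, hV⟩ := exists_eq_of_germRing_eq _ h01
  rw [map_zero, map_one] at hV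
  exact zero_ne_one ((map_zero (TopCat.Presheaf.germ (C := CommRingCat.{u}) O.obj V x (mem_of_fiber v)).hom).symm.trans
    ((congrArg _ hV).trans (map_one (TopCat.Presheaf.germ (C := CommRingCat.{u}) O.obj V x (mem_of_fiber v)).hom)))

/-- The two notions of local stalks agree. -/
theorem isLocalRing_stalkRing {x : X} (hO : IsLocalRing (TopCat.Presheaf.stalk (C := CommRingCat.{u}) O.obj x)) :
    IsLocalRing (stalkRing (Opens.pointGrothendieckTopology x) O) := by
  let p := Opens.pointGrothendieckTopology x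
  haveI := nontrivial_stalkRing (O := O) (x := x) inferInstance
  refine IsLocalRing.of_isUnit_or_isUnit_one_sub_self fun a => ?_
  obtain ⟨V, v, r, rfl⟩ := p.toPresheafFiber_jointly_surjective (P := O.obj) a
  rcases IsLocalRing.isUnit_or_isUnit_one_sub_self
      ((TopCat.Presheaf.germ (C := CommRingCat.{u}) O.obj V x (mem_of_fiber v)).hom r) with h | h
  · exact Or.inl (isUnit_germRing _ r h)
  · refine Or.inr ?_
    have e : (p.toPresheafFiber V v O.obj).hom (1 - r) = 1 - (p.toPresheafFiber V v O.obj).hom r := by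
      rw [map_sub, map_one]
    refine e ▸ isUnit_germRing (mem_of_fiber v) (1 - r) ?_
    rw [map_sub, map_one]
    exact h

theorem stalkMap_comp_apply {F G H : Mod O} (p : GrothendieckTopology.Point.{u} (Opens.grothendieckTopology X))
    (φ : F ⟶ G) (ψ : G ⟶ H) (m : stalkMod p F) :
    (stalkMap p (φ ≫ ψ)).hom m = (stalkMap p ψ).hom ((stalkMap p φ).hom m) := by
  obtain ⟨V, v, s, rfl⟩ := p.toPresheafFiber_jointly_surjective (P := (toAb F).obj) m
  change (stalkMap p (φ ≫ ψ)).hom (germ p F V v s) = (stalkMap p ψ).hom ((stalkMap p φ).hom (germ p F V v s))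
  rw [stalkMap_germ, stalkMap_germ, stalkMap_germ, appS_comp]

theorem stalkMap_id_apply {F : Mod O} (p : GrothendieckTopology.Point.{u} (Opens.grothendieckTopology X))
    (m : stalkMod p F) : (stalkMap p (𝟙 F)).hom m = m := by
  obtain ⟨V, v, s, rfl⟩ := p.toPresheafFiber_jointly_surjective (P := (toAb F).obj) m
  change (stalkMap p (𝟙 F)).hom (germ p F V v s) = germ p F V v s
  rw [stalkMap_germ]
  rfl

theorem isFinitePresentation_of_frames {H : Mod O}
    (hH : ∀ x : X, ∃ (U : Opens X) (n : ℕ) (t : ULift.{u} (Fin n) → sect H U), x ∈ U ∧ IsGen t ∧ IsIndep t) :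
    SheafOfModules.IsFinitePresentation (R := ringSh O) H := by
  refine isFinitePresentation_of_cover fun W => ?_
  let P : Opens X → Prop := fun V => Nonempty (LocPres H V)
  refine ⟨Sieve.generate (fun V (_ : V ⟶ W) => P V), fun x hx => ?_, ?_⟩
  · obtain ⟨U, n, t, hxU, htg, hti⟩ := hH x
    refine ⟨U ⊓ W, homOfLE inf_le_right, Sieve.le_generate _ _ _ ?_, hxU, hx⟩
    let q : U ⊓ W ⟶ U := homOfLE inf_le_left
    have hg := isGen_restrict htg q
    have hi := isIndep_restrict hti q
    refine ⟨⟨n, 0, fun i => rs H q (t ⟨i⟩), fun k => k.elim0, fun k => k.elim0, fun {T} a y => ?_, fun {T} a c hc => ?_⟩⟩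
    · obtain ⟨S, hS, hS'⟩ := hg a y
      refine ⟨S, hS, fun V g hgS => ?_⟩
      obtain ⟨c, hc⟩ := hS' g hgS
      refine ⟨fun i => c ⟨i⟩, Eq.trans ?_ hc⟩
      rw [combS_eq_sum]
      exact (Fintype.sum_equiv Equiv.ulift _ _ fun i => rfl).symm
    · obtain ⟨S, hS, hS'⟩ := hi a (Finsupp.equivFunOnFinite.symm fun i => c i.down) (by
        refine Eq.trans ?_ hc
        rw [combS_eq_sum]
        exact Fintype.sum_equiv Equiv.ulift _ _ fun i => rfl)
      exact ⟨S, hS, fun V g hgS => ⟨fun k => k.elim0, fun i => by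
        rw [Finset.univ_eq_empty, Finset.sum_empty]
        exact hS' g hgS ⟨i⟩⟩⟩
  · rintro V g ⟨V', a, b, ⟨Q⟩, rfl⟩
    exact ⟨Q.restrict a⟩

/-- A retract of a finite locally free module is finite locally free. -/
theorem exists_frame_of_retract (hO : ∀ x : X, IsLocalRing (TopCat.Presheaf.stalk (C := CommRingCat.{u}) O.obj x))
    {F H : Mod O}
    (hH : ∀ x : X, ∃ (U : Opens X) (n : ℕ) (t : ULift.{u} (Fin n) → sect H U), x ∈ U ∧ IsGen t ∧ IsIndep t)
    (i : F ⟶ H) (p : H ⟶ F) (hip : i ≫ p = 𝟙 F) (x : X) :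
    ∃ (U : Opens X) (n : ℕ) (t : ULift.{u} (Fin n) → sect F U), x ∈ U ∧ IsGen t ∧ IsIndep t := by
  haveI := isFinitePresentation_of_frames hH
  haveI : SheafOfModules.IsFiniteType (R := ringSh O) H := inferInstance
  haveI : SheafOfModules.IsFinitePresentation (R := ringSh O) F := by
    have hfp := isFinitePresentation_cokernel (𝟙 H - p ≫ i)
    have e : cokernel (𝟙 H - p ≫ i) ≅ F :=
      { hom := cokernel.desc _ p (by rw [Preadditive.sub_comp, Category.id_comp, Category.assoc, hip, Category.comp_id, sub_self])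
        inv := i ≫ cokernel.π _
        hom_inv_id := coequalizer.hom_ext (by
          have := cokernel.condition (𝟙 H - p ≫ i)
          rw [Preadditive.sub_comp, Category.id_comp, sub_eq_zero, Category.assoc] at this
          simp [← this])
        inv_hom_id := by simp [hip] }
    exact (SheafOfModules.isFinitePresentation (R := ringSh O)).prop_of_iso e hfp
  let pt := Opens.pointGrothendieckTopology x
  haveI := isLocalRing_stalkRing (hO x)
  obtain ⟨U, n, t, hxU, htg, hti⟩ := hH x
  let b := Module.Basis.mk (linearIndependent_germ pt hti (ptIn hxU)) (span_germ_eq_top pt htg (ptIn hxU)).ge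
  haveI : Module.Free (stalkRing pt O) (stalkMod pt H) := Module.Free.of_basis b
  haveI : Module.Finite (stalkRing pt O) (stalkMod pt H) := Module.Finite.of_basis b
  have hsplit : (stalkMap pt p).hom.comp (stalkMap pt i).hom = LinearMap.id := LinearMap.ext fun m => by
    show (stalkMap pt p).hom ((stalkMap pt i).hom m) = m
    rw [← stalkMap_comp_apply, hip, stalkMap_id_apply]
  haveI : Module.Projective (stalkRing pt O) (stalkMod pt F) := Module.Projective.of_split _ _ hsplit
  haveI : Module.Finite (stalkRing pt O) (stalkMod pt F) :=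
    Module.Finite.of_surjective (stalkMap pt p).hom fun m => ⟨_, LinearMap.congr_fun hsplit m⟩
  haveI : Module.Free (stalkRing pt O) (stalkMod pt F) := Module.free_of_flat_of_isLocalRing
  let r := Module.finrank (stalkRing pt O) (stalkMod pt F)
  obtain ⟨V, hxV, s, hsg, hsi⟩ :=
    exists_frame_nhd (F := F) x r (Module.finBasis (stalkRing pt O) (stalkMod pt F)).equivFun
  exact ⟨V, r, s, hxV, hsg, hsi⟩

end Groth.Agent.LocPres
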