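import Groth.Agent.LocPres.TensorPres

/-!
# Permanence of properties under tensor products
-/

set_option autoImplicit false
set_option linter.style.haveILetI false
set_option linter.dupNamespace false

universe u

open CategoryTheory CategoryTheory.Limits Opposite ModSite

attribute [local instance] Classical.propDecidable

namespace Groth.Agent.LocPres

open Groth.Agent.ModFlat (rs map_val_smul map_val_comp map_ring_comp)
open Groth.Agent.PullFlat

variable {C : Type u} [SmallCategory C] {J : GrothendieckTopology C} {O : Sheaf J CommRingCat.{u}}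
  {F G : Mod O} {X : C}

/-- Finitely many generators. -/
theorem nonempty_locGen_of_isGen {I : Type u} [Finite I] {s : I → sect F X} (h : IsGen s) :
    Nonempty (LocGen F X) := by
  haveI := Fintype.ofFinite I
  let e := Fintype.equivFin I
  refine ⟨⟨Fintype.card I, fun j => s (e.symm j), fun {T} a x => ?_⟩⟩
  obtain ⟨S, hS, hS'⟩ := h a x
  refine ⟨S, hS, fun V g hg => ?_⟩
  obtain ⟨c, hc⟩ := hS' g hg
  refine ⟨fun j => c (e.symm j), Eq.trans ?_ hc⟩
  rw [combS_eq_sum]
  exact Fintype.sum_equiv e.symm _ _ fun j => rfl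

/-- A presentation from finitely many generators and relations. -/
theorem LocPres.exists_gPres (P : LocPres F X) : ∃ Q : GPres F X, Finite Q.I ∧ Finite Q.K := by
  let I := ULift.{u} (Fin P.n)
  let r : ULift.{u} (Fin P.m) → ∀ {T : C}, (T ⟶ X) → (I →₀ O.obj.obj (op T)) := fun k T a =>
    Finsupp.equivFunOnFinite.symm fun i => (O.obj.map a.op).hom (P.r k.down i.down)
  have hr : ∀ {M : Mod O} (s : I → sect M X) (k : ULift.{u} (Fin P.m)) {T : C} (a : T ⟶ X),
      combS s a (r k a) = rs M a (combS s (𝟙 X) (r k (𝟙 X))) := fun {M} s k {T} a => by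
    rw [combS_res, Category.comp_id]
    refine congrArg (combS s a) (Finsupp.ext fun i => Eq.trans ?_ Finsupp.mapRange_apply.symm)
    show (O.obj.map a.op).hom _ = (O.obj.map a.op).hom ((O.obj.map (𝟙 X).op).hom _)
    rw [← map_ring_comp, Category.comp_id]
  have hs : ∀ k {T : C} (a : T ⟶ X), combS (fun i : I => P.s i.down) a (r k a) = 0 := fun k T a => by
    rw [combS_eq_sum]
    have h0 := congrArg (rs F a) (P.rel k.down)
    rw [map_sum, map_zero] at h0
    refine Eq.trans ?_ h0
    exact Fintype.sum_equiv Equiv.ulift _ _ fun i => (map_val_smul a _ _).symm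
  refine ⟨⟨(SheafOfModules.free (R := ringSh O) I : Mod O), I, ULift.{u} (Fin P.m), freeT O X I, fun i => P.s i.down,
    fun k => combS (freeT O X I) (𝟙 X) (r k (𝟙 X)), isGen_freeT, isIndep_freeT, P.toGen.isGen,
    fun T a c k h => ?_, fun T a c h => ?_⟩, (inferInstance : Finite (ULift.{u} (Fin P.n))), (inferInstance : Finite (ULift.{u} (Fin P.m)))⟩
  · exact (combS_eq_of_indep isIndep_freeT _ a (h.trans (hr _ k a).symm)).trans (hs k a)
  · obtain ⟨S, hS, hS'⟩ := P.relgen a (fun i => c ⟨i⟩) (by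
      refine Eq.trans ?_ h
      rw [combS_eq_sum]
      exact Fintype.sum_equiv Equiv.ulift.symm _ _ fun i => rfl)
    refine ⟨S, hS, fun V g hg => ?_⟩
    obtain ⟨b, hb⟩ := hS' g hg
    refine ⟨Finsupp.equivFunOnFinite.symm fun k => b k.down, ?_⟩
    rw [combS_eq_sum, combS_res]
    simp only [← hr, ← map_smul, ← map_sum]
    refine congrArg (combS (freeT O X I) (g ≫ a)) (Finsupp.ext fun i => ?_)
    refine Eq.trans ?_ ((hb i.down).symm.trans Finsupp.mapRange_apply.symm)
    rw [Finsupp.finsetSum_apply]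
    exact Fintype.sum_equiv Equiv.ulift _ _ fun k => rfl

/-- Presentations with finitely many generators and relations are finite presentations locally. -/
theorem GPres.exists_cover_locPres' (P : GPres F X) [Finite P.I] [Finite P.K] :
    ∃ S ∈ J X, ∀ ⦃Y : C⦄ (p : Y ⟶ X), S p → Nonempty (LocPres F Y) := by
  haveI := Fintype.ofFinite P.I
  haveI := Fintype.ofFinite P.K
  let eI := Fintype.equivFin P.I
  let eK := Fintype.equivFin P.K
  obtain ⟨S, hS, hS'⟩ := exists_cover_forall (J := J) (fun (k : Fin (Fintype.card P.K)) (Y : C) (p : Y ⟶ X) =>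
      ∃ c : P.I →₀ O.obj.obj (op Y), combS P.t p c = rs P.G p (P.z (eK.symm k))) fun k => by
    obtain ⟨S, hS, hS'⟩ := P.tgen (𝟙 X) (P.z (eK.symm k))
    refine ⟨S, hS, fun Y p hp => ?_⟩
    obtain ⟨c, hc⟩ := hS' p hp
    exact ⟨c, by rwa [Category.comp_id] at hc⟩
  refine ⟨S, hS, fun Y p hp => ?_⟩
  choose r hr using hS' p hp
  refine ⟨⟨Fintype.card P.I, Fintype.card P.K, fun j => rs F p (P.s (eI.symm j)), fun k j => r k (eI.symm j),
    fun k => ?_, fun {T} a x => ?_, fun {T} a c hc => ?_⟩⟩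
  · refine Eq.trans ?_ (P.vanish p (r k) _ (hr k))
    rw [combS_eq_sum]
    exact Fintype.sum_equiv eI.symm _ _ fun j => rfl
  · obtain ⟨S₁, hS₁, hS₁'⟩ := P.sgen (a ≫ p) x
    refine ⟨S₁, hS₁, fun V g hg => ?_⟩
    obtain ⟨d, hd⟩ := hS₁' g hg
    refine ⟨fun j => d (eI.symm j), Eq.trans ?_ hd⟩
    rw [combS_eq_sum, ← Category.assoc]
    exact Fintype.sum_equiv eI.symm _ _ fun j => congrArg (_ • ·) (map_val_comp _ _ _).symm
  · let c' : P.I →₀ O.obj.obj (op T) := Finsupp.equivFunOnFinite.symm fun i => c (eI i)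
    obtain ⟨S₁, hS₁, hS₁'⟩ := P.gen (a ≫ p) c' (by
      refine Eq.trans ?_ hc
      rw [combS_eq_sum]
      refine Fintype.sum_equiv eI _ _ fun i => ?_
      show c (eI i) • _ = c (eI i) • rs F a (rs F p (P.s (eI.symm (eI i))))
      rw [Equiv.symm_apply_apply, ← map_val_comp])
    refine exists_cover_bind _ hS₁ fun V g hg => ?_
    obtain ⟨d, hd⟩ := hS₁' g hg
    let R : P.I →₀ O.obj.obj (op V) := ∑ k, d (eK.symm k) • (r k).mapRange (O.obj.map (g ≫ a).op).hom (map_zero _)
    have e1 : combS P.t (g ≫ a ≫ p) (c'.mapRange (O.obj.map g.op).hom (map_zero _) - R) = 0 := by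
      rw [map_sub, ← combS_res, ← hd, sub_eq_zero, combS_eq_sum, map_sum]
      refine Fintype.sum_equiv eK _ _ fun k => ?_
      rw [map_smul, Equiv.symm_apply_apply, ← Category.assoc g a p, ← combS_res, hr, Equiv.symm_apply_apply,
        map_val_comp (g ≫ a) p]
    obtain ⟨S₂, hS₂, hS₂'⟩ := P.tindep (g ≫ a ≫ p) _ e1
    refine ⟨S₂, hS₂, fun W h hh => ⟨fun k => (O.obj.map h.op).hom (d (eK.symm k)), fun j => ?_⟩⟩
    have e2 := hS₂' h hh (eI.symm j)
    rw [Finsupp.sub_apply, map_sub, sub_eq_zero] at e2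
    simp only [R, Finsupp.finsetSum_apply, Finsupp.smul_apply, Finsupp.mapRange_apply, smul_eq_mul, map_sum,
      map_mul, ← map_ring_comp] at e2
    simp only [← Category.assoc] at e2
    refine Eq.trans ?_ e2
    exact congrArg (fun i => (O.obj.map (h ≫ g).op).hom (c i)) (eI.apply_symm_apply j).symm

variable (F G)

/-- Products of generators. -/
theorem nonempty_localGeneratorsData_tensor
    (hF : Nonempty (SheafOfModules.LocalGeneratorsData.{u} (R := ringSh O) F))
    (hG : Nonempty (SheafOfModules.LocalGeneratorsData.{u} (R := ringSh O) G)) :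
    Nonempty (SheafOfModules.LocalGeneratorsData.{u} (R := ringSh O) (tens₂ F G)) := by
  obtain ⟨p⟩ := hF
  obtain ⟨q⟩ := hG
  refine nonempty_localGeneratorsData_of_cover fun U =>
    ⟨_, J.intersection_covering (p.coversTop U) (q.coversTop U), fun V g hg => ?_⟩
  obtain ⟨i, ⟨a⟩⟩ := (Sieve.mem_ofObjects_iff ..).mp hg.1
  obtain ⟨j, ⟨b⟩⟩ := (Sieve.mem_ofObjects_iff ..).mp hg.2
  exact ⟨_, _, isGen_pair (isGen_restrict (isGen_of_generatingSections (p.generators i)) a)
    (isGen_restrict (isGen_of_generatingSections (q.generators j)) b)⟩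

theorem isLocallyFree_tensor [SheafOfModules.IsLocallyFree (R := ringSh O) F]
    [SheafOfModules.IsLocallyFree (R := ringSh O) G] :
    SheafOfModules.IsLocallyFree (R := ringSh O) (tens₂ F G) := by
  obtain ⟨p, hp⟩ := SheafOfModules.IsLocallyFree.exists_isLocallyFreeData (M := F)
  obtain ⟨q, hq⟩ := SheafOfModules.IsLocallyFree.exists_isLocallyFreeData (M := G)
  refine isLocallyFree_of_cover fun U =>
    ⟨_, J.intersection_covering (p.coversTop U) (q.coversTop U), fun V g hg => ?_⟩
  obtain ⟨i, ⟨a⟩⟩ := (Sieve.mem_ofObjects_iff ..).mp hg.1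
  obtain ⟨j, ⟨b⟩⟩ := (Sieve.mem_ofObjects_iff ..).mp hg.2
  haveI := hp.isIso i
  haveI := hq.isIso j
  have hs := isGen_restrict (isGen_of_generatingSections (p.generators i)) a
  have hsi := isIndep_restrict (isIndep_of_generatingSections (p.generators i)) a
  have ht := isGen_restrict (isGen_of_generatingSections (q.generators j)) b
  have hti := isIndep_restrict (isIndep_of_generatingSections (q.generators j)) b
  exact ⟨_, _, isGen_pair hs ht, isIndep_pair hs hsi ht hti⟩

theorem isQuasicoherent_tensor [SheafOfModules.IsQuasicoherent (R := ringSh O) F]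
    [SheafOfModules.IsQuasicoherent (R := ringSh O) G] :
    SheafOfModules.IsQuasicoherent (R := ringSh O) (tens₂ F G) :=
  isQuasicoherent_of_cover fun U => by
    obtain ⟨S, hS, hS'⟩ := exists_cover_gPres F U
    obtain ⟨T, hT, hT'⟩ := exists_cover_gPres G U
    refine ⟨S ⊓ T, J.intersection_covering hS hT, fun V g hg => ?_⟩
    obtain ⟨P⟩ := hS' g hg.1
    obtain ⟨Q⟩ := hT' g hg.2
    exact ⟨P.tensor Q⟩

theorem isFiniteType_tensor [SheafOfModules.IsFiniteType (R := ringSh O) F]
    [SheafOfModules.IsFiniteType (R := ringSh O) G] :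
    SheafOfModules.IsFiniteType (R := ringSh O) (tens₂ F G) :=
  isFiniteType_of_cover fun U => by
    obtain ⟨S, hS, hS'⟩ := exists_cover_locGen F U
    obtain ⟨T, hT, hT'⟩ := exists_cover_locGen G U
    refine ⟨S ⊓ T, J.intersection_covering hS hT, fun V g hg => ?_⟩
    obtain ⟨P⟩ := hS' g hg.1
    obtain ⟨Q⟩ := hT' g hg.2
    exact nonempty_locGen_of_isGen (isGen_pair P.isGen Q.isGen)

theorem isFinitePresentation_tensor [SheafOfModules.IsFinitePresentation (R := ringSh O) F]
    [SheafOfModules.IsFinitePresentation (R := ringSh O) G] :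
    SheafOfModules.IsFinitePresentation (R := ringSh O) (tens₂ F G) :=
  isFinitePresentation_of_cover fun U => by
    obtain ⟨S, hS, hS'⟩ := exists_cover_locPres F U
    obtain ⟨T, hT, hT'⟩ := exists_cover_locPres G U
    refine exists_cover_bind _ (J.intersection_covering hS hT) fun V g hg => ?_
    obtain ⟨P₀⟩ := hS' g hg.1
    obtain ⟨Q₀⟩ := hT' g hg.2
    obtain ⟨P, hPI, hPK⟩ := P₀.exists_gPres
    obtain ⟨Q, hQI, hQK⟩ := Q₀.exists_gPres
    haveI : Finite (P.tensor Q).I := inferInstanceAs (Finite (P.I × Q.I))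
    haveI : Finite (P.tensor Q).K := inferInstanceAs (Finite ((P.K × Q.I) ⊕ (P.I × Q.K)))
    exact (P.tensor Q).exists_cover_locPres'

end Groth.Agent.LocPres
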